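import Groth.Agent.Lib.LocCoh.Seq
import Groth.Agent.Lib.InjHull.Torsion
import Mathlib.RingTheory.Ideal.Operations
import Mathlib.RingTheory.Noetherian.Basic

/-!
# Change of ideals, acyclicity, and sums of ideals in local cohomology
-/

universe u

open CategoryTheory Opposite Limits Groth.Agent.InjHullLib

noncomputable section

namespace Groth.Agent.LocCohLib

variable {R : Type u} [CommRing R] [IsNoetherianRing R]

theorem powTors_le_of_radical {I J : Ideal R} (h : J ≤ I.radical) (M : Type u) [AddCommGroup M]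
    [Module R M] : powTors I M ≤ powTors J M := by
  intro x hx
  obtain ⟨n, hn⟩ := mem_powTors_iff.1 hx
  obtain ⟨r, hr⟩ := Ideal.exists_pow_le_of_le_radical_of_fg h (IsNoetherian.noetherian J)
  refine mem_powTors_iff.2 ⟨r * n, fun a ha => hn a ?_⟩
  rw [pow_mul] at ha
  exact Ideal.pow_right_mono hr n ha

theorem powTors_le_of_radical_sup {I J K : Ideal R} (h : J ≤ (I ⊔ K).radical) {M : Type u}
    [AddCommGroup M] [Module R M] (hM : LocCoh.IsPowerTorsion K M) :
    powTors I M ≤ powTors J M := by
  intro x hx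
  obtain ⟨n, hn⟩ := mem_powTors_iff.1 hx
  obtain ⟨m, hm⟩ := hM x
  refine powTors_le_of_radical h M (mem_powTors_iff.2 ⟨n + m, fun a ha => ?_⟩)
  obtain ⟨b, hb, c, hc, rfl⟩ := Submodule.mem_sup.1 (Ideal.sup_pow_add_le_pow_sup_pow ha)
  rw [add_smul, hn b hb, hm c hc, add_zero]

omit [IsNoetherianRing R] in
/-- The `H^1` comparison. -/
theorem nonempty_congr_one {A B C : Type u} [AddCommGroup A] [Module R A] [AddCommGroup B]
    [Module R B] [AddCommGroup C] [Module R C] {f : A →ₗ[R] B} {g : B →ₗ[R] C}
    (hf : Function.Injective f) (hg : Function.Surjective g) (hfg : Function.Exact f g)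
    (I J : Ideal R) (hI : Subsingleton (LocCoh.H I 1 B)) (hJ : Subsingleton (LocCoh.H J 1 B))
    (hB : powTors I B = powTors J B) (hC : powTors I C = powTors J C) :
    Nonempty (LocCoh.H I 1 A ≃ₗ[R] LocCoh.H J 1 A) := by
  obtain ⟨e1⟩ := nonempty_h1Equiv I hf hg hfg hI
  obtain ⟨e2⟩ := nonempty_h1Equiv J hf hg hfg hJ
  have hmap : (torsImage I g).map (LinearEquiv.ofEq _ _ hC).toLinearMap = torsImage J g := by
    ext c
    rw [Submodule.mem_map, mem_torsImage]
    constructor
    · rintro ⟨c', hc', rfl⟩
      rw [mem_torsImage, hB] at hc'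
      obtain ⟨b, hb, hbc⟩ := hc'
      exact ⟨b, hb, hbc.trans (LinearEquiv.coe_ofEq_apply hC c').symm⟩
    · rintro ⟨b, hb, hbc⟩
      refine ⟨(LinearEquiv.ofEq _ _ hC).symm c, ?_, (LinearEquiv.ofEq _ _ hC).apply_symm_apply c⟩
      rw [mem_torsImage, hB]
      refine ⟨b, hb, hbc.trans ?_⟩
      rw [LinearEquiv.ofEq_symm, LinearEquiv.coe_ofEq_apply]
  exact ⟨e1.symm ≪≫ₗ Submodule.Quotient.equiv _ _ (LinearEquiv.ofEq _ _ hC) hmap ≪≫ₗ e2⟩

/-- Two ideals cutting the same torsion on a torsion class have the same local cohomology there. -/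
theorem nonempty_congr_torsion (I J K : Ideal R)
    (h : ∀ (M : Type u) [AddCommGroup M] [Module R M], LocCoh.IsPowerTorsion K M →
      powTors I M = powTors J M) (i : ℕ) :
    ∀ (M : Type u) [AddCommGroup M] [Module R M], LocCoh.IsPowerTorsion K M →
      Nonempty (LocCoh.H I i M ≃ₗ[R] LocCoh.H J i M) := by
  induction i with
  | zero =>
    intro M _ _ hM
    exact ⟨zeroEquiv I M ≪≫ₗ LinearEquiv.ofEq _ _ (h M hM) ≪≫ₗ (zeroEquiv J M).symm⟩
  | succ i ih =>
    intro M _ _ hM
    obtain ⟨E, _, _, f, hE, hEt, hf⟩ := exists_powerTorsion_embedding K hM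
    have := Module.injective_object_of_injective_module R E
    have hg : Function.Surjective (LinearMap.range f).mkQ := Submodule.mkQ_surjective _
    have hfg : Function.Exact f (LinearMap.range f).mkQ := f.exact_map_mkQ_range
    have hC := isPowerTorsion_of_surjective K _ hg hEt
    have hac : ∀ (L : Ideal R) (j : ℕ), Subsingleton (LocCoh.H L (j + 1) E) :=
      fun L j => subsingleton_succ_of_injective L j _
    cases i with
    | zero => exact nonempty_congr_one hf hg hfg I J (hac I 0) (hac J 0) (h E hEt) (h _ hC)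
    | succ i =>
      obtain ⟨e⟩ := ih (E ⧸ LinearMap.range f) hC
      exact ⟨(δEquiv I hf hg hfg (i + 1) (hac I i) (hac I (i + 1))).symm ≪≫ₗ e ≪≫ₗ
        δEquiv J hf hg hfg (i + 1) (hac J i) (hac J (i + 1))⟩

/-- Local cohomology only depends on the radical. -/
theorem nonempty_congr_radical {I J : Ideal R} (hIJ : I ≤ J.radical) (hJI : J ≤ I.radical) (i : ℕ)
    (M : Type u) [AddCommGroup M] [Module R M] :
    Nonempty (LocCoh.H I i M ≃ₗ[R] LocCoh.H J i M) :=
  nonempty_congr_torsion I J ⊥ (fun N _ _ _ => le_antisymm (powTors_le_of_radical hJI N)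
    (powTors_le_of_radical hIJ N)) i M fun _ => ⟨1, fun a ha => by
      rw [pow_one, Ideal.mem_bot] at ha; rw [ha, zero_smul]⟩

/-- On `K`-torsion modules `H_{I+K} = H_I`. -/
theorem nonempty_congr_sup (I K : Ideal R) (i : ℕ) (M : Type u) [AddCommGroup M] [Module R M]
    (hM : LocCoh.IsPowerTorsion K M) : Nonempty (LocCoh.H (I ⊔ K) i M ≃ₗ[R] LocCoh.H I i M) :=
  nonempty_congr_torsion (I ⊔ K) I K (fun N _ _ hN => le_antisymm
    (powTors_le_of_radical (le_sup_left.trans Ideal.le_radical) N)
    (powTors_le_of_radical_sup (J := I ⊔ K) Ideal.le_radical hN)) i M hM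

/-- Vanishing of all local cohomology along `J` passes to smaller closed sets. -/
theorem subsingleton_of_forall_subsingleton {J I : Ideal R} (hJI : J ≤ I.radical) (M : Type u)
    [AddCommGroup M] [Module R M] (h : ∀ q, Subsingleton (LocCoh.H J q M)) (q : ℕ) :
    Subsingleton (LocCoh.H I q M) :=
  (vanishing_below_iff I (ModuleCat.of R M) (q + 1)).2 (fun N _ _ _ hN =>
    (vanishing_below_iff J (ModuleCat.of R M) (q + 1)).1 (fun i _ => h i) N
      (hN.trans ((PrimeSpectrum.zeroLocus_anti_mono_ideal hJI).trans'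
        (PrimeSpectrum.zeroLocus_radical I).ge))) q (Nat.lt_succ_self q)

omit [IsNoetherianRing R] in
/-- An element of `I` acting bijectively kills all local cohomology along `I`. -/
theorem subsingleton_of_smul_bijective {I : Ideal R} {b : R} (hb : b ∈ I) (M : Type u)
    [AddCommGroup M] [Module R M] (hbij : Function.Bijective fun x : M => b • x) (q : ℕ) :
    Subsingleton (LocCoh.H I q M) := by
  let e : M ≃ₗ[R] M := LinearEquiv.ofBijective (b • LinearMap.id) hbij
  refine subsingleton_of_forall_eq 0 fun x => ?_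
  obtain ⟨n, hn⟩ := isPowerTorsion I q M x
  have hinj : ∀ k (y : LocCoh.H I q M), b ^ k • y = 0 → y = 0 := fun k => by
    induction k with
    | zero => intro y hy; rwa [pow_zero, one_smul] at hy
    | succ k ih =>
      intro y hy
      rw [pow_succ, mul_smul] at hy
      have h1 := ih _ hy
      refine (hcongr I q e).injective ?_
      rw [map_zero]
      change hmap I q (b • LinearMap.id) y = 0
      rw [hmap_smul, hmap_id]
      exact h1
  exact hinj n x (hn _ (Ideal.pow_mem_pow hb n))

omit [IsNoetherianRing R] in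
/-- `M ⧸ Γ_{(b)} M` has no `b`-torsion. -/
theorem isSMulRegular_quotient_powTors (b : R) (M : Type u) [AddCommGroup M] [Module R M] :
    IsSMulRegular (M ⧸ powTors (Ideal.span {b}) M) b := by
  refine IsSMulRegular.of_right_eq_zero_of_smul fun x hx => ?_
  obtain ⟨x, rfl⟩ := Submodule.Quotient.mk_surjective _ x
  rw [← Submodule.Quotient.mk_smul, Submodule.Quotient.mk_eq_zero] at hx
  obtain ⟨n, hn⟩ := mem_powTors_iff.1 hx
  rw [Submodule.Quotient.mk_eq_zero]
  refine mem_powTors_iff.2 ⟨n + 1, fun a ha => ?_⟩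
  rw [Ideal.span_singleton_pow, Ideal.mem_span_singleton'] at ha
  obtain ⟨c, rfl⟩ := ha
  have h2 := hn (b ^ n) (Ideal.pow_mem_pow (Ideal.mem_span_singleton_self b) n)
  rw [mul_smul, pow_succ, mul_smul, h2, smul_zero]

omit [IsNoetherianRing R] in
theorem subsingleton_torsionFree_part (b : R) (M : Type u) [AddCommGroup M] [Module R M]
    (h : ∀ y : M, ∃ z : M, b • z - y ∈ powTors (Ideal.span {b}) M) {I : Ideal R} (hI : b ∈ I)
    (q : ℕ) : Subsingleton (LocCoh.H I q (M ⧸ powTors (Ideal.span {b}) M)) := by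
  refine subsingleton_of_smul_bijective hI _ ⟨isSMulRegular_quotient_powTors b M, fun x => ?_⟩ q
  obtain ⟨y, rfl⟩ := Submodule.Quotient.mk_surjective _ x
  obtain ⟨z, hz⟩ := h y
  exact ⟨Submodule.Quotient.mk z, by
    change b • Submodule.Quotient.mk z = _
    rw [← Submodule.Quotient.mk_smul]
    exact (Submodule.Quotient.eq _).2 hz⟩

/-- A class stable under torsion with divisible torsion free parts is acyclic. -/
theorem acyclic_of_class (P : ModuleCat.{u} R → Prop) (s : Finset R)
    (hstable : ∀ b ∈ s, ∀ M : ModuleCat.{u} R, P M →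
      P (ModuleCat.of R (powTors (Ideal.span {b}) M)) ∧
        ∀ y : M, ∃ z : M, b • z - y ∈ powTors (Ideal.span {b}) M) :
    ∀ (M : ModuleCat.{u} R), P M → ∀ q, Subsingleton (LocCoh.H (Ideal.span (s : Set R)) (q + 1) M) := by
  classical
  induction s using Finset.induction_on with
  | empty =>
    intro M _ q
    rw [Finset.coe_empty, Ideal.span_empty]
    exact subsingleton_of_isPowerTorsion ⊥ q M fun _ => ⟨1, fun a ha => by
      rw [pow_one, Ideal.mem_bot] at ha; rw [ha, zero_smul]⟩
  | @insert b s hbs ih =>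
    intro M hM q
    obtain ⟨hT, hdiv⟩ := hstable b (Finset.mem_insert_self b s) M hM
    rw [Finset.coe_insert, Ideal.span_insert, sup_comm]
    let T := powTors (Ideal.span {b}) M
    refine subsingleton_mid _ T.injective_subtype T.mkQ_surjective (LinearMap.exact_subtype_mkQ T)
      (q + 1) ?_ (subsingleton_torsionFree_part b M hdiv
        (Ideal.mem_sup_right (Ideal.mem_span_singleton_self b)) _)
    obtain ⟨e⟩ := nonempty_congr_sup (Ideal.span (s : Set R)) (Ideal.span {b}) (q + 1) T
      (isPowerTorsion_powTors (Ideal.span {b}))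
    exact e.toEquiv.subsingleton_congr.2
      (ih (fun c hc => hstable c (Finset.mem_insert_of_mem hc)) _ hT q)

/-- The torsion free part of an injective module is divisible. -/
theorem exists_smul_sub_mem_of_injective {E : Type u} [AddCommGroup E] [Module R E]
    (hE : Module.Injective R E) (b : R) (y : E) :
    ∃ z : E, b • z - y ∈ powTors (Ideal.span {b}) E := by
  obtain ⟨C, hC⟩ := exists_isCompl_of_injective _ (injective_powTors hE (Ideal.span {b}))
  obtain ⟨t, ht, c, hc, rfl⟩ := Submodule.mem_sup.1 (hC.sup_eq_top.ge (Submodule.mem_top (x := y)))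
  have hreg : IsSMulRegular C b := by
    refine IsSMulRegular.of_right_eq_zero_of_smul fun d hd => ?_
    have h1 : (d : E) ∈ powTors (Ideal.span {b}) E := mem_powTors_iff.2 ⟨1, fun a ha => by
      rw [pow_one, Ideal.mem_span_singleton'] at ha
      obtain ⟨k, rfl⟩ := ha
      rw [mul_smul, show b • (d : E) = 0 from congrArg Subtype.val hd, smul_zero]⟩
    have : (d : E) ∈ powTors (Ideal.span {b}) E ⊓ C := ⟨h1, d.2⟩
    rw [hC.inf_eq_bot, Submodule.mem_bot] at this
    exact Subtype.ext this
  obtain ⟨d, hd⟩ := smul_surjective_of_injective (injective_of_isCompl hC.symm hE) b hreg ⟨c, hc⟩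
  refine ⟨d, ?_⟩
  rw [show b • (d : E) = c from congrArg Subtype.val hd, show c - (t + c) = -t by abel]
  exact neg_mem ht

/-- Principal ideals have cohomological dimension at most one. -/
theorem cdLE_span_singleton (b : R) : LocCoh.CdLE R (Ideal.span {b}) 1 := by
  intro M _ _ i hi
  obtain ⟨k, rfl⟩ : ∃ k, i = k + 1 + 1 := ⟨i - 2, by omega⟩
  obtain ⟨E, _, _, f, hE, hf, hac⟩ := exists_injective_extension (R := R) M
  let g : E →ₗ[R] E ⧸ LinearMap.range f := Submodule.mkQ _
  refine subsingleton_left _ hf (Submodule.mkQ_surjective _) f.exact_map_mkQ_range (k + 1) ?_ (hac _ _)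
  let T := powTors (Ideal.span {b}) (E ⧸ LinearMap.range f)
  refine subsingleton_mid _ T.injective_subtype T.mkQ_surjective (LinearMap.exact_subtype_mkQ T) (k + 1)
    (subsingleton_of_isPowerTorsion _ k T (isPowerTorsion_powTors _))
    (subsingleton_torsionFree_part b _ (fun y => ?_) (Ideal.mem_span_singleton_self b) _)
  obtain ⟨y, rfl⟩ := Submodule.mkQ_surjective (LinearMap.range f) y
  obtain ⟨z, hz⟩ := exists_smul_sub_mem_of_injective hE b y
  refine ⟨g z, ?_⟩
  obtain ⟨n, hn⟩ := mem_powTors_iff.1 hz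
  refine mem_powTors_iff.2 ⟨n, fun a ha => ?_⟩
  change a • (b • g z - g y) = 0
  rw [← map_smul, ← map_sub, ← map_smul, hn a ha, map_zero]

theorem cdLE_sup {I J : Ideal R} {a b : ℕ} (hI : LocCoh.CdLE R I a) (hJ : LocCoh.CdLE R J b) :
    LocCoh.CdLE R (I ⊔ J) (a + b) := by
  suffices key : ∀ (n : ℕ) (M : Type u) [AddCommGroup M] [Module R M],
      (∀ q, n < q → Subsingleton (LocCoh.H J q M)) →
        ∀ i, a + n < i → Subsingleton (LocCoh.H (I ⊔ J) i M) from
    fun M _ _ i hi => key b M (fun q hq => hJ M q hq) i hi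
  intro n
  induction n with
  | zero =>
    intro M _ _ hM i hi
    let T := powTors J M
    have hT : ∀ q, Subsingleton (LocCoh.H J (q + 1) T) := fun q =>
      subsingleton_of_isPowerTorsion J q T (isPowerTorsion_powTors J)
    have hQ : ∀ q, Subsingleton (LocCoh.H J q (M ⧸ T)) := fun q => by
      cases q with
      | zero =>
        rw [subsingleton_zero_iff, eq_bot_iff]
        intro x hx
        obtain ⟨x, rfl⟩ := Submodule.Quotient.mk_surjective T x
        obtain ⟨n, hn⟩ := mem_powTors_iff.1 hx
        rw [Submodule.mem_bot, Submodule.Quotient.mk_eq_zero]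
        obtain ⟨r, hr⟩ : (J ^ n).FG := IsNoetherian.noetherian _
        have hfin : ∀ t : Finset R, (↑t : Set R) ⊆ (J ^ n : Ideal R) →
            ∃ m, ∀ c ∈ t, ∀ a ∈ J ^ m, a • c • x = 0 := by
          classical
          intro t
          induction t using Finset.induction_on with
          | empty => exact fun _ => ⟨0, fun c hc => by simp at hc⟩
          | @insert c t _ ih =>
            intro ht
            obtain ⟨m, hm⟩ := ih ((Finset.coe_subset.2 (Finset.subset_insert c t)).trans ht)
            have hc := hn c (ht (Finset.mem_insert_self c t))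
            rw [← Submodule.Quotient.mk_smul, Submodule.Quotient.mk_eq_zero] at hc
            obtain ⟨m', hm'⟩ := mem_powTors_iff.1 hc
            refine ⟨max m m', fun d hd a ha => ?_⟩
            rcases Finset.mem_insert.1 hd with rfl | hd
            · exact hm' a (Ideal.pow_le_pow_right (le_max_right m m') ha)
            · exact hm d hd a (Ideal.pow_le_pow_right (le_max_left m m') ha)
        obtain ⟨m, hm⟩ := hfin r (hr ▸ Submodule.subset_span)
        refine mem_powTors_iff.2 ⟨m + n, fun a ha => ?_⟩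
        rw [pow_add] at ha
        refine Submodule.mul_induction_on ha (fun u hu v hv => ?_) fun u v hu hv => by
          rw [add_smul, hu, hv, add_zero]
        rw [mul_smul]
        rw [← hr] at hv
        refine Submodule.span_induction (p := fun v _ => u • v • x = 0) (fun c hc => hm c hc u hu)
          (by simp) (fun v w _ _ h1 h2 => by rw [add_smul, smul_add, h1, h2, add_zero])
          (fun k v _ h1 => by rw [smul_eq_mul, mul_smul, smul_comm u k, h1, smul_zero]) hv
      | succ q =>
        exact subsingleton_right J T.injective_subtype T.mkQ_surjective (LinearMap.exact_subtype_mkQ T)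
          (q + 1) (hM _ (Nat.succ_pos q)) (hT (q + 1))
    refine subsingleton_mid _ T.injective_subtype T.mkQ_surjective (LinearMap.exact_subtype_mkQ T) i
      ?_ (subsingleton_of_forall_subsingleton (le_sup_right.trans Ideal.le_radical) _ hQ i)
    obtain ⟨e⟩ := nonempty_congr_sup I J i T (isPowerTorsion_powTors J)
    exact e.toEquiv.subsingleton_congr.2 (hI T i (by omega))
  | succ n ih =>
    intro M _ _ hM i hi
    obtain ⟨E, _, _, f, hE, hf, hac⟩ := exists_injective_extension (R := R) M
    obtain ⟨k, rfl⟩ : ∃ k, i = k + 1 := ⟨i - 1, by omega⟩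
    refine subsingleton_left _ hf (Submodule.mkQ_surjective _) f.exact_map_mkQ_range k
      (ih _ (fun q hq => ?_) k (by omega)) (hac _ _)
    obtain ⟨j, rfl⟩ : ∃ j, q = j + 1 := ⟨q - 1, by omega⟩
    exact subsingleton_right _ hf (Submodule.mkQ_surjective _) f.exact_map_mkQ_range (j + 1)
      (hac _ _) (hM _ (by omega))

theorem cdLE_bot : LocCoh.CdLE R (⊥ : Ideal R) 0 := fun M _ _ i hi => by
  obtain ⟨k, rfl⟩ : ∃ k, i = k + 1 := ⟨i - 1, by omega⟩
  exact subsingleton_of_isPowerTorsion ⊥ k M fun _ => ⟨1, fun a ha => by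
    rw [pow_one, Ideal.mem_bot] at ha; rw [ha, zero_smul]⟩

theorem cdLE_span_finset (s : Finset R) : LocCoh.CdLE R (Ideal.span (s : Set R)) s.card := by
  classical
  induction s using Finset.induction_on with
  | empty =>
    rw [Finset.coe_empty, Ideal.span_empty, Finset.card_empty]
    exact cdLE_bot
  | @insert b s hbs ih =>
    rw [Finset.coe_insert, Ideal.span_insert, sup_comm, Finset.card_insert_of_notMem hbs]
    exact cdLE_sup ih (cdLE_span_singleton b)

theorem exists_cdLE (I : Ideal R) : ∃ r, LocCoh.CdLE R I r := by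
  obtain ⟨s, hs⟩ : I.FG := IsNoetherian.noetherian I
  exact ⟨s.card, hs ▸ cdLE_span_finset s⟩

end Groth.Agent.LocCohLib
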