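import Groth.Agent.Lib.LocCoh.Seq
import Groth.Agent.Lib.Depth.BaseChange
import Groth.Agent.Lib.LocCoh.Change
import Mathlib.RingTheory.Spectrum.Prime.Topology

/-!
# Faltings' criteria for finiteness of local cohomology
-/

universe u

open CategoryTheory Groth.Agent.InjHullLib

noncomputable section

namespace Groth.Agent.LocCohLib

variable {R : Type u} [CommRing R] (I : Ideal R)

theorem exists_pow_annihilates' {T : Type u} [AddCommGroup T] [Module R T] [Module.Finite R T]
    (hT : LocCoh.IsPowerTorsion I T) : ∃ n, ∀ a ∈ I ^ n, ∀ t : T, a • t = 0 := by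
  classical
  obtain ⟨s, hs⟩ := Module.Finite.fg_top (R := R) (M := T)
  choose n hn using hT
  refine ⟨s.sup n, fun a ha t => ?_⟩
  have ht : t ∈ Submodule.span R (s : Set T) := hs ▸ trivial
  refine Submodule.span_induction (p := fun t _ => a • t = 0)
    (fun x hx => hn x a (Ideal.pow_le_pow_right (Finset.le_sup hx) ha)) (smul_zero a)
    (fun x y _ _ hx hy => by rw [smul_add, hx, hy, add_zero])
    (fun c x _ hx => by rw [smul_comm, hx, smul_zero]) ht

variable [IsNoetherianRing R]

theorem finite_H_zero (M : Type u) [AddCommGroup M] [Module R M] [Module.Finite R M] :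
    Module.Finite R (LocCoh.H I 0 M) :=
  have : Module.Finite R (powTors I M) := Module.Finite.iff_fg.2 (IsNoetherian.noetherian _)
  Module.Finite.equiv (zeroEquiv I M).symm

/-- After removing torsion there is a regular element in `I`. -/
theorem exists_regular_mem (M : Type u) [AddCommGroup M] [Module R M] [Module.Finite R M] :
    ∃ x ∈ I, IsSMulRegular (M ⧸ powTors I M) x := by
  by_contra! hcon
  obtain ⟨z, hz, hz'⟩ := DepthLib.exists_ne_zero_smul_eq_zero hcon
  obtain ⟨z, rfl⟩ := Submodule.Quotient.mk_surjective _ z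
  obtain ⟨n, hn⟩ := exists_pow_annihilates' I (isPowerTorsion_powTors I (A := M))
  refine hz ((Submodule.Quotient.mk_eq_zero _).2 (mem_powTors_iff.2 ⟨n + 1, fun a ha => ?_⟩))
  rw [pow_succ] at ha
  refine Submodule.mul_induction_on ha (fun u hu v hv => ?_) fun u v hu hv => by
    rw [add_smul, hu, hv, add_zero]
  have hv' := hz' v hv
  rw [← Submodule.Quotient.mk_smul, Submodule.Quotient.mk_eq_zero] at hv'
  rw [mul_smul]
  exact congrArg Subtype.val (hn u hu ⟨v • z, hv'⟩)

theorem hmap_mkQ_bijective (M : Type u) [AddCommGroup M] [Module R M] (j : ℕ) :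
    Function.Bijective (hmap I (j + 1) (powTors I M).mkQ) := by
  let T := powTors I M
  have ht : ∀ q, Subsingleton (LocCoh.H I (q + 1) T) := fun q =>
    subsingleton_of_isPowerTorsion I q T (isPowerTorsion_powTors I)
  refine ⟨?_, hmap_g_surjective I T.injective_subtype T.mkQ_surjective (LinearMap.exact_subtype_mkQ T)
    (j + 1) (ht (j + 1))⟩
  rw [injective_iff_map_eq_zero]
  intro x hx
  obtain ⟨y, rfl⟩ := (exact_map_map I (j + 1) (shortExact_mk T.subtype T.mkQ T.injective_subtype
    T.mkQ_surjective (LinearMap.exact_subtype_mkQ T)) x).1 hx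
  exact (congrArg _ ((ht j).elim y 0)).trans (map_zero _)

theorem finite_of_annihilated (n : ℕ) : ∀ (M : Type u) [AddCommGroup M] [Module R M] [Module.Finite R M],
    (∃ J : Ideal R, I ≤ J.radical ∧ ∀ i : ℕ, i ≤ n → ∀ a ∈ J, ∀ x : LocCoh.H I i M, a • x = 0) →
      ∀ i : ℕ, i ≤ n → Module.Finite R (LocCoh.H I i M) := by
  induction n with
  | zero =>
    intro M _ _ _ _ i hi
    obtain rfl : i = 0 := by omega
    exact finite_H_zero I M
  | succ n ih =>
    rintro M _ _ _ ⟨J, hJ, hann⟩ i hi
    cases i with
    | zero => exact finite_H_zero I M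
    | succ i =>
      let T := powTors I M
      have hann' : ∀ j, j ≤ n → ∀ a ∈ J, ∀ z : LocCoh.H I (j + 1) (M ⧸ T), a • z = 0 := fun j hj a ha z => by
        obtain ⟨z, rfl⟩ := (hmap_mkQ_bijective I M j).2 z
        rw [← map_smul, hann (j + 1) (by omega) a ha z, map_zero]
      suffices Module.Finite R (LocCoh.H I (i + 1) (M ⧸ T)) from
        Module.Finite.equiv (LinearEquiv.ofBijective _ (hmap_mkQ_bijective I M i)).symm
      obtain ⟨x, hx, hreg⟩ := exists_regular_mem I M
      obtain ⟨k, hk⟩ := hJ hx
      let my : (M ⧸ T) →ₗ[R] M ⧸ T := x ^ k • LinearMap.id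
      have hinj : Function.Injective my := hreg.pow k
      have hS := shortExact_mk my (LinearMap.range my).mkQ hinj (Submodule.mkQ_surjective _)
        (LinearMap.exact_map_mkQ_range my)
      have h0 : Subsingleton (LocCoh.H I 0 (M ⧸ T)) := by
        rw [subsingleton_zero_iff, eq_bot_iff]
        intro z hz
        obtain ⟨m, hm⟩ := mem_powTors_iff.1 hz
        exact (hreg.pow m).right_eq_zero_of_smul (hm _ (Ideal.pow_mem_pow hx m))
      have hQ := ih ((M ⧸ T) ⧸ LinearMap.range my) ⟨J * J, by
        intro a ha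
        obtain ⟨r, hr⟩ := hJ ha
        exact ⟨r + r, by rw [pow_add]; exact Ideal.mul_mem_mul hr hr⟩, fun j hj a ha z => by
        refine Submodule.mul_induction_on ha (fun u hu v hv => ?_) fun u v hu hv => by
          rw [add_smul, hu, hv, add_zero]
        have hvz : δ I j hS (v • z) = 0 := (map_smul _ _ _).trans (hann' j hj v hv _)
        obtain ⟨w, hw⟩ := (exact_map_δ I j hS _).1 hvz
        rw [mul_smul, ← hw]
        refine (map_smul _ _ _).symm.trans ((congrArg _ ?_).trans (map_zero _))
        cases j with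
        | zero => exact h0.elim _ _
        | succ j => exact hann' j (by omega) u hu w⟩ i (by omega)
      let d : LocCoh.H I i ((M ⧸ T) ⧸ LinearMap.range my) →ₗ[R] LocCoh.H I (i + 1) (M ⧸ T) := δ I i hS
      have := hQ
      refine Module.Finite.of_surjective d fun z => (exact_δ_map I i hS z).1 ?_
      change hmap I (i + 1) (x ^ k • LinearMap.id) z = 0
      rw [hmap_smul, hmap_id]
      exact hann' i (by omega) _ hk z

theorem finite_iff_annihilated (M : Type u) [AddCommGroup M] [Module R M] [Module.Finite R M] (n : ℕ) :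
    (∀ i : ℕ, i ≤ n → Module.Finite R (LocCoh.H I i M)) ↔
      ∃ J : Ideal R, I ≤ J.radical ∧ ∀ i : ℕ, i ≤ n → ∀ a ∈ J, ∀ x : LocCoh.H I i M, a • x = 0 := by
  refine ⟨fun h => ?_, finite_of_annihilated I n M⟩
  have hN : ∀ i ≤ n, ∃ N, ∀ a ∈ I ^ N, ∀ z : LocCoh.H I i M, a • z = 0 := fun i hi => by
    have := h i hi
    exact exists_pow_annihilates' I (isPowerTorsion I i M)
  choose N hN using hN
  classical
  let K := (Finset.range (n + 1)).sup fun i => if hi : i ≤ n then N i hi else 0
  refine ⟨I ^ K, fun a ha => ⟨K, Ideal.pow_mem_pow ha K⟩, fun i hi a ha z => hN i hi a ?_ z⟩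
  refine Ideal.pow_le_pow_right (le_trans (le_of_eq ?_)
    (Finset.le_sup (f := fun i => if hi : i ≤ n then N i hi else 0) (b := i) (by simp; omega))) ha
  rw [dif_pos hi]

/-- The elements killed by `I` in the first possibly infinite local cohomology form a finite module. -/
theorem finite_socle (n : ℕ) : ∀ (M : Type u) [AddCommGroup M] [Module R M] [Module.Finite R M],
    (∀ j, j < n → Module.Finite R (LocCoh.H I j M)) →
      Module.Finite R (Submodule.torsionBySet R (LocCoh.H I n M) (I : Set R)) := by
  induction n with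
  | zero =>
    intro M _ _ _ _
    have := finite_H_zero I M
    exact Module.Finite.iff_fg.2 (IsNoetherian.noetherian _)
  | succ n ih =>
    intro M _ _ _ hM
    let T := powTors I M
    have hfin' : ∀ j, j < n + 1 → Module.Finite R (LocCoh.H I j (M ⧸ T)) := fun j hj => by
      cases j with
      | zero => exact finite_H_zero I _
      | succ j =>
        have := hM (j + 1) hj
        exact Module.Finite.equiv (LinearEquiv.ofBijective _ (hmap_mkQ_bijective I M j))
    obtain ⟨x, hx, hreg⟩ := exists_regular_mem I M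
    let mx : (M ⧸ T) →ₗ[R] M ⧸ T := x • LinearMap.id
    have hS := shortExact_mk mx (LinearMap.range mx).mkQ hreg (Submodule.mkQ_surjective _)
      (LinearMap.exact_map_mkQ_range mx)
    let Q := (M ⧸ T) ⧸ LinearMap.range mx
    let d : LocCoh.H I n Q →ₗ[R] LocCoh.H I (n + 1) (M ⧸ T) := δ I n hS
    let g := hmap I n (LinearMap.range mx).mkQ
    have hQ : ∀ j, j < n → Module.Finite R (LocCoh.H I j Q) := fun j hj => by
      have := hfin' j (by omega)
      have := hfin' (j + 1) (by omega)
      let dj : LocCoh.H I j Q →ₗ[R] LocCoh.H I (j + 1) (M ⧸ T) := δ I j hS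
      let gj : LocCoh.H I j (M ⧸ T) →ₗ[R] LocCoh.H I j Q := hmap I j (LinearMap.range mx).mkQ
      have hrange : LinearMap.range gj = LinearMap.ker dj :=
        SetLike.ext fun y => (exact_map_δ I j hS y).symm
      have h1 : Module.Finite R (LinearMap.ker dj) := hrange ▸ Module.Finite.range gj
      have : Module.Finite R (LinearMap.range dj) := Module.Finite.iff_fg.2 (IsNoetherian.noetherian _)
      have : Module.Finite R (LocCoh.H I j Q ⧸ LinearMap.ker dj) :=
        Module.Finite.equiv dj.quotKerEquivRange.symm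
      exact Module.Finite.of_submodule_quotient (LinearMap.ker dj)
    have hsoc := ih Q hQ
    have := hfin' n (Nat.lt_succ_self n)
    let L : Submodule R (LocCoh.H I n Q) :=
      (Submodule.torsionBySet R (LocCoh.H I (n + 1) (M ⧸ T)) (I : Set R)).comap d
    obtain ⟨s, hs⟩ : I.FG := IsNoetherian.noetherian I
    have hLmem : ∀ z ∈ L, ∀ a ∈ s, a • z ∈ LinearMap.range g := fun z hz a ha =>
      (exact_map_δ I n hS _).1 ((map_smul d a z).trans
        (mem_torsion_iff.1 hz a (hs ▸ Ideal.subset_span ha)))
    let ψ : L →ₗ[R] (↥s → LinearMap.range g) := LinearMap.pi fun a =>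
      { toFun := fun z => ⟨(a : R) • (z : LocCoh.H I n Q), hLmem z.1 z.2 a a.2⟩
        map_add' := fun z w => Subtype.ext (smul_add (a : R) z.1 w.1)
        map_smul' := fun r z => Subtype.ext (smul_comm (a : R) r z.1) }
    have hker : Module.Finite R (LinearMap.ker ψ) := by
      have hle : ∀ z : LinearMap.ker ψ, (z.1.1 : LocCoh.H I n Q) ∈
          Submodule.torsionBySet R (LocCoh.H I n Q) (I : Set R) := fun z => by
        refine mem_torsion_iff.2 fun r hr => ?_
        rw [← hs] at hr
        refine Submodule.span_induction (p := fun r _ => r • z.1.1 = 0)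
          (fun a ha => congrArg Subtype.val (congrFun (LinearMap.mem_ker.1 z.2) ⟨a, ha⟩))
          (zero_smul R _) (fun a b _ _ h1 h2 => by rw [add_smul, h1, h2, add_zero])
          (fun c a _ h1 => by rw [smul_eq_mul, mul_smul, h1, smul_zero]) hr
      exact Module.Finite.of_injective
        ((L.subtype ∘ₗ (LinearMap.ker ψ).subtype).codRestrict _ hle)
        fun a b h => Subtype.ext (Subtype.ext (congrArg Subtype.val h :))
    have : Module.Finite R (LinearMap.range ψ) := Module.Finite.iff_fg.2 (IsNoetherian.noetherian _)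
    have : Module.Finite R (L ⧸ LinearMap.ker ψ) := Module.Finite.equiv ψ.quotKerEquivRange.symm
    have hL : Module.Finite R L := Module.Finite.of_submodule_quotient (LinearMap.ker ψ)
    have htop : Submodule.torsionBySet R (LocCoh.H I (n + 1) (M ⧸ T)) (I : Set R) = L.map d := by
      rw [Submodule.map_comap_eq, eq_comm, inf_eq_right]
      intro z hz
      refine (exact_δ_map I n hS z).1 ?_
      change hmap I (n + 1) (x • LinearMap.id) z = 0
      rw [hmap_smul, hmap_id]
      exact mem_torsion_iff.1 hz x hx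
    have : Module.Finite R (Submodule.torsionBySet R (LocCoh.H I (n + 1) (M ⧸ T)) (I : Set R)) := by
      rw [htop]; exact Module.Finite.map L d
    refine Module.Finite.of_injective ((hmap I (n + 1) T.mkQ).restrict
      (p := Submodule.torsionBySet R (LocCoh.H I (n + 1) M) (I : Set R))
      (q := Submodule.torsionBySet R (LocCoh.H I (n + 1) (M ⧸ T)) (I : Set R)) fun z hz =>
        mem_torsion_iff.2 fun a ha => by rw [← map_smul, mem_torsion_iff.1 hz a ha, map_zero]) ?_
    intro a b h
    exact Subtype.ext ((hmap_mkQ_bijective I M n).1 (congrArg Subtype.val h :))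

/-- Power torsion modules with finite socle which are locally finite are finite. -/
theorem finite_of_locally_finite (N : Type u) [AddCommGroup N] [Module R N]
    (hN : LocCoh.IsPowerTorsion I N) (hsoc : Module.Finite R (Submodule.torsionBySet R N (I : Set R)))
    (hloc : ∀ (p : Ideal R) [p.IsPrime],
      Module.Finite (Localization.AtPrime p) (LocalizedModule p.primeCompl N)) :
    Module.Finite R N := by
  classical
  obtain ⟨s, hs⟩ : I.FG := IsNoetherian.noetherian I
  let F : ℕ → Submodule R N := fun t => Submodule.torsionBySet R N ((I ^ t : Ideal R) : Set R)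
  have hstep : ∀ t z, (∀ a ∈ s, a • z ∈ F t) → z ∈ F (t + 1) := fun t z hz => by
    refine mem_torsion_iff.2 fun r hr => ?_
    rw [pow_succ] at hr
    refine Submodule.mul_induction_on hr (fun u hu v hv => ?_) fun u v hu hv => by
      rw [add_smul, hu, hv, add_zero]
    rw [← hs] at hv
    refine Submodule.span_induction (p := fun v _ => (u * v) • z = 0)
      (fun a ha => by rw [mul_smul]; exact mem_torsion_iff.1 (hz a ha) u hu) (by simp)
      (fun a b _ _ h1 h2 => by rw [mul_add, add_smul, h1, h2, add_zero])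
      (fun c a _ h1 => by rw [smul_eq_mul, ← mul_assoc, mul_comm u c, mul_assoc, mul_smul, h1, smul_zero]) hv
  have hmap : ∀ t (a : R), a ∈ s → ∀ z ∈ F (t + 1), a • z ∈ F t := fun t a ha z hz =>
    mem_torsion_iff.2 fun r hr => by
      rw [← mul_smul]
      exact mem_torsion_iff.1 hz _ (by rw [pow_succ]; exact Ideal.mul_mem_mul hr (hs ▸ Ideal.subset_span ha))
  have hFfin : ∀ t, Module.Finite R (F t) := fun t => by
    induction t with
    | zero =>
      have : F 0 = ⊥ := by
        rw [eq_bot_iff]; intro z hz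
        simpa using mem_torsion_iff.1 hz 1 (by simp)
      rw [this]
      infer_instance
    | succ t iht =>
      let ψ : F (t + 1) →ₗ[R] (↥s → F t) := LinearMap.pi fun a =>
        { toFun := fun z => ⟨(a : R) • (z : N), hmap t a a.2 z.1 z.2⟩
          map_add' := fun z w => Subtype.ext (smul_add (a : R) z.1 w.1)
          map_smul' := fun r z => Subtype.ext (smul_comm (a : R) r z.1) }
      have hker : Module.Finite R (LinearMap.ker ψ) := by
        have hle : ∀ z : LinearMap.ker ψ, (z.1.1 : N) ∈ Submodule.torsionBySet R N (I : Set R) := fun z => by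
          refine mem_torsion_iff.2 fun r hr => ?_
          rw [← hs] at hr
          refine Submodule.span_induction (p := fun r _ => r • z.1.1 = 0)
            (fun a ha => congrArg Subtype.val (congrFun (LinearMap.mem_ker.1 z.2) ⟨a, ha⟩))
            (zero_smul R _) (fun a b _ _ h1 h2 => by rw [add_smul, h1, h2, add_zero])
            (fun c a _ h1 => by rw [smul_eq_mul, mul_smul, h1, smul_zero]) hr
        exact Module.Finite.of_injective
          (((F (t + 1)).subtype ∘ₗ (LinearMap.ker ψ).subtype).codRestrict _ hle)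
          fun a b h => Subtype.ext (Subtype.ext (congrArg Subtype.val h :))
      have : Module.Finite R (LinearMap.range ψ) := Module.Finite.iff_fg.2 (IsNoetherian.noetherian _)
      have : Module.Finite R (F (t + 1) ⧸ LinearMap.ker ψ) := Module.Finite.equiv ψ.quotKerEquivRange.symm
      exact Module.Finite.of_submodule_quotient (LinearMap.ker ψ)
  have hmono : ∀ {a b}, a ≤ b → F a ≤ F b := fun {a b} h =>
    torsionBySet_antitone (Ideal.pow_le_pow_right h)
  have hFfg : ∀ t, (F t).FG := fun t => Module.Finite.iff_fg.1 (hFfin t)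
  -- where the filtration is stationary
  let U : ℕ → Set (PrimeSpectrum R) := fun t =>
    {p | ∀ z ∈ F (t + 1), ∃ u ∉ p.asIdeal, u • z ∈ F t}
  have hUopen : ∀ t, IsOpen (U t) := fun t => by
    rw [isOpen_iff_forall_mem_open]
    intro p hp
    obtain ⟨g, hg⟩ := hFfg (t + 1)
    have hp' : ∀ z : g, ∃ u ∉ p.asIdeal, u • (z : N) ∈ F t := fun z => hp _ (hg ▸ Submodule.subset_span z.2)
    choose u hu hu' using hp'
    refine ⟨PrimeSpectrum.basicOpen (∏ z, u z), fun q hq z hz => ⟨∏ z, u z, hq, ?_⟩,
      (PrimeSpectrum.basicOpen _).isOpen, fun h => ?_⟩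
    · rw [← hg] at hz
      refine Submodule.span_induction (p := fun z _ => (∏ z, u z) • z ∈ F t) (fun w hw => ?_)
        (by simp) (fun a b _ _ ha hb => by rw [smul_add]; exact add_mem ha hb)
        (fun c a _ ha => by rw [smul_comm]; exact Submodule.smul_mem _ c ha) hz
      rw [← Finset.prod_erase_mul _ _ (Finset.mem_univ (⟨w, hw⟩ : g)), mul_smul]
      exact Submodule.smul_mem _ _ (hu' ⟨w, hw⟩)
    · obtain ⟨z, -, hz⟩ := (p.isPrime.prod_mem_iff).1 h
      exact hu z hz
  have hUstep : ∀ t p, p ∈ U t → ∀ k, ∀ z ∈ F (t + k), ∃ u ∉ p.asIdeal, u • z ∈ F t := by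
    intro t p hp k
    induction k with
    | zero => exact fun z hz => ⟨1, p.isPrime.one_notMem, by rwa [one_smul]⟩
    | succ k ihk =>
      intro z hz
      have h1 : ∀ a : s, ∃ u ∉ p.asIdeal, u • (a : R) • z ∈ F t := fun a =>
        ihk _ (hmap (t + k) a a.2 z hz)
      choose u hu hu' using h1
      have hz1 : (∏ a, u a) • z ∈ F (t + 1) := hstep t _ fun a ha => by
        rw [← Finset.prod_erase_mul _ _ (Finset.mem_univ (⟨a, ha⟩ : s)), ← mul_smul,
          mul_left_comm, mul_smul]
        refine Submodule.smul_mem _ _ ?_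
        rw [mul_comm, mul_smul]
        exact hu' ⟨a, ha⟩
      obtain ⟨v, hv, hv'⟩ := hp _ hz1
      exact ⟨v * ∏ a, u a, fun h => (p.isPrime.mem_or_mem h).elim hv fun h => by
        obtain ⟨a, -, ha⟩ := (p.isPrime.prod_mem_iff).1 h
        exact hu a ha, by rw [mul_smul]; exact hv'⟩
  have hcover : ∀ p : PrimeSpectrum R, ∃ t, p ∈ U t := fun p => by
    obtain ⟨g, hg⟩ := (hloc p.asIdeal).fg_top
    have hnum : ∀ y : g, ∃ (z : N) (v : p.asIdeal.primeCompl),
        (y : LocalizedModule p.asIdeal.primeCompl N) = LocalizedModule.mk z v := fun y => by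
      induction (y : LocalizedModule p.asIdeal.primeCompl N) using LocalizedModule.induction_on with
      | h m v => exact ⟨m, v, rfl⟩
    choose z v hzv using hnum
    have hz : ∀ y, ∃ t, z y ∈ F t := fun y => (hN (z y)).imp fun t ht => mem_torsion_iff.2 ht
    choose t ht using hz
    refine ⟨Finset.univ.sup t, fun w hw => ?_⟩
    have key : ∀ y : LocalizedModule p.asIdeal.primeCompl N, ∃ (z : N) (v : p.asIdeal.primeCompl),
        z ∈ F (Finset.univ.sup t) ∧ y = LocalizedModule.mk z v := by
      intro y
      have hy : y ∈ Submodule.span (Localization.AtPrime p.asIdeal)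
          (g : Set (LocalizedModule p.asIdeal.primeCompl N)) := hg ▸ trivial
      induction hy using Submodule.span_induction with
      | mem y hy => exact ⟨z ⟨y, hy⟩, v ⟨y, hy⟩, hmono (Finset.le_sup (Finset.mem_univ _)) (ht ⟨y, hy⟩), hzv ⟨y, hy⟩⟩
      | zero => exact ⟨0, 1, zero_mem _, (LocalizedModule.zero_mk 1).symm⟩
      | add a b _ _ ha hb =>
        obtain ⟨za, va, hza, rfl⟩ := ha
        obtain ⟨zb, vb, hzb, rfl⟩ := hb
        exact ⟨vb • za + va • zb, va * vb, add_mem (Submodule.smul_mem _ _ hza) (Submodule.smul_mem _ _ hzb),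
          LocalizedModule.mk_add_mk⟩
      | smul c a _ ha =>
        obtain ⟨za, va, hza, rfl⟩ := ha
        obtain ⟨r, u, rfl⟩ := IsLocalization.exists_mk'_eq p.asIdeal.primeCompl c
        exact ⟨r • za, u * va, Submodule.smul_mem _ _ hza, by
          rw [← Localization.mk_eq_mk', LocalizedModule.mk_smul_mk]⟩
    obtain ⟨z', v', hz', he⟩ := key (LocalizedModule.mk w 1)
    obtain ⟨c, hc⟩ := LocalizedModule.mk_eq.1 he
    simp only [Submonoid.smul_def, one_smul, ← mul_smul] at hc
    refine ⟨(c : R) * (v' : R), fun h => (p.isPrime.mem_or_mem h).elim c.2 v'.2, ?_⟩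
    rw [hc]
    exact Submodule.smul_mem _ _ hz'
  obtain ⟨T, hT⟩ := IsCompact.elim_finite_subcover isCompact_univ U hUopen fun p _ => Set.mem_iUnion.2 (hcover p)
  have htop : F (T.sup id) = ⊤ := by
    rw [eq_top_iff]
    intro w _
    obtain ⟨k, hk⟩ := hN w
    have hwk : w ∈ F k := mem_torsion_iff.2 hk
    let a : Ideal R := (F (T.sup id)).colon {w}
    by_contra hw
    have ha : a ≠ ⊤ := fun h => hw (by simpa [a] using (h ▸ trivial : (1 : R) ∈ a))
    obtain ⟨m, hm, hle⟩ := Ideal.exists_le_maximal a ha
    obtain ⟨t, ht, hpt⟩ := Set.mem_iUnion₂.1 (hT (Set.mem_univ ⟨m, hm.isPrime⟩))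
    obtain ⟨u, hu, hu'⟩ := hUstep t _ hpt k w (hmono (Nat.le_add_left k t) hwk)
    exact hu (hle (Submodule.mem_colon_singleton.2 (hmono (Finset.le_sup (f := id) ht) hu')))
  have := hFfin (T.sup id)
  exact Module.Finite.equiv ((LinearEquiv.ofEq _ _ htop).trans Submodule.topEquiv)

theorem finite_iff_locally (M : Type u) [AddCommGroup M] [Module R M] [Module.Finite R M] (n : ℕ) :
    (∀ i : ℕ, i ≤ n → Module.Finite R (LocCoh.H I i M)) ↔
      ∀ (p : Ideal R) [p.IsPrime], ∀ i : ℕ, i ≤ n →
        Module.Finite (Localization.AtPrime p) (LocalizedModule p.primeCompl (LocCoh.H I i M)) := by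
  constructor
  · intro h p _ i hi
    have := h i hi
    exact Module.Finite.of_isLocalizedModule p.primeCompl (LocalizedModule.mkLinearMap p.primeCompl _)
  · intro h i
    induction i using Nat.strong_induction_on with
    | _ i ih =>
      intro hi
      exact finite_of_locally_finite I _ (isPowerTorsion I i M)
        (finite_socle I i M fun j hj => ih j hj (by omega)) fun p _ => h p i hi

end Groth.Agent.LocCohLib
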