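import Groth.Agent.Lib.LocCoh.Finite
import Mathlib.RingTheory.Ideal.Maps

/-!
# Independence of the base ring
-/

universe u

open CategoryTheory Groth.Agent.InjHullLib

noncomputable section

namespace Groth.Agent.LocCohLib

/-- Two surjections with the same kernel have isomorphic targets. -/
theorem exists_addEquiv_of_ker {X Y₁ Y₂ : Type u} [AddCommGroup X] [AddCommGroup Y₁] [AddCommGroup Y₂]
    (d₁ : X →+ Y₁) (d₂ : X →+ Y₂) (h₁ : Function.Surjective d₁) (h₂ : Function.Surjective d₂)
    (h : ∀ c, d₁ c = 0 ↔ d₂ c = 0) : ∃ φ : Y₁ ≃+ Y₂, ∀ c, φ (d₁ c) = d₂ c := by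
  have key : ∀ c c', d₁ c = d₁ c' → d₂ c = d₂ c' := fun c c' e => by
    rw [← sub_eq_zero, ← map_sub, h, map_sub, sub_eq_zero] at e
    exact e
  let φ : Y₁ →+ Y₂ :=
    { toFun := fun y => d₂ (Function.surjInv h₁ y)
      map_zero' := (key _ 0 ((Function.surjInv_eq h₁ 0).trans (map_zero d₁).symm)).trans (map_zero d₂)
      map_add' := fun y z => by
        rw [← map_add]
        refine key _ _ ?_
        rw [map_add, Function.surjInv_eq h₁, Function.surjInv_eq h₁, Function.surjInv_eq h₁] }
  have hφ : ∀ c, φ (d₁ c) = d₂ c := fun c => key _ _ (Function.surjInv_eq h₁ _)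
  refine ⟨AddEquiv.ofBijective φ ⟨?_, fun z => ?_⟩, hφ⟩
  · rw [injective_iff_map_eq_zero]
    intro y hy
    obtain ⟨c, rfl⟩ := h₁ y
    rw [hφ] at hy
    exact (h c).2 hy
  · obtain ⟨c, rfl⟩ := h₂ z
    exact ⟨d₁ c, hφ c⟩

variable {A : Type u} [CommRing A] (B : Type u) [CommRing B] [Algebra A B] (I : Ideal A)

theorem mem_powTors_map_iff (M : Type u) [AddCommGroup M] [Module B M] [Module A M]
    [IsScalarTower A B M] {x : M} : x ∈ powTors (I.map (algebraMap A B)) M ↔ x ∈ powTors I M := by
  rw [mem_powTors_iff, mem_powTors_iff]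
  refine exists_congr fun n => ?_
  rw [← Ideal.map_pow]
  constructor
  · intro h a ha
    rw [← algebraMap_smul B]
    exact h _ (Ideal.mem_map_of_mem _ ha)
  · intro h b hb
    refine Submodule.span_induction (p := fun c _ => c • x = 0) ?_ (zero_smul B x) ?_ ?_ hb
    · rintro _ ⟨a, ha, rfl⟩
      rw [algebraMap_smul]
      exact h a ha
    · intro c d _ _ hc hd
      rw [add_smul, hc, hd, add_zero]
    · intro c d _ hd
      rw [smul_eq_mul, mul_smul, hd, smul_zero]

variable [IsNoetherianRing A] [IsNoetherianRing B]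

/-- Injective modules over an algebra are acyclic over the base. -/
theorem subsingleton_restrictScalars_of_injective (E : Type u) [AddCommGroup E] [Module B E]
    [Module A E] [IsScalarTower A B E] (hE : Module.Injective B E) (i : ℕ) :
    Subsingleton (LocCoh.H I (i + 1) E) := by
  obtain ⟨s, hs⟩ : I.FG := IsNoetherian.noetherian I
  rw [← hs]
  refine acyclic_of_class (fun M => ∃ (T : Type u) (_ : AddCommGroup T) (_ : Module B T) (_ : Module A T)
    (_ : IsScalarTower A B T), Module.Injective B T ∧ Nonempty (M ≃ₗ[A] T)) s ?_ (ModuleCat.of A E)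
    ⟨E, inferInstance, inferInstance, inferInstance, inferInstance, hE, ⟨LinearEquiv.refl A E⟩⟩ i
  rintro b - M ⟨T, _, _, _, _, hT, ⟨e⟩⟩
  have hmem : ∀ x : T, x ∈ powTors (Ideal.span {algebraMap A B b}) T ↔
      x ∈ powTors (Ideal.span {b}) T := fun x => by
    rw [← mem_powTors_map_iff B (Ideal.span {b}) T, Ideal.map_span, Set.image_singleton]
  have hmap : ∀ x : M, x ∈ powTors (Ideal.span {b}) M ↔ e x ∈ powTors (Ideal.span {b}) T := fun x => by
    simp only [mem_powTors_iff, ← map_smul, map_eq_zero_iff e e.injective]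
  refine ⟨⟨(powTors (Ideal.span {algebraMap A B b}) T), inferInstance, inferInstance, inferInstance,
    inferInstance, injective_powTors hT _,
    ⟨{ toFun := fun x => ⟨e x.1, (hmem _).2 ((hmap _).1 x.2)⟩
       invFun := fun y => ⟨e.symm y.1, (hmap _).2 (by rw [e.apply_symm_apply]; exact (hmem _).1 y.2)⟩
       map_add' := fun x y => Subtype.ext (map_add e x.1 y.1)
       map_smul' := fun r x => Subtype.ext (map_smul e r x.1)
       left_inv := fun x => Subtype.ext (e.symm_apply_apply x.1)
       right_inv := fun y => Subtype.ext (e.apply_symm_apply y.1) }⟩⟩, fun y => ?_⟩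
  obtain ⟨z, hz⟩ := exists_smul_sub_mem_of_injective hT (algebraMap A B b) (e y)
  refine ⟨e.symm z, (hmap _).2 ?_⟩
  rw [map_sub, map_smul, e.apply_symm_apply, ← hmem, ← algebraMap_smul B b z]
  exact hz

/-- Local cohomology does not depend on the base ring. -/
theorem exists_restrictScalars_addEquiv (i : ℕ) :
    ∀ (M : Type u) [AddCommGroup M] [Module B M] [Module A M] [IsScalarTower A B M],
      ∃ φ : LocCoh.H (I.map (algebraMap A B)) i M ≃+ LocCoh.H I i M,
        ∀ (r : A) (x : LocCoh.H (I.map (algebraMap A B)) i M),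
          φ (algebraMap A B r • x) = r • φ x := by
  induction i with
  | zero =>
    intro M _ _ _ _
    let e : powTors (I.map (algebraMap A B)) M ≃+ powTors I M :=
      { toFun := fun x => ⟨x.1, (mem_powTors_map_iff B I M).1 x.2⟩
        invFun := fun x => ⟨x.1, (mem_powTors_map_iff B I M).2 x.2⟩
        left_inv := fun _ => rfl
        right_inv := fun _ => rfl
        map_add' := fun _ _ => rfl }
    refine ⟨((zeroEquiv _ M).toAddEquiv.trans e).trans (zeroEquiv I M).symm.toAddEquiv, fun r x => ?_⟩
    change (zeroEquiv I M).symm (e (zeroEquiv _ M (algebraMap A B r • x))) =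
      r • (zeroEquiv I M).symm (e (zeroEquiv _ M x))
    rw [map_smul, ← map_smul (zeroEquiv I M).symm]
    congr 1
    exact Subtype.ext (algebraMap_smul B r ((zeroEquiv (I.map (algebraMap A B)) M x).1))
  | succ i ih =>
    intro M _ _ _ _
    obtain ⟨E, _, _, f, hE, hf, hac⟩ := exists_injective_extension (R := B) M
    let _ : Module A E := Module.compHom E (algebraMap A B)
    have : IsScalarTower A B E := ⟨fun a b x => by
      change (a • b) • x = algebraMap A B a • b • x
      rw [Algebra.smul_def, mul_smul]⟩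
    let g : E →ₗ[B] E ⧸ LinearMap.range f := Submodule.mkQ _
    have hg : Function.Surjective g := Submodule.mkQ_surjective _
    have hfg : Function.Exact f g := f.exact_map_mkQ_range
    have hgA : Function.Surjective (g.restrictScalars A) := hg
    have hfgA : Function.Exact (f.restrictScalars A) (g.restrictScalars A) := hfg
    have hfA : Function.Injective (f.restrictScalars A) := hf
    have hacA := subsingleton_restrictScalars_of_injective B I E hE
    cases i with
    | zero =>
      obtain ⟨e1⟩ := nonempty_h1Equiv (I.map (algebraMap A B)) hf hg hfg (hac _ 0)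
      obtain ⟨e2⟩ := nonempty_h1Equiv I hfA hgA hfgA (hacA 0)
      let d₁ : powTors (I.map (algebraMap A B)) (E ⧸ LinearMap.range f) →+
          LocCoh.H (I.map (algebraMap A B)) 1 M :=
        (e1.toLinearMap ∘ₗ (torsImage _ g).mkQ).toAddMonoidHom
      let c : powTors (I.map (algebraMap A B)) (E ⧸ LinearMap.range f) →+
          powTors I (E ⧸ LinearMap.range f) :=
        { toFun := fun x => ⟨x.1, (mem_powTors_map_iff B I _).1 x.2⟩
          map_zero' := rfl
          map_add' := fun _ _ => rfl }
      let d₂ : powTors (I.map (algebraMap A B)) (E ⧸ LinearMap.range f) →+ LocCoh.H I 1 M :=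
        (e2.toLinearMap ∘ₗ (torsImage I (g.restrictScalars A)).mkQ).toAddMonoidHom.comp c
      have hc : Function.Surjective c := fun x => ⟨⟨x.1, (mem_powTors_map_iff B I _).2 x.2⟩, rfl⟩
      obtain ⟨φ, hφ⟩ := exists_addEquiv_of_ker d₁ d₂ (e1.surjective.comp (Submodule.mkQ_surjective _))
        ((e2.surjective.comp (Submodule.mkQ_surjective _)).comp hc) fun x => by
          change e1 _ = 0 ↔ e2 _ = 0
          rw [map_eq_zero_iff e1 e1.injective, map_eq_zero_iff e2 e2.injective, Submodule.mkQ_apply,
            Submodule.mkQ_apply, Submodule.Quotient.mk_eq_zero, Submodule.Quotient.mk_eq_zero,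
            mem_torsImage, mem_torsImage]
          exact exists_congr fun b => and_congr_left fun _ => mem_powTors_map_iff B I E
      refine ⟨φ, fun r x => ?_⟩
      obtain ⟨y, rfl⟩ := (e1.surjective.comp (Submodule.mkQ_surjective _)) x
      have h1 : algebraMap A B r • d₁ y = d₁ (algebraMap A B r • y) :=
        ((e1.toLinearMap ∘ₗ (torsImage _ g).mkQ).map_smul _ _).symm
      change φ (algebraMap A B r • d₁ y) = r • φ (d₁ y)
      rw [h1, hφ, hφ]
      refine Eq.trans ?_ ((e2.toLinearMap ∘ₗ (torsImage I (g.restrictScalars A)).mkQ).map_smul r (c y))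
      refine congrArg (e2.toLinearMap ∘ₗ (torsImage I (g.restrictScalars A)).mkQ) ?_
      exact Subtype.ext (algebraMap_smul B r (y.1 : E ⧸ LinearMap.range f))
    | succ i =>
      obtain ⟨φ, hφ⟩ := ih (E ⧸ LinearMap.range f)
      let δB := δEquiv (I.map (algebraMap A B)) hf hg hfg (i + 1) (hac _ i) (hac _ (i + 1))
      let δA := δEquiv I hfA hgA hfgA (i + 1) (hacA i) (hacA (i + 1))
      refine ⟨(δB.symm.toAddEquiv.trans φ).trans δA.toAddEquiv, fun r x => ?_⟩
      change δA (φ (δB.symm (algebraMap A B r • x))) = r • δA (φ (δB.symm x))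
      rw [map_smul, hφ, map_smul]

theorem subsingleton_restrictScalars_iff (M : Type u) [AddCommGroup M] [Module B M] [Module A M]
    [IsScalarTower A B M] (i : ℕ) :
    Subsingleton (LocCoh.H (I.map (algebraMap A B)) i M) ↔ Subsingleton (LocCoh.H I i M) := by
  obtain ⟨φ, -⟩ := exists_restrictScalars_addEquiv B I i M
  exact φ.toEquiv.subsingleton_congr

end Groth.Agent.LocCohLib
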