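import Groth.Agent.Lib.LocCoh.Dim
import Groth.Agent.Lib.LocCoh.Restrict
import Mathlib.RingTheory.HopkinsLevitzki
import Mathlib.RingTheory.Artinian.Module
import Mathlib.Algebra.Module.Torsion.Basic

/-!
# Grothendieck's non-vanishing theorem
-/

universe u

open CategoryTheory Groth.Agent.InjHullLib IsLocalRing Pointwise

noncomputable section

namespace Groth.Agent.LocCohLib

variable {R : Type u} [CommRing R] [IsLocalRing R]

/-- An Artinian module killed by a power of the maximal ideal is finite. -/
theorem finite_of_isArtinian_of_pow (k : ℕ) : ∀ (N : Type u) [AddCommGroup N] [Module R N]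
    [IsArtinian R N], maximalIdeal R ^ k • (⊤ : Submodule R N) = ⊥ → Module.Finite R N := by
  induction k with
  | zero =>
    intro N _ _ _ h
    rw [pow_zero, Ideal.one_eq_top, Submodule.top_smul] at h
    exact ⟨h ▸ Submodule.fg_bot⟩
  | succ k ih =>
    intro N _ _ _ h
    let S : Submodule R N := maximalIdeal R • ⊤
    have hS : Module.Finite R S := ih S (by
      rw [eq_bot_iff]
      refine Submodule.smul_le.2 fun a ha s _ => ?_
      have h1 : a • (s : N) ∈ maximalIdeal R ^ k • S := Submodule.smul_mem_smul ha s.2
      rw [← Submodule.mul_smul, ← pow_succ, h, Submodule.mem_bot] at h1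
      exact (Submodule.mem_bot R).2 (Subtype.ext h1))
    have hQ : Module.Finite R (N ⧸ S) := by
      have ht : Module.IsTorsionBySet R (N ⧸ S) (maximalIdeal R : Set R) := fun z a => by
        obtain ⟨z, rfl⟩ := Submodule.Quotient.mk_surjective S z
        change a.1 • Submodule.Quotient.mk z = (0 : N ⧸ S)
        rw [← Submodule.Quotient.mk_smul, Submodule.Quotient.mk_eq_zero]
        exact Submodule.smul_mem_smul a.2 trivial
      let := ht.module
      have : IsScalarTower R (R ⧸ maximalIdeal R) (N ⧸ S) := ht.isScalarTower
      have : IsArtinian (R ⧸ maximalIdeal R) (N ⧸ S) := isArtinian_of_tower R inferInstance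
      let := Ideal.Quotient.field (maximalIdeal R)
      have : IsNoetherian (R ⧸ maximalIdeal R) (N ⧸ S) :=
        IsSemiprimaryRing.isNoetherian_iff_isArtinian.2 inferInstance
      exact Module.Finite.trans (R ⧸ maximalIdeal R) (N ⧸ S)
    exact Module.Finite.of_submodule_quotient S

/-- Finitely many primes control divisibility in an Artinian module. -/
theorem exists_avoid [IsNoetherianRing R] {N : Type u} [AddCommGroup N] [Module R N] [IsArtinian R N]
    (B : Submodule R N) : ∃ P : Finset (Ideal R), (∀ p ∈ P, p.IsPrime ∧ ¬ maximalIdeal R ≤ p) ∧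
      ∃ k, ∀ x : R, (∀ p ∈ P, x ∉ p) → maximalIdeal R ^ k • B ≤ x • B := by
  classical
  induction B using IsArtinian.induction with
  | _ B ih =>
    by_cases hbot : B = ⊥
    · exact ⟨∅, by simp, 0, fun x _ => by simp [hbot]⟩
    by_cases hsum : ∃ B₁ B₂ : Submodule R N, B₁ < B ∧ B₂ < B ∧ B₁ ⊔ B₂ = B
    · obtain ⟨B₁, B₂, h₁, h₂, rfl⟩ := hsum
      obtain ⟨P₁, hP₁, k₁, hk₁⟩ := ih B₁ h₁
      obtain ⟨P₂, hP₂, k₂, hk₂⟩ := ih B₂ h₂
      refine ⟨P₁ ∪ P₂, fun p hp => (Finset.mem_union.1 hp).elim (hP₁ p) (hP₂ p), max k₁ k₂,
        fun x hx => ?_⟩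
      rw [Submodule.smul_sup, Submodule.smul_sup']
      exact sup_le_sup
        ((Submodule.smul_mono_left (Ideal.pow_le_pow_right (le_max_left _ _))).trans
          (hk₁ x fun p hp => hx p (Finset.mem_union_left _ hp)))
        ((Submodule.smul_mono_left (Ideal.pow_le_pow_right (le_max_right _ _))).trans
          (hk₂ x fun p hp => hx p (Finset.mem_union_right _ hp)))
    push Not at hsum
    have hxB : ∀ x : R, x • B ≤ B := fun x => by
      rintro _ ⟨b, hb, rfl⟩
      exact B.smul_mem x hb
    have hlt : ∀ {C₁ C₂ : Submodule R N}, C₁ < B → C₂ < B → C₁ ⊔ C₂ < B := fun h₁ h₂ =>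
      lt_of_le_of_ne (sup_le h₁.le h₂.le) (hsum _ _ h₁ h₂)
    have hmem : ∀ {x : R} {C : Submodule R N} {z : N}, z ∈ x • C ↔ ∃ c ∈ C, x • c = z := fun {x C z} =>
      Submodule.mem_map
    let p : Ideal R :=
      { carrier := {x | x • B < B}
        add_mem' := fun {x y} hx hy => by
          refine lt_of_le_of_lt ?_ (hlt hx hy)
          intro z hz
          obtain ⟨c, hc, rfl⟩ := hmem.1 hz
          rw [add_smul]
          exact add_mem (Submodule.mem_sup_left (hmem.2 ⟨c, hc, rfl⟩))
            (Submodule.mem_sup_right (hmem.2 ⟨c, hc, rfl⟩))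
        zero_mem' := by
          refine lt_of_le_of_lt ?_ (bot_lt_iff_ne_bot.2 hbot)
          intro z hz
          obtain ⟨c, hc, rfl⟩ := hmem.1 hz
          simp
        smul_mem' := fun c x hx => by
          replace hx : x • B < B := hx
          change (c • x) • B < B
          refine lt_of_le_of_lt ?_ hx
          intro z hz
          obtain ⟨d, hd, rfl⟩ := hmem.1 hz
          exact hmem.2 ⟨c • d, B.smul_mem c hd, by rw [smul_eq_mul, mul_comm, mul_smul]⟩ }
    have hp : ∀ {x}, x ∉ p → x • B = B := fun {x} hx => (hxB x).eq_of_not_lt hx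
    have hprime : p.IsPrime := by
      refine ⟨fun htop => ?_, fun {x y} hxy => ?_⟩
      · have h1 : (1 : R) • B < B := (htop ▸ trivial : (1 : R) ∈ p)
        rw [one_smul] at h1
        exact lt_irrefl _ h1
      · by_contra! h
        have h2 : (x * y) • B < B := hxy
        rw [mul_smul, hp h.2, hp h.1] at h2
        exact lt_irrefl _ h2
    by_cases hm : maximalIdeal R ≤ p
    · obtain ⟨s, hs⟩ : (maximalIdeal R).FG := IsNoetherian.noetherian _
      have hmB : maximalIdeal R • B < B := by
        have : ∀ t : Finset R, ↑t ⊆ (p : Set R) → Ideal.span (t : Set R) • B < B := by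
          intro t
          induction t using Finset.induction_on with
          | empty => intro _; simpa using bot_lt_iff_ne_bot.2 hbot
          | @insert a t _ iht =>
            intro ht
            rw [Finset.coe_insert, Ideal.span_insert, Submodule.sup_smul, Submodule.ideal_span_singleton_smul]
            exact hlt (ht (Finset.mem_insert_self a t))
              (iht ((Finset.coe_subset.2 (Finset.subset_insert a t)).trans ht))
        rw [← hs]
        exact this s fun a ha => hm (hs ▸ Ideal.subset_span ha)
      obtain ⟨P, hP, k, hk⟩ := ih _ hmB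
      refine ⟨P, hP, k + 1, fun x hx => ?_⟩
      rw [pow_succ, Submodule.mul_smul]
      exact (hk x hx).trans (Submodule.map_mono Submodule.smul_le_right)
    · refine ⟨{p}, by simp [hprime, hm], 0, fun x hx => ?_⟩
      rw [pow_zero, Ideal.one_eq_top, Submodule.top_smul, hp (hx p (Finset.mem_singleton_self p))]

variable [IsNoetherianRing R]

omit [IsNoetherianRing R] in
theorem exists_pow_annihilates {T : Type u} [AddCommGroup T] [Module R T] [Module.Finite R T]
    (hT : LocCoh.IsPowerTorsion (maximalIdeal R) T) :
    ∃ n, ∀ a ∈ maximalIdeal R ^ n, ∀ t : T, a • t = 0 := by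
  classical
  obtain ⟨s, hs⟩ := Module.Finite.fg_top (R := R) (M := T)
  choose n hn using hT
  refine ⟨s.sup n, fun a ha t => ?_⟩
  have ht : t ∈ Submodule.span R (s : Set T) := hs ▸ trivial
  refine Submodule.span_induction (p := fun t _ => a • t = 0)
    (fun x hx => hn x a (Ideal.pow_le_pow_right (Finset.le_sup hx) ha)) (smul_zero a)
    (fun x y _ _ hx hy => by rw [smul_add, hx, hy, add_zero])
    (fun c x _ hx => by rw [smul_comm, hx, smul_zero]) ht

/-- Grothendieck non-vanishing, with the failure of finiteness in positive dimension. -/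
theorem nontrivial_and_not_finite (n : ℕ) : ∀ (M : Type u) [AddCommGroup M] [Module R M]
    [Module.Finite R M], Module.supportDim R M = n →
      Nontrivial (LocCoh.H (maximalIdeal R) n M) ∧
        (1 ≤ n → ¬ Module.Finite R (LocCoh.H (maximalIdeal R) n M)) := by
  classical
  induction n with
  | zero =>
    intro M _ _ _ hn
    refine ⟨?_, by omega⟩
    have : Nontrivial M := Module.supportDim_ne_bot_iff_nontrivial R M |>.1 (by rw [hn]; simp)
    have htop : powTors (maximalIdeal R) M = ⊤ := by
      rw [← isPowerTorsion_iff]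
      have hsupp : ∀ p ∈ Module.support R M, maximalIdeal R ≤ p.asIdeal := fun p hp => by
        have h1 : (Order.coheight p : WithBot ℕ∞) ≤ ((0 : ℕ∞) : WithBot ℕ∞) :=
          (coheight_le_supportDim hp).trans hn.le
        have h2 : IsMax p := Order.coheight_eq_zero.1 (nonpos_iff_eq_zero.1 (WithBot.coe_le_coe.1 h1))
        have hle : p ≤ ⟨maximalIdeal R, inferInstance⟩ := le_maximalIdeal p.isPrime.ne_top
        exact h2 hle
      have hrad : maximalIdeal R ≤ (Module.annihilator R M).radical := by
        rw [Ideal.radical_eq_sInf]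
        refine le_sInf fun p ⟨hp, hpp⟩ => hsupp ⟨p, hpp⟩ ?_
        rw [Module.support_eq_zeroLocus]
        exact hp
      obtain ⟨k, hk⟩ := Ideal.exists_pow_le_of_le_radical_of_fg hrad (IsNoetherian.noetherian _)
      exact fun x => ⟨k, fun a ha => Module.mem_annihilator.1 (hk ha) x⟩
    rw [(zeroEquiv (maximalIdeal R) M).toEquiv.nontrivial_congr, htop]
    exact Submodule.topEquiv.toEquiv.nontrivial
  | succ k ih =>
    intro M _ _ _ hn
    suffices hfin : ¬ Module.Finite R (LocCoh.H (maximalIdeal R) (k + 1) M) by
      refine ⟨?_, fun _ => hfin⟩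
      by_contra h
      rw [not_nontrivial_iff_subsingleton] at h
      exact hfin inferInstance
    intro hfin
    let T := powTors (maximalIdeal R) M
    let M' := M ⧸ T
    have hfin' : Module.Finite R (LocCoh.H (maximalIdeal R) (k + 1) M') :=
      Module.Finite.of_surjective _ (hmap_g_surjective (maximalIdeal R) T.injective_subtype
        T.mkQ_surjective (LinearMap.exact_subtype_mkQ T) (k + 1)
        (subsingleton_of_isPowerTorsion _ (k + 1) T (isPowerTorsion_powTors _)))
    have hsuppT : ∀ p ∈ Module.support R T, maximalIdeal R ≤ p.asIdeal := fun p hp => by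
      obtain ⟨z, hz⟩ := Module.mem_support_iff_exists_annihilator.1 hp
      obtain ⟨j, hj⟩ := mem_powTors_iff.1 z.2
      refine p.isPrime.le_of_pow_le (n := j) fun a ha => hz ?_
      rw [Submodule.mem_annihilator_span_singleton]
      exact Subtype.ext (hj a ha)
    have hne : Nontrivial M' := by
      by_contra h
      rw [not_nontrivial_iff_subsingleton] at h
      have h1 : Module.supportDim R M ≤ ((0 : ℕ∞) : WithBot ℕ∞) := by
        have hM : ∀ p ∈ Module.support R M, maximalIdeal R ≤ p.asIdeal := fun p hp => by
          rw [Module.support_of_exact (LinearMap.exact_subtype_mkQ T) T.injective_subtype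
            T.mkQ_surjective] at hp
          rcases hp with hp | hp
          · exact hsuppT p hp
          · exact absurd hp (by rw [Module.support_eq_empty]; exact Set.notMem_empty p)
        have : Subsingleton (Module.support R M) :=
          ⟨fun a b => Subtype.ext (PrimeSpectrum.ext
            ((le_antisymm (le_maximalIdeal a.1.isPrime.ne_top) (hM _ a.2)).trans
              (le_antisymm (le_maximalIdeal b.1.isPrime.ne_top) (hM _ b.2)).symm))⟩
        exact Order.krullDim_nonpos_of_subsingleton
      rw [hn] at h1
      have h2 := WithBot.coe_le_coe.1 h1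
      simp at h2
    have hsupp : Module.support R M = Module.support R M' := by
      rw [Module.support_of_exact (LinearMap.exact_subtype_mkQ T) T.injective_subtype T.mkQ_surjective,
        Set.union_eq_right]
      intro p hp
      obtain ⟨q, hq⟩ := (Module.nonempty_support_iff (R := R) (M := M')).2 hne
      have hle : q ≤ p := fun y hy => hsuppT p hp (le_maximalIdeal q.isPrime.ne_top hy)
      exact Module.mem_support_mono hle hq
    have hn' : Module.supportDim R M' = ((k + 1 : ℕ) : WithBot ℕ∞) := by
      rw [← hn]; unfold Module.supportDim; rw [hsupp]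
    have hdepth : powTors (maximalIdeal R) M' = ⊥ := by
      rw [eq_bot_iff]
      intro z hz
      obtain ⟨z, rfl⟩ := Submodule.Quotient.mk_surjective T z
      obtain ⟨j, hj⟩ := mem_powTors_iff.1 hz
      obtain ⟨r, hr⟩ : (maximalIdeal R ^ j).FG := IsNoetherian.noetherian _
      have hT : LocCoh.IsPowerTorsion (maximalIdeal R) T := isPowerTorsion_powTors _
      obtain ⟨e, he⟩ := exists_pow_annihilates hT
      rw [Submodule.mem_bot, Submodule.Quotient.mk_eq_zero]
      refine mem_powTors_iff.2 ⟨e + j, fun a ha => ?_⟩
      rw [pow_add] at ha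
      refine Submodule.mul_induction_on ha (fun u hu v hv => ?_) fun u v hu hv => by
        rw [add_smul, hu, hv, add_zero]
      have hv' := hj v hv
      rw [← Submodule.Quotient.mk_smul, Submodule.Quotient.mk_eq_zero] at hv'
      rw [mul_smul]
      exact congrArg Subtype.val (he u hu ⟨v • z, hv'⟩)
    -- choose a good element
    have := isArtinian_H (R := R) k M'
    obtain ⟨P, hP, e, he⟩ := exists_avoid (⊤ : Submodule R (LocCoh.H (maximalIdeal R) k M'))
    let F := P ∪ (associatedPrimes.finite R M').toFinset
    have hF : ∀ p ∈ F, p.IsPrime ∧ ¬ maximalIdeal R ≤ p := fun p hp => by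
      rcases Finset.mem_union.1 hp with hp | hp
      · exact hP p hp
      · rw [Set.Finite.mem_toFinset] at hp
        obtain ⟨hprime, m, hm⟩ := isAssociatedPrime_iff.1 hp
        refine ⟨hprime, fun hle => ?_⟩
        have hm0 : m = 0 := by
          rw [← Submodule.mem_bot R, ← hdepth]
          refine mem_powTors_iff.2 ⟨1, fun a ha => ?_⟩
          rw [pow_one] at ha
          have := hle ha
          rw [hm] at this
          simpa using this
        exact hprime.ne_top (by rw [hm, hm0]; ext; simp)
    obtain ⟨x, hx, hxF⟩ : ∃ x ∈ maximalIdeal R, ∀ p ∈ F, x ∉ p := by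
      by_contra! hcon
      have hsub : ((maximalIdeal R : Ideal R) : Set R) ⊆ ⋃ p ∈ (↑F : Set (Ideal R)), (p : Set R) := fun x hx => by
        obtain ⟨p, hp, hxp⟩ := hcon x hx
        exact Set.mem_biUnion hp hxp
      obtain ⟨p, hp, hle⟩ := (Ideal.subset_union_prime (f := id) (⊥ : Ideal R) ⊥
        (fun p hp _ _ => (hF p hp).1)).1 hsub
      exact (hF p hp).2 hle
    have hreg : IsSMulRegular M' x := by
      by_contra hnr
      have hmem : x ∈ ⋃ p ∈ associatedPrimes R M', (p : Set R) := by
        rw [biUnion_associatedPrimes_eq_compl_regular]; exact hnr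
      obtain ⟨p, hp, hxp⟩ := Set.mem_iUnion₂.1 hmem
      exact hxF p (Finset.mem_union_right _ ((associatedPrimes.finite R M').mem_toFinset.2 hp)) hxp
    let mx : M' →ₗ[R] M' := x • LinearMap.id
    let Q := M' ⧸ LinearMap.range mx
    have hmx : Function.Injective mx := hreg
    have hS := shortExact_mk mx (LinearMap.range mx).mkQ hmx (Submodule.mkQ_surjective _) (exact_smul_mkQ x)
    let eQ : QuotSMulTop x M' ≃ₗ[R] Q := Submodule.quotEquivOfEq _ _ (by
      ext z
      exact ⟨fun hz => by obtain ⟨w, -, rfl⟩ := Submodule.mem_map.1 hz; exact ⟨w, rfl⟩,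
        fun ⟨w, hw⟩ => Submodule.mem_map.2 ⟨w, trivial, hw⟩⟩)
    have hQdim : Module.supportDim R Q = (k : WithBot ℕ∞) := by
      have h := Module.supportDim_quotSMulTop_succ_eq_supportDim hreg hx
      rw [Module.supportDim_eq_of_equiv eQ, hn', Nat.cast_succ] at h
      exact le_antisymm (DepthLib.withBot_add_coe_cancel 1 (by exact_mod_cast h.le))
        (DepthLib.withBot_add_coe_cancel 1 (by exact_mod_cast h.ge))
    obtain ⟨hQne, hQfin⟩ := ih Q hQdim
    let d : LocCoh.H (maximalIdeal R) k Q →ₗ[R] LocCoh.H (maximalIdeal R) (k + 1) M' :=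
      δ (maximalIdeal R) k hS
    cases k with
    | zero =>
      -- `M'/x^j M'` is killed by a fixed power of `x`
      obtain ⟨N, hN⟩ := exists_pow_annihilates (isPowerTorsion (maximalIdeal R) 1 M')
      have hxN : LinearMap.range (x ^ N • LinearMap.id : M' →ₗ[R] M') ≤
          maximalIdeal R • LinearMap.range (x ^ N • LinearMap.id : M' →ₗ[R] M') := by
        rintro _ ⟨z, rfl⟩
        let my : M' →ₗ[R] M' := x ^ (N + 1) • LinearMap.id
        have hmy : Function.Injective my := hreg.pow _
        have hSy := shortExact_mk my (LinearMap.range my).mkQ hmy (Submodule.mkQ_surjective _)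
          (exact_smul_mkQ _)
        have hQt : LocCoh.IsPowerTorsion (maximalIdeal R) (M' ⧸ LinearMap.range my) := by
          have hrad : maximalIdeal R ≤ (Module.annihilator R (M' ⧸ LinearMap.range my)).radical := by
            rw [Ideal.radical_eq_sInf]
            refine le_sInf fun q ⟨hq, hqq⟩ => ?_
            have hqs : (⟨q, hqq⟩ : PrimeSpectrum R) ∈ Module.support R (M' ⧸ LinearMap.range my) := by
              rw [Module.support_eq_zeroLocus]; exact hq
            have hxq : x ∈ q := hqq.mem_of_pow_mem (N + 1) (hq (Module.mem_annihilator.2 fun w => by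
              obtain ⟨w, rfl⟩ := Submodule.Quotient.mk_surjective _ w
              rw [← Submodule.Quotient.mk_smul, Submodule.Quotient.mk_eq_zero]
              exact ⟨w, rfl⟩))
            have hqM : (⟨q, hqq⟩ : PrimeSpectrum R) ∈ Module.support R (QuotSMulTop x M') := by
              rw [Module.support_quotSMulTop]
              exact ⟨Module.support_subset_of_surjective _ (Submodule.mkQ_surjective _) hqs,
                by simpa using hxq⟩
            have h1 := coheight_le_supportDim hqM
            rw [Module.supportDim_eq_of_equiv eQ, hQdim] at h1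
            have h2 : IsMax (⟨q, hqq⟩ : PrimeSpectrum R) :=
              Order.coheight_eq_zero.1 (nonpos_iff_eq_zero.1 (WithBot.coe_le_coe.1 h1))
            have hle : (⟨q, hqq⟩ : PrimeSpectrum R) ≤ ⟨maximalIdeal R, inferInstance⟩ :=
              le_maximalIdeal hqq.ne_top
            exact h2 hle
          obtain ⟨j, hj⟩ := Ideal.exists_pow_le_of_le_radical_of_fg hrad (IsNoetherian.noetherian _)
          exact fun w => ⟨j, fun a ha => Module.mem_annihilator.1 (hj ha) w⟩
        obtain ⟨c, hc⟩ := (zeroMap_bijective (maximalIdeal R) hQt).2 (Submodule.Quotient.mk z)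
        have hd : x ^ N • c = 0 := by
          refine (injective_iff_map_eq_zero (δ (maximalIdeal R) 0 hSy)).1 ?_ _
            ((map_smul _ _ _).trans (hN _ (Ideal.pow_mem_pow hx N) _))
          rw [← LinearMap.ker_eq_bot, eq_bot_iff]
          intro y hy
          obtain ⟨w, rfl⟩ := (exact_map_δ (maximalIdeal R) 0 hSy y).1 hy
          have h0 : Subsingleton (LocCoh.H (maximalIdeal R) 0 M') := (subsingleton_zero_iff _).2 hdepth
          exact (congrArg _ (h0.elim w 0)).trans (map_zero _)
        have h3 := congrArg (zeroMap (maximalIdeal R) _) hd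
        rw [map_smul, map_zero, hc, ← Submodule.Quotient.mk_smul, Submodule.Quotient.mk_eq_zero] at h3
        obtain ⟨w, hw⟩ := h3
        change x ^ N • z ∈ _
        rw [← hw]
        change x ^ (N + 1) • w ∈ _
        rw [pow_succ', mul_smul]
        exact Submodule.smul_mem_smul hx ⟨w, rfl⟩
      have hbot := Submodule.eq_bot_of_le_smul_of_le_jacobson_bot _ _ (IsNoetherian.noetherian _) hxN
        (maximalIdeal_le_jacobson _)
      obtain ⟨z, hz⟩ := exists_ne (0 : M')
      exact hz ((hreg.pow N).right_eq_zero_of_smul
        ((Submodule.mem_bot R).1 (hbot ▸ LinearMap.mem_range_self _ z)))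
    | succ k =>
      refine hQfin (Nat.succ_pos k) ?_
      let g := hmap (maximalIdeal R) (k + 1) (LinearMap.range mx).mkQ
      have hker : Module.Finite R (LinearMap.ker d) := by
        have hrange : LinearMap.ker d = LinearMap.range g :=
          SetLike.ext fun y => exact_map_δ (maximalIdeal R) (k + 1) hS y
        rw [hrange]
        -- the range is a quotient of `H/xH`
        let X := x • (⊤ : Submodule R (LocCoh.H (maximalIdeal R) (k + 1) M'))
        have hle : X ≤ LinearMap.ker g := by
          intro y hy
          obtain ⟨w, -, rfl⟩ := Submodule.mem_map.1 hy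
          refine ((exact_map_map (maximalIdeal R) (k + 1) hS (x • w)).2 ⟨w, ?_⟩ : g (x • w) = 0)
          change hmap (maximalIdeal R) (k + 1) (x • LinearMap.id) w = x • w
          rw [hmap_smul, hmap_id]
          rfl
        have hX : Module.Finite R (_ ⧸ X) := finite_of_isArtinian_of_pow e _ (by
          rw [eq_bot_iff]
          refine Submodule.smul_le.2 fun a ha w _ => ?_
          obtain ⟨w, rfl⟩ := Submodule.Quotient.mk_surjective X w
          rw [← Submodule.Quotient.mk_smul, Submodule.mem_bot, Submodule.Quotient.mk_eq_zero]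
          exact he x (fun p hp => hxF p (Finset.mem_union_left _ hp)) (Submodule.smul_mem_smul ha trivial))
        rw [show LinearMap.range g = LinearMap.range (X.liftQ g hle) from (Submodule.range_liftQ _ _ _).symm]
        infer_instance
      have : Module.Finite R (LinearMap.range d) := Module.Finite.iff_fg.2 (IsNoetherian.noetherian _)
      have : Module.Finite R (LocCoh.H (maximalIdeal R) (k + 1) Q ⧸ LinearMap.ker d) :=
        Module.Finite.equiv d.quotKerEquivRange.symm
      exact Module.Finite.of_submodule_quotient (LinearMap.ker d)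

end Groth.Agent.LocCohLib
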