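import Groth.Agent.Lib.LocCoh.Change
import Mathlib.Algebra.Module.FinitePresentation
import Mathlib.Algebra.Module.LocalizedModule.Basic
import Mathlib.RingTheory.Flat.FaithfullyFlat.Basic
import Mathlib.LinearAlgebra.TensorProduct.Pi
import Mathlib.Algebra.Category.ModuleCat.Projective
import Mathlib.RingTheory.Ideal.Quotient.Noetherian

/-!
# Reducing local cohomology to finite modules; behaviour under localization
-/

universe u

open CategoryTheory Abelian TensorProduct

noncomputable section

namespace Groth.Agent.LocCohLib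

variable {R : Type u} [CommRing R] [IsNoetherianRing R]

/-- A presentation of a finite module by a finite free module with finite kernel. -/
theorem exists_free_presentation (N : Type u) [AddCommGroup N] [Module R N] [Module.Finite R N] :
    ∃ (k : ℕ) (K : Submodule R (Fin k → R)) (π : (Fin k → R) →ₗ[R] N) (_ : Module.Finite R K),
      Function.Exact K.subtype π ∧ Function.Surjective π := by
  obtain ⟨k, π, hπ⟩ := Module.Finite.exists_fin' R N
  exact ⟨k, LinearMap.ker π, π, Module.Finite.iff_fg.2 (IsNoetherian.noetherian _),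
    LinearMap.exact_subtype_ker_map π, hπ⟩

omit [IsNoetherianRing R] in
theorem projective_pi (k : ℕ) : Projective (ModuleCat.of R (Fin k → R)) :=
  (IsProjective.iff_projective (R := R) (Fin k → R)).1 inferInstance

/-- Every `Ext` class out of a finite module comes from a finite submodule. -/
theorem exists_finite_lift (M : Type u) [AddCommGroup M] [Module R M] (i : ℕ) :
    ∀ (N : Type u) [AddCommGroup N] [Module R N] [Module.Finite R N]
      (y : Ext (ModuleCat.of R N) (ModuleCat.of R M) i),
      ∃ (S : Submodule R M) (_ : Module.Finite R S) (y' : Ext (ModuleCat.of R N) (ModuleCat.of R S) i),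
        y'.comp (Ext.mk₀ (ModuleCat.ofHom S.subtype)) (add_zero i) = y := by
  induction i with
  | zero =>
    intro N _ _ _ y
    obtain ⟨g, rfl⟩ := (Ext.mk₀_bijective _ _).2 y
    refine ⟨LinearMap.range g.hom, inferInstance,
      Ext.mk₀ (ModuleCat.ofHom g.hom.rangeRestrict), ?_⟩
    rw [Ext.mk₀_comp_mk₀]
    rfl
  | succ i ih =>
    intro N _ _ _ y
    obtain ⟨k, K, π, _, hex, hπ⟩ := exists_free_presentation (R := R) N
    have hS := DepthLib.shortExact_of_linearMap K.injective_subtype hπ hex
    have := projective_pi (R := R) k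
    obtain ⟨z, hz⟩ := Ext.contravariant_sequence_exact₃ hS _ y (Ext.eq_zero_of_projective _)
      (n₀ := i) (add_comm 1 i)
    obtain ⟨S, hSfin, z', rfl⟩ := ih K z
    refine ⟨S, hSfin, hS.extClass.comp z' (add_comm 1 i), ?_⟩
    rw [Ext.comp_assoc_of_third_deg_zero, hz]

/-- Local cohomology vanishes once it does on finite submodules. -/
theorem subsingleton_of_forall_finite (I : Ideal R) (M : Type u) [AddCommGroup M] [Module R M] (i : ℕ)
    (h : ∀ S : Submodule R M, Module.Finite R S → Subsingleton (LocCoh.H I i S)) :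
    Subsingleton (LocCoh.H I i M) := by
  refine subsingleton_of_forall_eq 0 fun x => ?_
  obtain ⟨n, y, rfl⟩ := exists_ι I i _ x
  obtain ⟨S, hS, y', rfl⟩ := exists_finite_lift M i (R ⧸ I ^ n) y
  refine (map_ι I i (ModuleCat.ofHom S.subtype) n y').symm.trans ?_
  exact (congrArg _ ((h S hS).elim _ 0)).trans (map_zero _)

omit [IsNoetherianRing R] in
/-- Products of finitely many copies. -/
theorem subsingleton_pi (I : Ideal R) (i : ℕ) (M : Type u) [AddCommGroup M] [Module R M]
    (h : Subsingleton (LocCoh.H I i M)) : ∀ k : ℕ, Subsingleton (LocCoh.H I i (Fin k → M)) := by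
  intro k
  refine subsingleton_of_forall_eq 0 fun x => ?_
  have hid : (LinearMap.id : (Fin k → M) →ₗ[R] Fin k → M) =
      ∑ j : Fin k, LinearMap.single R (fun _ => M) j ∘ₗ LinearMap.proj (φ := fun _ => M) j := by
    refine LinearMap.ext fun v => funext fun l => ?_
    simp [Finset.sum_apply, Pi.single_apply]
  obtain ⟨n, y, rfl⟩ := exists_ι I i _ x
  have hy : y = ∑ j : Fin k, y.comp
      (Ext.mk₀ (ModuleCat.ofHom (LinearMap.single R (fun _ => M) j ∘ₗ LinearMap.proj (φ := fun _ => M) j)))
      (add_zero i) := by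
    rw [← Ext.comp_sum, ← Ext.mk₀_sum]
    conv_lhs => rw [← Ext.comp_mk₀_id y]
    congr 2
    refine ModuleCat.hom_ext ?_
    rw [ModuleCat.hom_sum]
    exact hid
  rw [hy, map_sum]
  refine Finset.sum_eq_zero fun j _ => ?_
  rw [← map_ι I i (ModuleCat.ofHom (LinearMap.single R (fun _ => M) j ∘ₗ LinearMap.proj (φ := fun _ => M) j)) n y]
  change hmap I i (LinearMap.single R (fun _ => M) j ∘ₗ LinearMap.proj (φ := fun _ => M) j) _ = 0
  rw [hmap_comp, LinearMap.comp_apply, h.elim (hmap I i (LinearMap.proj (φ := fun _ => M) j) _) 0, map_zero]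

/-- `cd ≤ d` is detected on the ring. -/
theorem cdLE_iff_self (I : Ideal R) (d : ℕ) :
    (∀ i : ℕ, d < i → Subsingleton (LocCoh.H I i R)) ↔ LocCoh.CdLE R I d := by
  refine ⟨fun h => ?_, fun h i hi => h R i hi⟩
  obtain ⟨r, hr⟩ := exists_cdLE I
  have key : ∀ (j i : ℕ), r < i + j → d < i → ∀ (M : Type u) [AddCommGroup M] [Module R M]
      [Module.Finite R M], Subsingleton (LocCoh.H I i M) := by
    intro j
    induction j with
    | zero => exact fun i hi _ M _ _ _ => hr M i (by omega)
    | succ j ih =>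
      intro i hi hd M _ _ _
      obtain ⟨k, K, π, _, hex, hπ⟩ := exists_free_presentation (R := R) M
      exact subsingleton_right I K.injective_subtype hπ hex i (subsingleton_pi I i R (h i hd) k)
        (ih (i + 1) (by omega) (by omega) K)
  intro M _ _ i hi
  exact subsingleton_of_forall_finite I M i fun S hS => key (r + 1) i (by omega) hi S

section Localization

variable (S : Submonoid R) {M M' : Type u} [AddCommGroup M] [Module R M] [AddCommGroup M'] [Module R M']
  (φ : M →ₗ[R] M') [IsLocalizedModule S φ]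

/-- `Ext` out of a finite module into a localization, up to denominators. -/
theorem ext_localization (i : ℕ) :
    ∀ (N : Type u) [AddCommGroup N] [Module R N] [Module.Finite R N],
      (∀ z : Ext (ModuleCat.of R N) (ModuleCat.of R M) i,
        z.comp (Ext.mk₀ (ModuleCat.ofHom φ)) (add_zero i) = 0 → ∃ s ∈ S, s • z = 0) ∧
      (∀ w : Ext (ModuleCat.of R N) (ModuleCat.of R M') i, ∃ s ∈ S,
        ∃ z : Ext (ModuleCat.of R N) (ModuleCat.of R M) i,
          z.comp (Ext.mk₀ (ModuleCat.ofHom φ)) (add_zero i) = s • w) := by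
  induction i with
  | zero =>
    intro N _ _ hN
    have : Module.FinitePresentation R N := Module.finitePresentation_of_finite R N
    constructor
    · intro z hz
      obtain ⟨g, rfl⟩ := (Ext.mk₀_bijective _ _).2 z
      rw [Ext.mk₀_comp_mk₀] at hz
      have hg : φ ∘ₗ g.hom = 0 :=
        congrArg ModuleCat.Hom.hom ((Ext.mk₀_bijective _ _).1 (hz.trans (Ext.mk₀_zero _ _).symm))
      obtain ⟨s, hs⟩ := Module.Finite.exists_smul_of_comp_eq_of_isLocalizedModule S φ g.hom 0
        (by rw [hg, LinearMap.comp_zero])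
      refine ⟨s, s.2, ?_⟩
      rw [← Ext.mk₀_smul, show (s : R) • g = 0 from ModuleCat.hom_ext (by simpa [Submonoid.smul_def] using hs), Ext.mk₀_zero]
    · intro w
      obtain ⟨g, rfl⟩ := (Ext.mk₀_bijective _ _).2 w
      obtain ⟨g', s, hgs⟩ := Module.FinitePresentation.exists_lift_of_isLocalizedModule S φ g.hom
      refine ⟨s, s.2, Ext.mk₀ (ModuleCat.ofHom g'), ?_⟩
      rw [Ext.mk₀_comp_mk₀, ← Ext.mk₀_smul]
      congr 1
      exact ModuleCat.hom_ext (by simpa [Submonoid.smul_def] using hgs)
  | succ i ih =>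
    intro N _ _ hN
    obtain ⟨k, K, π, _, hex, hπ⟩ := exists_free_presentation (R := R) N
    have hS := DepthLib.shortExact_of_linearMap K.injective_subtype hπ hex
    have := projective_pi (R := R) k
    constructor
    · intro y hy
      obtain ⟨z, rfl⟩ := Ext.contravariant_sequence_exact₃ hS _ y (Ext.eq_zero_of_projective _)
        (n₀ := i) (add_comm 1 i)
      rw [Ext.comp_assoc_of_third_deg_zero] at hy
      obtain ⟨w, hw⟩ := Ext.contravariant_sequence_exact₁ hS _ _ (add_comm 1 i) hy
      obtain ⟨s, hs, w₀, hw₀⟩ := (ih (Fin k → R)).2 w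
      obtain ⟨t, ht, h0⟩ := (ih K).1 (s • z - (Ext.mk₀ (ModuleCat.ofHom K.subtype)).comp w₀ (zero_add i)) (by
        rw [sub_eq_add_neg, Ext.add_comp, Ext.neg_comp, ← sub_eq_add_neg, Ext.smul_comp, Ext.comp_assoc_of_third_deg_zero, hw₀, Ext.comp_smul, ← hw,
          sub_self])
      refine ⟨t * s, S.mul_mem ht hs, ?_⟩
      rw [smul_sub, sub_eq_zero] at h0
      rw [← Ext.comp_smul, mul_smul, h0, Ext.comp_smul,
        ← Ext.comp_assoc_of_second_deg_zero]
      change t • ((hS.extClass.comp (Ext.mk₀ (ShortComplex.mk (ModuleCat.ofHom K.subtype)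
        (ModuleCat.ofHom π) _).f) (add_zero 1)).comp w₀ (add_comm 1 i)) = 0
      rw [ShortComplex.ShortExact.extClass_comp, Ext.zero_comp, smul_zero]
    · intro w
      obtain ⟨v, rfl⟩ := Ext.contravariant_sequence_exact₃ hS _ w (Ext.eq_zero_of_projective _)
        (n₀ := i) (add_comm 1 i)
      obtain ⟨s, hs, z, hz⟩ := (ih K).2 v
      refine ⟨s, hs, hS.extClass.comp z (add_comm 1 i), ?_⟩
      rw [Ext.comp_assoc_of_third_deg_zero, hz, Ext.comp_smul]

include S φ in
/-- Vanishing passes to localized modules. -/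
theorem subsingleton_localization (I : Ideal R) (i : ℕ) (h : Subsingleton (LocCoh.H I i M)) :
    Subsingleton (LocCoh.H I i M') := by
  refine subsingleton_of_forall_eq 0 fun x => ?_
  obtain ⟨n, w, rfl⟩ := exists_ι I i _ x
  obtain ⟨s, hs, z, hz⟩ := (ext_localization S φ i (R ⧸ I ^ n)).2 w
  have h0 : s • ι I i (ModuleCat.of R M') n w = 0 := by
    rw [← map_smul, ← hz, ← map_ι]
    exact (congrArg _ (h.elim _ 0)).trans (map_zero _)
  -- `s` acts bijectively on `M'`
  let e : M' ≃ₗ[R] M' := LinearEquiv.ofBijective (s • LinearMap.id)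
    ((Module.End.isUnit_iff _).1 (IsLocalizedModule.map_units φ ⟨s, hs⟩))
  refine (hcongr I i e).injective ?_
  rw [map_zero]
  change hmap I i (s • (LinearMap.id : M' →ₗ[R] M')) _ = 0
  rw [hmap_smul, hmap_id]
  exact h0

end Localization

/-- Vanishing is local. -/
theorem subsingleton_of_localizations (I : Ideal R) (i : ℕ) (M : Type u) [AddCommGroup M] [Module R M]
    (h : ∀ p : PrimeSpectrum R, Subsingleton (LocCoh.H I i (LocalizedModule p.asIdeal.primeCompl M))) :
    Subsingleton (LocCoh.H I i M) := by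
  refine subsingleton_of_forall_eq 0 fun x => ?_
  let a : Ideal R := LinearMap.ker (LinearMap.toSpanSingleton R _ x)
  by_contra hx
  have ha : a ≠ ⊤ := fun ha => hx (by
    have : (1 : R) ∈ a := ha ▸ trivial
    simpa [a] using this)
  obtain ⟨m, hm, hle⟩ := Ideal.exists_le_maximal a ha
  obtain ⟨n, y, rfl⟩ := exists_ι I i _ x
  have h0 : ι I i _ n (y.comp (Ext.mk₀ (ModuleCat.ofHom
      (LocalizedModule.mkLinearMap m.primeCompl M))) (add_zero i)) = 0 :=
    (h ⟨m, hm.isPrime⟩).elim _ _
  obtain ⟨k, hk, h1⟩ := (ι_eq_zero_iff I i _ _).1 h0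
  rw [← Ext.comp_assoc_of_third_deg_zero] at h1
  obtain ⟨s, hs, hs0⟩ := (ext_localization m.primeCompl
    (LocalizedModule.mkLinearMap m.primeCompl M) i (R ⧸ I ^ k)).1 _ h1
  refine hs (hle ?_)
  rw [LinearMap.mem_ker, LinearMap.toSpanSingleton_apply, ← ι_proj I i _ hk, ← map_smul, hs0, map_zero]

section FaithfullyFlat

variable (B : Type u) [CommRing B] [Algebra R B] [Module.FaithfullyFlat R B]

/-- `Ext` into the ring injects into `Ext` into a faithfully flat algebra. -/
theorem eq_zero_of_comp_algebraMap (i : ℕ) :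
    ∀ (N : Type u) [AddCommGroup N] [Module R N] [Module.Finite R N]
      (z : Ext (ModuleCat.of R N) (ModuleCat.of R R) i),
      z.comp (Ext.mk₀ (ModuleCat.ofHom (Algebra.linearMap R B))) (add_zero i) = 0 → z = 0 := by
  induction i with
  | zero =>
    intro N _ _ _ z hz
    have hinj : Function.Injective (Algebra.linearMap R B) :=
      FaithfulSMul.algebraMap_injective R B
    have : Mono (ModuleCat.ofHom (Algebra.linearMap R B)) := (ModuleCat.mono_iff_injective _).2 hinj
    exact Ext.postcomp_mk₀_injective_of_mono _ _ (hz.trans (by simp))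
  | succ i ih =>
    intro N _ _ _ y hy
    obtain ⟨k, K, π, _, hex, hπ⟩ := exists_free_presentation (R := R) N
    have hS := DepthLib.shortExact_of_linearMap K.injective_subtype hπ hex
    have := projective_pi (R := R) k
    obtain ⟨z, rfl⟩ := Ext.contravariant_sequence_exact₃ hS _ y (Ext.eq_zero_of_projective _)
      (n₀ := i) (add_comm 1 i)
    rw [Ext.comp_assoc_of_third_deg_zero] at hy
    obtain ⟨w, hw⟩ := Ext.contravariant_sequence_exact₁ hS _ _ (add_comm 1 i) hy
    cases i with
    | succ i =>
      rw [Ext.eq_zero_of_projective w, Ext.comp_zero] at hw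
      rw [ih K z hw.symm, Ext.comp_zero]
    | zero =>
      obtain ⟨g, rfl⟩ := (Ext.mk₀_bijective _ _).2 z
      obtain ⟨v, rfl⟩ := (Ext.mk₀_bijective _ _).2 w
      erw [Ext.mk₀_comp_mk₀, Ext.mk₀_comp_mk₀] at hw
      have hvg : ∀ t : K, v.hom t.1 = algebraMap R B (g.hom t) := fun t =>
        congr($((Ext.mk₀_bijective _ _).1 hw).hom t)
      obtain ⟨r, t, ht⟩ := Module.Finite.exists_fin (R := R) (M := K)
      let T : (Fin k → R) →ₗ[R] (Fin r → R) :=
        LinearMap.pi fun j => ∑ l : Fin k, (t j).1 l • LinearMap.proj l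
      let m : Fin r → R := fun j => g.hom (t j)
      have hvec : (1 : B) ⊗ₜ[R] m = ∑ l : Fin k, v.hom (Pi.single l 1) ⊗ₜ[R] T (Pi.single l 1) := by
        apply (TensorProduct.piScalarRight R R B (Fin r)).injective
        refine funext fun j => ?_
        simp only [map_sum, Finset.sum_apply, piScalarRight_apply, piScalarRightHom_tmul, m, T,
          LinearMap.pi_apply, LinearMap.sum_apply, LinearMap.smul_apply, LinearMap.proj_apply,
          Pi.single_apply, smul_eq_mul, mul_ite, mul_one, mul_zero, Finset.sum_ite_eq',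
          Finset.mem_univ, if_true]
        rw [← Algebra.algebraMap_eq_smul_one, ← hvg (t j)]
        conv_lhs => rw [pi_eq_sum_univ' (t j).1, map_sum]
        exact Finset.sum_congr rfl fun l _ => by rw [map_smul]
      have hq : (Submodule.mkQ (LinearMap.range T)) m = 0 := by
        refine Module.FaithfullyFlat.tensorProduct_mk_injective (A := R) (B := B) _ ?_
        simp only [TensorProduct.mk_apply, tmul_zero]
        have := congrArg (LinearMap.lTensor B (Submodule.mkQ (LinearMap.range T))) hvec
        rw [LinearMap.lTensor_tmul, map_sum] at this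
        rw [this]
        refine Finset.sum_eq_zero fun l _ => ?_
        rw [LinearMap.lTensor_tmul, Submodule.mkQ_apply,
          (Submodule.Quotient.mk_eq_zero _).2 (LinearMap.mem_range_self T _), tmul_zero]
      obtain ⟨x, hx⟩ := (Submodule.Quotient.mk_eq_zero _).1 hq
      let G : (Fin k → R) →ₗ[R] R := ∑ l : Fin k, x l • LinearMap.proj l
      have hG : g.hom = G ∘ₗ K.subtype := by
        refine LinearMap.ext_on_range ht fun j => ?_
        refine (congrFun hx j).symm.trans ?_
        simp [T, G, mul_comm]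
      have hg : g = ModuleCat.ofHom K.subtype ≫ ModuleCat.ofHom G := ModuleCat.hom_ext hG
      rw [hg, ← Ext.mk₀_comp_mk₀, ← Ext.comp_assoc_of_second_deg_zero]
      change (hS.extClass.comp (Ext.mk₀ (ShortComplex.mk (ModuleCat.ofHom K.subtype)
        (ModuleCat.ofHom π) _).f) (add_zero 1)).comp _ _ = 0
      rw [ShortComplex.ShortExact.extClass_comp, Ext.zero_comp]

/-- Vanishing descends from a faithfully flat algebra. -/
theorem subsingleton_of_faithfullyFlat (I : Ideal R) (i : ℕ) (h : Subsingleton (LocCoh.H I i B)) :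
    Subsingleton (LocCoh.H I i R) := by
  refine subsingleton_of_forall_eq 0 fun x => ?_
  obtain ⟨n, y, rfl⟩ := exists_ι I i _ x
  obtain ⟨k, hk, h1⟩ := (ι_eq_zero_iff I i _
    (y.comp (Ext.mk₀ (ModuleCat.ofHom (Algebra.linearMap R B))) (add_zero i))).1 (h.elim _ _)
  rw [← Ext.comp_assoc_of_third_deg_zero] at h1
  rw [← ι_proj I i _ hk, eq_zero_of_comp_algebraMap B i (R ⧸ I ^ k) _ h1, map_zero]

end FaithfullyFlat

end Groth.Agent.LocCohLib
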