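import Groth.Agent.Lib.LocCoh.Change
import Groth.Agent.Lib.LocCoh.Finite
import Mathlib.LinearAlgebra.TensorProduct.RightExactness
import Mathlib.LinearAlgebra.Finsupp.LSum

/-!
# Top local cohomology is a tensor product
-/

universe u

open CategoryTheory TensorProduct

noncomputable section

namespace Groth.Agent.LocCohLib

variable {R : Type u} [CommRing R]

theorem hmap_add (I : Ideal R) {A B : Type u} [AddCommGroup A] [Module R A] [AddCommGroup B]
    [Module R B] (i : ℕ) (f g : A →ₗ[R] B) : hmap I i (f + g) = hmap I i f + hmap I i g := by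
  ext x
  obtain ⟨n, y, rfl⟩ := exists_ι I i _ x
  change ((localCohomology I i).map (ModuleCat.ofHom f + ModuleCat.ofHom g)).hom (ι I i _ n y) =
    ((localCohomology I i).map (ModuleCat.ofHom f)).hom (ι I i _ n y) +
      ((localCohomology I i).map (ModuleCat.ofHom g)).hom (ι I i _ n y)
  rw [map_ι, map_ι, map_ι, ← map_add, Abelian.Ext.mk₀_add, Abelian.Ext.comp_add]

variable (I : Ideal R) (i : ℕ)

/-- `m ↦` the map induced by `1 ↦ m`. -/
def spanMap (M : Type u) [AddCommGroup M] [Module R M] :
    M →ₗ[R] LocCoh.H I i R →ₗ[R] LocCoh.H I i M where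
  toFun m := hmap I i (LinearMap.toSpanSingleton R M m)
  map_add' a b := by
    rw [← hmap_add]; congr 1; ext; simp
  map_smul' r a := by
    rw [RingHom.id_apply, ← hmap_smul]; congr 1; ext; simp

/-- The natural map `M ⊗ H^i(R) → H^i(M)`. -/
def tensorTo (M : Type u) [AddCommGroup M] [Module R M] :
    M ⊗[R] LocCoh.H I i R →ₗ[R] LocCoh.H I i M :=
  TensorProduct.lift (spanMap I i M)

theorem tensorTo_tmul {M : Type u} [AddCommGroup M] [Module R M] (m : M) (h : LocCoh.H I i R) :
    tensorTo I i M (m ⊗ₜ h) = hmap I i (LinearMap.toSpanSingleton R M m) h := by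
  simp [tensorTo, spanMap]

theorem tensorTo_natural {M N : Type u} [AddCommGroup M] [Module R M] [AddCommGroup N] [Module R N]
    (f : M →ₗ[R] N) (z : M ⊗[R] LocCoh.H I i R) :
    tensorTo I i N (f.rTensor _ z) = hmap I i f (tensorTo I i M z) := by
  induction z with
  | zero => simp
  | tmul m h =>
    rw [LinearMap.rTensor_tmul, tensorTo_tmul, tensorTo_tmul, ← LinearMap.comp_apply, ← hmap_comp]
    congr 2
    ext
    simp
  | add a b ha hb => simp only [map_add, ha, hb]

theorem tensorTo_pi_bijective (k : ℕ) : Function.Bijective (tensorTo I i (Fin k → R)) := by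
  let P : Fin k → (Fin k → R) →ₗ[R] R := fun j => LinearMap.proj j
  let S : Fin k → R →ₗ[R] (Fin k → R) := fun j => LinearMap.toSpanSingleton R _ (Pi.single j 1)
  have hid : ∑ j, S j ∘ₗ P j = LinearMap.id := by
    refine LinearMap.ext fun v => funext fun l => ?_
    simp [S, P, Finset.sum_apply, Pi.single_apply]
  let ψ : LocCoh.H I i (Fin k → R) →ₗ[R] (Fin k → R) ⊗[R] LocCoh.H I i R :=
    ∑ j, (TensorProduct.mk R (Fin k → R) (LocCoh.H I i R) (Pi.single j 1)) ∘ₗ hmap I i (P j)
  have hright : ∀ x, tensorTo I i _ (ψ x) = x := fun x => by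
    simp only [ψ, LinearMap.coe_sum, Finset.sum_apply, LinearMap.comp_apply, map_sum,
      TensorProduct.mk_apply, tensorTo_tmul]
    have hsum : ∀ t : Finset (Fin k), hmap I i (∑ j ∈ t, S j ∘ₗ P j) x =
        ∑ j ∈ t, hmap I i (S j) (hmap I i (P j) x) := by
      classical
      intro t
      induction t using Finset.induction_on with
      | empty =>
        simp only [Finset.sum_empty]
        rw [← zero_smul R (0 : (Fin k → R) →ₗ[R] (Fin k → R)), hmap_smul, zero_smul]
        rfl
      | insert a t ha ih =>
        rw [Finset.sum_insert ha, Finset.sum_insert ha, hmap_add, LinearMap.add_apply, ih, hmap_comp,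
          LinearMap.comp_apply]
    exact (hsum _).symm.trans (by rw [hid, hmap_id]; rfl)
  have hleft : ∀ z, ψ (tensorTo I i _ z) = z := fun z => by
    induction z with
    | zero => simp
    | tmul m h =>
      rw [tensorTo_tmul]
      simp only [ψ, LinearMap.coe_sum, Finset.sum_apply, LinearMap.comp_apply, TensorProduct.mk_apply]
      have hj : ∀ j, hmap I i (P j) (hmap I i (LinearMap.toSpanSingleton R _ m) h) = m j • h := fun j => by
        rw [← LinearMap.comp_apply, ← hmap_comp,
          show P j ∘ₗ LinearMap.toSpanSingleton R _ m = m j • LinearMap.id by ext; simp [P],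
          hmap_smul, hmap_id]
        rfl
      simp only [hj, TensorProduct.tmul_smul, TensorProduct.smul_tmul']
      rw [← TensorProduct.sum_tmul]
      congr 1
      exact (funext fun l => by simp [Finset.sum_apply, Pi.single_apply])
    | add a b ha hb => simp only [map_add, ha, hb]
  exact ⟨Function.LeftInverse.injective hleft, Function.RightInverse.surjective hright⟩

variable [IsNoetherianRing R] {I i}

theorem tensorTo_surjective (hcd : LocCoh.CdLE R I i) (M : Type u) [AddCommGroup M] [Module R M] :
    Function.Surjective (tensorTo I i M) := by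
  intro x
  obtain ⟨n, y, rfl⟩ := exists_ι I i _ x
  obtain ⟨S, hS, y', rfl⟩ := exists_finite_lift M i (R ⧸ I ^ n) y
  obtain ⟨k, K, π, _, hex, hπ⟩ := exists_free_presentation (R := R) S
  obtain ⟨w, hw⟩ := hmap_g_surjective I K.injective_subtype hπ hex i (hcd _ (i + 1) i.lt_succ_self)
    (ι I i _ n y')
  obtain ⟨z, rfl⟩ := (tensorTo_pi_bijective I i k).2 w
  refine ⟨(S.subtype ∘ₗ π).rTensor _ z, ?_⟩
  rw [tensorTo_natural, hmap_comp, LinearMap.comp_apply, hw]
  exact map_ι I i (ModuleCat.ofHom S.subtype) n y'

omit [IsNoetherianRing R] in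
theorem tensorTo_finsupp_injective (α : Type u) :
    Function.Injective (tensorTo I i (α →₀ R)) := by
  classical
  rw [injective_iff_map_eq_zero]
  intro z hz
  -- find a finite coordinate block through which `z` factors
  have key : ∀ z : (α →₀ R) ⊗[R] LocCoh.H I i R, ∃ s : Finset α,
      ∀ t : Finset α, s ⊆ t →
        (Finsupp.restrictDom R R (t : Set α)).rTensor _ z = 0 → z = 0 := by
    intro z
    obtain ⟨S, hS⟩ : ∃ s : Finset α, ∀ t : Finset α, s ⊆ t →
        ((Finsupp.supported R R (t : Set α)).subtype ∘ₗ
          Finsupp.restrictDom R R (t : Set α)).rTensor _ z = z := by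
      induction z with
      | zero => exact ⟨∅, fun t _ => map_zero _⟩
      | tmul m h =>
        refine ⟨m.support, fun t ht => ?_⟩
        rw [LinearMap.rTensor_tmul]
        congr 1
        ext a
        by_cases ha : a ∈ t
        · simp [ha]
        · have : m a = 0 := Finsupp.notMem_support_iff.1 fun h => ha (ht h)
          simp [ha, this]
      | add a b ha hb =>
        obtain ⟨s, hs⟩ := ha
        obtain ⟨s', hs'⟩ := hb
        exact ⟨s ∪ s', fun t ht => by
          rw [map_add, hs t (Finset.union_subset_left ht), hs' t (Finset.union_subset_right ht)]⟩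
    refine ⟨S, fun t ht h0 => ?_⟩
    rw [← hS t ht, LinearMap.rTensor_comp, LinearMap.comp_apply, h0, map_zero]
  obtain ⟨s, hs⟩ := key z
  refine hs s (subset_refl s) ?_
  let e : Finsupp.supported R R (s : Set α) ≃ₗ[R] (Fin s.card → R) :=
    Finsupp.supportedEquivFinsupp (s : Set α) ≪≫ₗ Finsupp.linearEquivFunOnFinite R R _ ≪≫ₗ
      LinearEquiv.funCongrLeft R R s.equivFin.symm
  have h1 : (e.toLinearMap ∘ₗ Finsupp.restrictDom R R (s : Set α)).rTensor _ z = 0 :=
    (tensorTo_pi_bijective I i s.card).1 (by rw [tensorTo_natural, hz, map_zero, map_zero])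
  rw [LinearMap.rTensor_comp, LinearMap.comp_apply] at h1
  exact (TensorProduct.congr e (LinearEquiv.refl R _)).injective (h1.trans (map_zero _).symm)

omit [IsNoetherianRing R] in
theorem tensorTo_injective_of {A B C : Type u} [AddCommGroup A] [Module R A] [AddCommGroup B] [Module R B]
    [AddCommGroup C] [Module R C] {f : A →ₗ[R] B} {g : B →ₗ[R] C} (hf : Function.Injective f)
    (hg : Function.Surjective g) (hfg : Function.Exact f g)
    (hA : Function.Surjective (tensorTo I i A)) (hB : Function.Injective (tensorTo I i B)) :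
    Function.Injective (tensorTo I i C) := by
  rw [injective_iff_map_eq_zero]
  intro z hz
  obtain ⟨z', rfl⟩ := LinearMap.rTensor_surjective _ hg z
  rw [tensorTo_natural] at hz
  obtain ⟨w, hw⟩ := (exact_map_map I i (shortExact_mk f g hf hg hfg) _).1 hz
  obtain ⟨v, rfl⟩ := hA w
  have hv : f.rTensor _ v = z' := hB ((tensorTo_natural I i f v).trans hw)
  rw [← hv, ← LinearMap.comp_apply, ← LinearMap.rTensor_comp, hfg.linearMap_comp_eq_zero,
    LinearMap.rTensor_zero, LinearMap.zero_apply]

/-- Local cohomology in the top degree is the tensor product with that of the ring. -/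
theorem tensorTo_bijective (hcd : LocCoh.CdLE R I i) (M : Type u) [AddCommGroup M] [Module R M] :
    Function.Bijective (tensorTo I i M) := by
  refine ⟨?_, tensorTo_surjective hcd M⟩
  let π : (M →₀ R) →ₗ[R] M := Finsupp.linearCombination R (id : M → M)
  have hπ : Function.Surjective π := Finsupp.linearCombination_id_surjective R M
  let f : ↥(LinearMap.ker π) →ₗ[R] (M →₀ R) := (LinearMap.ker π).subtype
  refine tensorTo_injective_of (A := ↥(LinearMap.ker π)) (B := M →₀ R) (C := M) (f := f) (g := π) ?_ hπ ?_ ?_ ?_
  · exact Submodule.injective_subtype _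
  · exact LinearMap.exact_subtype_ker_map π
  · exact tensorTo_surjective hcd _
  · exact tensorTo_finsupp_injective M

/-- The natural equivalence `M ⊗ H^d(R) ≅ H^d(M)`. -/
def tensorEquiv (hcd : LocCoh.CdLE R I i) (M : Type u) [AddCommGroup M] [Module R M] :
    M ⊗[R] LocCoh.H I i R ≃ₗ[R] LocCoh.H I i M :=
  LinearEquiv.ofBijective (tensorTo I i M) (tensorTo_bijective hcd M)

end Groth.Agent.LocCohLib
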