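import Groth.Agent.Lib.LocCoh.TildePunct27
import Groth.Agent.Lib.LocCoh.TopTensor
import Groth.Agent.S0378

/-!
# Affine punctured opens have cohomological dimension at most one
-/

set_option autoImplicit false

universe u

open CategoryTheory AlgebraicGeometry TopologicalSpace Opposite

namespace Groth.Agent.LocCohSheafLib

open Groth.Agent.M1 Groth.Agent.LocCohLib

/-- Multiplication by a function on sections of `tilde N`. -/
noncomputable def mulSec {A : CommRingCat.{u}} (N : ModuleCat.{u} A) {U : (Spec A).Opens} (b : Γ(Spec A, U)) :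
    Γ(tilde N, U) →ₗ[A] Γ(tilde N, U) where
  toFun z := b • z
  map_add' := smul_add b
  map_smul' r z := by
    rw [RingHom.id_apply, Scheme.Modules.smul_Spec_def, Scheme.Modules.smul_Spec_def, smul_comm]

theorem sum_smul_mulSec {A : CommRingCat.{u}} (N : ModuleCat.{u} A) {U : (Spec A).Opens} {κ : Type*} [Fintype κ]
    (f : κ → A) (b : κ → Γ(Spec A, U))
    (h : ∑ k, (Spec A).presheaf.map (U.leTop).op ((Scheme.ΓSpecIso A).inv (f k)) * b k = 1) :
    ∑ k, f k • mulSec N (b k) = LinearMap.id := LinearMap.ext fun z => by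
  rw [LinearMap.sum_apply, LinearMap.id_apply]
  show ∑ k, f k • (b k • z) = z
  simp only [Scheme.Modules.smul_Spec_def, smul_smul, ← Finset.sum_smul]
  rw [h, one_smul]

variable {R : Type u} [CommRing R] [IsNoetherianRing R]

omit [IsNoetherianRing R] in
theorem subsingleton_H_of_sum_eq_id {I : Ideal R} {B : Type u} [AddCommGroup B] [Module R B] {κ : Type*}
    (s : Finset κ) (f : κ → R) (hf : ∀ k ∈ s, f k ∈ I) (φ : κ → B →ₗ[R] B)
    (hsum : ∑ k ∈ s, f k • φ k = LinearMap.id) (i : ℕ) : Subsingleton (LocCoh.H I i B) := by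
  classical
  have hid : ∀ x : LocCoh.H I i B, x = ∑ k ∈ s, f k • hmap I i (φ k) x := fun x => by
    have h1 : ∀ t : Finset κ, hmap I i (∑ k ∈ t, f k • φ k) x = ∑ k ∈ t, f k • hmap I i (φ k) x := fun t => by
      induction t using Finset.induction_on with
      | empty =>
        rw [Finset.sum_empty, Finset.sum_empty, ← zero_smul R (LinearMap.id : B →ₗ[R] B), hmap_smul, zero_smul]
        rfl
      | insert a t ha ih =>
        rw [Finset.sum_insert ha, Finset.sum_insert ha, hmap_add, LinearMap.add_apply, ih, hmap_smul,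
          LinearMap.smul_apply]
    rw [← h1 s, hsum, hmap_id]; rfl
  have key : ∀ n (x : LocCoh.H I i B), (∀ r ∈ I ^ n, r • x = 0) → x = 0 := fun n => by
    induction n with
    | zero => intro x hx; simpa using hx 1 (by simp)
    | succ n ih =>
      intro x hx
      refine ih x fun r hr => ?_
      rw [hid x, Finset.smul_sum]
      refine Finset.sum_eq_zero fun k hk => ?_
      rw [← mul_smul, ← map_smul, hx _ (by rw [pow_succ]; exact Ideal.mul_mem_mul hr (hf k hk)), map_zero]
  refine subsingleton_of_forall_eq 0 fun x => ?_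
  obtain ⟨n, hn⟩ := isPowerTorsion I i B x
  exact key n x hn

theorem cdLE_one_of_isAffineOpen (I : Ideal R) (hU : IsAffineOpen (LocCoh.puncturedOpen R I)) :
    LocCoh.CdLE R I 1 := by
  let U : (Spec (CommRingCat.of R)).Opens := LocCoh.puncturedOpen R I
  let B := Sec R U
  let ρ : R →ₗ[R] B := toS R U
  have hρ : ρ = (rho R (le_top : U ≤ ⊤)).comp (toS R ⊤) := LinearMap.ext fun u => (rho_toS R le_top u).symm
  have hbij : Function.Bijective (toS (R := R) R (⊤ : (Spec (CommRingCat.of R)).Opens)) :=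
    (ConcreteCategory.isIso_iff_bijective (tilde.toOpen (R := CommRingCat.of R) (ModuleCat.of R R) ⊤)).1
      (@AlgebraicGeometry.tilde.isIso_toOpen_top (CommRingCat.of R) _)
  -- the ideal generates the unit ideal on the punctured open
  let res : R →+* Γ((Spec (CommRingCat.of R)), U) := ((Spec (CommRingCat.of R)).presheaf.map (U.leTop).op).hom.comp (Scheme.ΓSpecIso (CommRingCat.of R)).inv.hom
  have htop : Ideal.map res I = ⊤ := by
    refine hU.self_le_iSup_basicOpen_iff.1 fun x hx => ?_
    obtain ⟨g, hg, hxg⟩ := Set.not_subset.1 hx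
    refine Opens.mem_iSup.2 ⟨⟨res g, ⟨g, hg, rfl⟩⟩, ?_⟩
    show x ∈ (Spec (CommRingCat.of R)).basicOpen ((Spec (CommRingCat.of R)).presheaf.map (U.leTop).op ((Scheme.ΓSpecIso (CommRingCat.of R)).inv g))
    rw [Scheme.basicOpen_res]
    refine ⟨hx, ?_⟩
    rw [basicOpen_eq_of_affine]
    exact hxg
  obtain ⟨t, b, hb⟩ := (Submodule.mem_span_set'.1 ((Ideal.eq_top_iff_one _).1 htop) :
    ∃ (n : ℕ) (b : Fin n → Γ((Spec (CommRingCat.of R)), U)) (g : Fin n → res '' I), ∑ k, b k • (g k : Γ((Spec (CommRingCat.of R)), U)) = 1)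
  obtain ⟨g, hb⟩ := hb
  choose f hf hfg using fun k => (g k).2
  let φ : Fin t → B →ₗ[R] B := fun k => mulSec (A := CommRingCat.of R) (ModuleCat.of R R) (b k)
  have hsum : ∑ k, f k • φ k = LinearMap.id := by
    refine sum_smul_mulSec (A := CommRingCat.of R) (ModuleCat.of R R) f b ?_
    rw [← hb]
    exact Finset.sum_congr rfl fun k _ => by rw [← hfg k, mul_comm]; rfl
  have hB : ∀ i, Subsingleton (LocCoh.H I i B) :=
    subsingleton_H_of_sum_eq_id Finset.univ f (fun k _ => hf k) φ hsum
  have hK : LocCoh.IsPowerTorsion I (LinearMap.ker ρ) := fun z => by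
    have h1 : rho R (le_top : U ≤ ⊤) ((toS (R := R) R (⊤ : (Spec (CommRingCat.of R)).Opens)) z.1) = 0 := (rho_toS R le_top z.1).trans z.2
    rw [← LinearMap.mem_ker, ker_rho, mem_iSup_torsionBy] at h1
    obtain ⟨n, hn⟩ := h1
    exact ⟨n, fun r hr => Subtype.ext (hbij.1 (by rw [Submodule.coe_smul, map_smul, hn r hr]; simp))⟩
  have hC : LocCoh.IsPowerTorsion I (B ⧸ LinearMap.range ρ) := by
    rw [show LinearMap.range ρ = LinearMap.range (rho R (le_top : U ≤ ⊤)) by
      rw [hρ, LinearMap.range_comp, LinearMap.range_eq_top.2 hbij.2, Submodule.map_top]]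
    exact isPowerTorsion_coker R le_top
  refine (Groth.Agent.S0378.result R I 1).1 fun i hi => ?_
  obtain ⟨j, rfl⟩ : ∃ j, i = j + 1 + 1 := ⟨i - 2, by omega⟩
  have hIm : Subsingleton (LocCoh.H I (j + 1 + 1) (LinearMap.range ρ)) :=
    subsingleton_left I (f := (LinearMap.range ρ).subtype) (g := (LinearMap.range ρ).mkQ) (Submodule.injective_subtype _)
      (Submodule.mkQ_surjective _) (LinearMap.exact_subtype_mkQ _) (j + 1)
      (subsingleton_of_isPowerTorsion I j _ hC) (hB _)
  exact subsingleton_mid I (f := (LinearMap.ker ρ).subtype) (g := ρ.rangeRestrict) (Submodule.injective_subtype _)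
    ρ.surjective_rangeRestrict (LinearMap.exact_iff.2 (by rw [LinearMap.ker_rangeRestrict, Submodule.range_subtype]))
    (j + 1 + 1) (subsingleton_of_isPowerTorsion I (j + 1) _ hK) hIm

end Groth.Agent.LocCohSheafLib
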