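import Groth.Agent.Lib.LocCoh.Finite
import Groth.Agent.Lib.InjHull.Matlis
import Groth.Agent.Lib.Depth.CM

/-!
# Grothendieck vanishing and the Artinian property
-/

universe u

open CategoryTheory Groth.Agent.InjHullLib IsLocalRing

noncomputable section

namespace Groth.Agent.LocCohLib

variable {R : Type u} [CommRing R]

theorem coheight_le_supportDim {M : Type u} [AddCommGroup M] [Module R M] {p : PrimeSpectrum R}
    (hp : p ∈ Module.support R M) : (Order.coheight p : WithBot ℕ∞) ≤ Module.supportDim R M := by
  rw [Order.coheight_eq_krullDim_Ici]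
  exact Order.krullDim_le_of_strictMono (fun q => ⟨q.1, Module.mem_support_mono q.2 hp⟩)
    fun _ _ hab => hab

theorem smul_regular_quotient_prime {p : PrimeSpectrum R} {x : R} (hxp : x ∉ p.asIdeal) :
    IsSMulRegular (R ⧸ p.asIdeal) x := by
  refine IsSMulRegular.of_right_eq_zero_of_smul fun a => ?_
  obtain ⟨a, rfl⟩ := Ideal.Quotient.mk_surjective a
  intro ha
  rw [Algebra.smul_def, Ideal.Quotient.algebraMap_eq, ← map_mul, Ideal.Quotient.eq_zero_iff_mem] at ha
  exact Ideal.Quotient.eq_zero_iff_mem.2 ((p.isPrime.mem_or_mem ha).resolve_left hxp)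

/-- The cokernel of a regular element. -/
theorem exact_smul_mkQ {N : Type u} [AddCommGroup N] [Module R N] (x : R) :
    Function.Exact (x • LinearMap.id : N →ₗ[R] N) (LinearMap.range (x • LinearMap.id : N →ₗ[R] N)).mkQ :=
  LinearMap.exact_map_mkQ_range _

theorem support_coker_smul {p : PrimeSpectrum R} {x : R} {q : PrimeSpectrum R}
    (hq : q ∈ Module.support R
      ((R ⧸ p.asIdeal) ⧸ LinearMap.range (x • LinearMap.id : (R ⧸ p.asIdeal) →ₗ[R] R ⧸ p.asIdeal))) :
    p ≤ q ∧ x ∈ q.asIdeal := by
  refine ⟨?_, ?_⟩
  · have := Module.support_subset_of_surjective _ (Submodule.mkQ_surjective _) hq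
    rwa [Module.support_eq_zeroLocus, Ideal.annihilator_quotient] at this
  · obtain ⟨z, hz⟩ := Module.mem_support_iff_exists_annihilator.1 hq
    refine hz ?_
    rw [Submodule.mem_annihilator_span_singleton]
    obtain ⟨y, rfl⟩ := Submodule.Quotient.mk_surjective _ z
    rw [← Submodule.Quotient.mk_smul, Submodule.Quotient.mk_eq_zero]
    exact ⟨y, rfl⟩

variable [IsNoetherianRing R]

theorem subsingleton_quotient_prime_of_coheight_lt (I : Ideal R) (p : PrimeSpectrum R) :
    ∀ i : ℕ, Order.coheight p < (i : ℕ∞) → Subsingleton (LocCoh.H I i (R ⧸ p.asIdeal)) := by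
  induction p using (InvImage.wf PrimeSpectrum.asIdeal
    (wellFounded_gt (α := Ideal R))).induction with
  | _ p ihp =>
    intro i hi
    obtain ⟨j, rfl⟩ : ∃ j, i = j + 1 := ⟨i - 1, by
      have : i ≠ 0 := fun h => by simp [h] at hi
      omega⟩
    by_cases hIp : I ≤ p.asIdeal
    · refine subsingleton_of_isPowerTorsion I j _ fun z => ⟨1, fun a ha => ?_⟩
      obtain ⟨b, rfl⟩ := Ideal.Quotient.mk_surjective z
      rw [pow_one] at ha
      exact Ideal.Quotient.eq_zero_iff_mem.2 (p.asIdeal.mul_mem_right _ (hIp ha))
    · obtain ⟨x, hx, hxp⟩ := SetLike.not_le_iff_exists.1 hIp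
      let mx : (R ⧸ p.asIdeal) →ₗ[R] R ⧸ p.asIdeal := x • LinearMap.id
      have hinj : Function.Injective mx := smul_regular_quotient_prime hxp
      have hQ : Subsingleton (LocCoh.H I j ((R ⧸ p.asIdeal) ⧸ LinearMap.range mx)) := by
        have hfin : Module.Finite R ((R ⧸ p.asIdeal) ⧸ LinearMap.range mx) := inferInstance
        refine IsNoetherianRing.induction_on_isQuotientEquivQuotientPrime R hfin
          (motive := fun L _ _ _ => (∀ q ∈ Module.support R L, p ≤ q ∧ x ∈ q.asIdeal) →
            Subsingleton (LocCoh.H I j L)) ?_ ?_ ?_ (fun q hq => support_coker_smul hq)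
        · intro L _ _ _ _ _
          refine subsingleton_of_forall_finite I L j fun S _ => ?_
          have : S = ⊥ := Subsingleton.elim _ _
          refine subsingleton_of_forall_eq 0 fun a => ?_
          have hid : (LinearMap.id : S →ₗ[R] S) = (0 : R) • LinearMap.id :=
            LinearMap.ext fun s => Subsingleton.elim _ _
          rw [show a = hmap I j (LinearMap.id : S →ₗ[R] S) a by rw [hmap_id]; rfl, hid, hmap_smul]
          exact zero_smul R _
        · intro L _ _ _ q e hL
          have hq : q ∈ Module.support R L := by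
            rw [e.support_eq, Module.support_eq_zeroLocus, Ideal.annihilator_quotient]
            exact le_refl q.asIdeal
          obtain ⟨hpq, hxq⟩ := hL q hq
          have hlt : p < q := lt_of_le_of_ne hpq fun h => hxp (h ▸ hxq)
          refine (hcongr I j e).toEquiv.subsingleton_congr.2 (ihp q hlt j ?_)
          have h1 := Order.coheight_add_one_le hlt
          have h2 : Order.coheight q + 1 < ((j + 1 : ℕ) : ℕ∞) := h1.trans_lt hi
          rw [Nat.cast_succ] at h2
          exact lt_of_add_lt_add_right h2
        · intro N₁ _ _ _ N₂ _ _ _ N₃ _ _ _ f g hf hg hfg h₁ h₃ h₂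
          exact subsingleton_mid I hf hg hfg j
            (h₁ fun q hq => h₂ q (Module.support_subset_of_injective f hf hq))
            (h₃ fun q hq => h₂ q (Module.support_subset_of_surjective g hg hq))
      have hmono := hmap_f_injective I hinj (Submodule.mkQ_surjective _) (exact_smul_mkQ x) j hQ
      refine subsingleton_of_forall_eq 0 fun a => ?_
      obtain ⟨n, hn⟩ := isPowerTorsion I (j + 1) _ a
      have hk : ∀ (k : ℕ) (b : LocCoh.H I (j + 1) (R ⧸ p.asIdeal)), x ^ k • b = 0 → b = 0 := fun k => by
        induction k with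
        | zero => intro b hb; rwa [pow_zero, one_smul] at hb
        | succ k ih =>
          intro b hb
          rw [pow_succ, mul_smul] at hb
          refine hmono ?_
          rw [map_zero]
          change hmap I (j + 1) (x • LinearMap.id) b = 0
          rw [hmap_smul, hmap_id]
          exact ih _ hb
      exact hk n a (hn _ (Ideal.pow_mem_pow hx n))

/-- Grothendieck vanishing. -/
theorem subsingleton_of_supportDim_lt (I : Ideal R) (M : Type u) [AddCommGroup M] [Module R M] (i : ℕ)
    (hi : Module.supportDim R M < (i : WithBot ℕ∞)) : Subsingleton (LocCoh.H I i M) := by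
  refine subsingleton_of_forall_finite I M i fun S hS => ?_
  refine IsNoetherianRing.induction_on_isQuotientEquivQuotientPrime R hS
    (motive := fun L _ _ _ => Module.supportDim R L < (i : WithBot ℕ∞) → Subsingleton (LocCoh.H I i L))
    ?_ ?_ ?_ ((Module.supportDim_le_of_injective _ S.injective_subtype).trans_lt hi)
  · intro L _ _ _ _ _
    refine subsingleton_of_forall_eq 0 fun a => ?_
    have hid : (LinearMap.id : L →ₗ[R] L) = (0 : R) • LinearMap.id :=
      LinearMap.ext fun s => Subsingleton.elim _ _
    rw [show a = hmap I i (LinearMap.id : L →ₗ[R] L) a by rw [hmap_id]; rfl, hid, hmap_smul]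
    exact zero_smul R _
  · intro L _ _ _ q e hL
    have hq : q ∈ Module.support R L := by
      rw [e.support_eq, Module.support_eq_zeroLocus, Ideal.annihilator_quotient]
      exact le_refl q.asIdeal
    refine (hcongr I i e).toEquiv.subsingleton_congr.2
      (subsingleton_quotient_prime_of_coheight_lt I q i ?_)
    exact WithBot.coe_lt_coe.1 ((coheight_le_supportDim hq).trans_lt hL)
  · intro N₁ _ _ _ N₂ _ _ _ N₃ _ _ _ f g hf hg hfg h₁ h₃ h₂
    exact subsingleton_mid I hf hg hfg i (h₁ ((Module.supportDim_le_of_injective f hf).trans_lt h₂))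
      (h₃ ((Module.supportDim_le_of_surjective g hg).trans_lt h₂))

theorem cdLE_of_ringKrullDim_le (I : Ideal R) {d : ℕ} (hd : ringKrullDim R ≤ d) :
    LocCoh.CdLE R I d := fun M _ _ i hi =>
  subsingleton_of_supportDim_lt I M i (((Module.supportDim_le_ringKrullDim R M).trans hd).trans_lt
    (by exact_mod_cast hi))

section Artinian

variable [IsLocalRing R]

theorem isArtinian_of_finite_of_killed (T : Type u) [AddCommGroup T] [Module R T] [Module.Finite R T]
    (h : ∀ a ∈ maximalIdeal R, ∀ t : T, a • t = 0) : IsArtinian R T := by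
  obtain ⟨k, v, hv⟩ := Module.Finite.exists_fin (R := R) (M := T)
  let ψ : (Fin k → R ⧸ maximalIdeal R) →ₗ[R] T :=
    ∑ j : Fin k, (maximalIdeal R).liftQ (LinearMap.toSpanSingleton R T (v j))
      (fun a ha => by simpa using h a ha (v j)) ∘ₗ LinearMap.proj j
  have := isArtinian_quotient_maximal (R := R) (m := maximalIdeal R)
  refine isArtinian_of_surjective _ ψ (LinearMap.range_eq_top.1 ?_)
  rw [eq_top_iff, ← hv, Submodule.span_le]
  rintro _ ⟨j, rfl⟩
  refine ⟨Pi.single j (Submodule.Quotient.mk 1), ?_⟩
  simp only [ψ, LinearMap.sum_apply, LinearMap.comp_apply, LinearMap.proj_apply]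
  rw [Finset.sum_eq_single j (fun l _ hl => by rw [Pi.single_eq_of_ne hl, map_zero])
    (fun h => absurd (Finset.mem_univ j) h), Pi.single_eq_same, Submodule.liftQ_apply,
    LinearMap.toSpanSingleton_apply, one_smul]

/-- Local cohomology of finite modules at the maximal ideal is Artinian. -/
theorem isArtinian_H (i : ℕ) : ∀ (M : Type u) [AddCommGroup M] [Module R M] [Module.Finite R M],
    IsArtinian R (LocCoh.H (maximalIdeal R) i M) := by
  induction i with
  | zero =>
    intro M _ _ _
    let T := powTors (maximalIdeal R) M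
    have hA : IsArtinian R (Submodule.torsionBySet R T (maximalIdeal R : Set R)) :=
      isArtinian_of_finite_of_killed _ fun a ha t => Subtype.ext (mem_torsion_iff.1 t.2 a ha)
    have : IsArtinian R T := isArtinian_of_fg_torsion (IsNoetherian.noetherian _) T
      (isPowerTorsion_powTors _) hA
    exact isArtinian_of_linearEquiv (zeroEquiv (maximalIdeal R) M).symm
  | succ i ih =>
    intro M _ _ hM
    refine IsNoetherianRing.induction_on_isQuotientEquivQuotientPrime R hM
      (motive := fun L _ _ _ => IsArtinian R (LocCoh.H (maximalIdeal R) (i + 1) L)) ?_ ?_ ?_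
    · intro L _ _ _ _
      have hsub : Subsingleton (LocCoh.H (maximalIdeal R) (i + 1) L) :=
        subsingleton_of_isPowerTorsion _ i L fun z => ⟨0, fun a _ => Subsingleton.elim _ _⟩
      infer_instance
    · intro L _ _ _ p e
      suffices IsArtinian R (LocCoh.H (maximalIdeal R) (i + 1) (R ⧸ p.asIdeal)) from
        isArtinian_of_linearEquiv (hcongr (maximalIdeal R) (i + 1) e).symm
      by_cases hmp : maximalIdeal R ≤ p.asIdeal
      · have : Subsingleton (LocCoh.H (maximalIdeal R) (i + 1) (R ⧸ p.asIdeal)) := by
          refine subsingleton_of_isPowerTorsion _ i _ fun z => ⟨1, fun a ha => ?_⟩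
          obtain ⟨b, rfl⟩ := Ideal.Quotient.mk_surjective z
          rw [pow_one] at ha
          exact Ideal.Quotient.eq_zero_iff_mem.2 (p.asIdeal.mul_mem_right _ (hmp ha))
        infer_instance
      · obtain ⟨x, hx, hxp⟩ := SetLike.not_le_iff_exists.1 hmp
        let mx : (R ⧸ p.asIdeal) →ₗ[R] R ⧸ p.asIdeal := x • LinearMap.id
        have hinj : Function.Injective mx := smul_regular_quotient_prime hxp
        have hS := shortExact_mk mx (LinearMap.range mx).mkQ hinj (Submodule.mkQ_surjective _)
          (exact_smul_mkQ x)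
        have := ih ((R ⧸ p.asIdeal) ⧸ LinearMap.range mx)
        let d : LocCoh.H (maximalIdeal R) i ((R ⧸ p.asIdeal) ⧸ LinearMap.range mx) →ₗ[R]
            LocCoh.H (maximalIdeal R) (i + 1) (R ⧸ p.asIdeal) := δ (maximalIdeal R) i hS
        have hd : IsArtinian R (LinearMap.range d) := isArtinian_range d
        refine isArtinian_of_fg_torsion (IsNoetherian.noetherian _) _
          (isPowerTorsion (maximalIdeal R) (i + 1) _) (isArtinian_of_le (s := _) (t := LinearMap.range d)
            fun a ha => ?_)
        refine (exact_δ_map (maximalIdeal R) i hS a).1 ?_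
        change hmap (maximalIdeal R) (i + 1) (x • LinearMap.id) a = 0
        rw [hmap_smul, hmap_id]
        exact mem_torsion_iff.1 ha x hx
    · intro N₁ _ _ _ N₂ _ _ _ N₃ _ _ _ f g hf hg hfg h₁ h₃
      exact isArtinian_of_range_eq_ker (hmap (maximalIdeal R) (i + 1) f)
        (hmap (maximalIdeal R) (i + 1) g)
        (LinearMap.exact_iff.1 (exact_map_map (maximalIdeal R) (i + 1) (shortExact_mk f g hf hg hfg))).symm

end Artinian

end Groth.Agent.LocCohLib
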