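import Mathlib.CategoryTheory.Abelian.Ext
import Mathlib.CategoryTheory.Abelian.Projective.Ext
import Mathlib.Algebra.Category.ModuleCat.Ext.HasExt
import Mathlib.Algebra.Homology.DerivedCategory.Ext.Linear
import Mathlib.Algebra.Homology.ShortComplex.ModuleCat
import Mathlib.Algebra.Homology.ConcreteCategory

/-!
# The derived-functor `Ext` agrees with `CategoryTheory.Abelian.Ext`, naturally in both arguments
-/

universe u

open CategoryTheory Opposite Limits

noncomputable section

namespace Groth.Agent.LocCohLib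

variable (R : Type u) [CommRing R]

/-- `Abelian.Ext` as a functor with values in modules. -/
def extMod (n : ℕ) : (ModuleCat.{u} R)ᵒᵖ ⥤ ModuleCat.{u} R ⥤ ModuleCat.{u} R where
  obj X :=
    { obj := fun Y => ModuleCat.of R (Abelian.Ext X.unop Y n)
      map := fun f => ModuleCat.ofHom ((Abelian.Ext.mk₀ f).postcompOfLinear R X.unop (add_zero n))
      map_id := fun Y => by ext α; exact Abelian.Ext.comp_mk₀_id α
      map_comp := fun f g => by
        ext α
        change α.comp (Abelian.Ext.mk₀ (f ≫ g)) (add_zero n) =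
          (α.comp (Abelian.Ext.mk₀ f) (add_zero n)).comp (Abelian.Ext.mk₀ g) (add_zero n)
        rw [← Abelian.Ext.mk₀_comp_mk₀]
        exact (Abelian.Ext.comp_assoc_of_third_deg_zero ..).symm }
  map {X X'} g :=
    { app := fun Y => ModuleCat.ofHom ((Abelian.Ext.mk₀ g.unop).precompOfLinear R Y (zero_add n))
      naturality := fun Y Y' f => by
        ext α
        exact (Abelian.Ext.comp_assoc_of_third_deg_zero _ α (Abelian.Ext.mk₀ f) (zero_add n)).symm }
  map_id X := by ext Y α; exact Abelian.Ext.mk₀_id_comp α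
  map_comp f g := by
    ext Y α
    exact (Abelian.Ext.mk₀_comp_mk₀_assoc g.unop f.unop α).symm

variable {R} {X X' : ModuleCat.{u} R} {n : ℕ}

/-- The functor `Hom(-, Y)`. -/
abbrev homTo (Y : ModuleCat.{u} R) : ModuleCat.{u} R ⥤ (ModuleCat.{u} R)ᵒᵖ :=
  ((linearYoneda R (ModuleCat.{u} R)).obj Y).rightOp

variable (P : ProjectiveResolution X) (P' : ProjectiveResolution X') (Y Y' : ModuleCat.{u} R)

/-- The complex computing `Ext(X, Y)`. -/
abbrev yonedaCx : CochainComplex (ModuleCat.{u} R) ℕ := P.complex.linearYonedaObj R Y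

variable {Y Y'}

/-- The map on complexes induced by a map in the second variable. -/
def yonedaCxMap (f : Y ⟶ Y') : yonedaCx P Y ⟶ yonedaCx P Y' :=
  (HomologicalComplex.unopFunctor _ _).map
    ((NatTrans.mapHomologicalComplex ((linearYoneda R (ModuleCat.{u} R)).map f).rightOp _).app
      P.complex).op

variable {P P'} in
/-- The map on complexes induced by a map of resolutions. -/
def yonedaCxPre (φ : P'.complex ⟶ P.complex) (Y : ModuleCat.{u} R) :
    yonedaCx P Y ⟶ yonedaCx P' Y :=
  (HomologicalComplex.unopFunctor _ _).map ((((homTo Y).mapHomologicalComplex _).map φ)).op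

theorem unop_square {V : Type*} [Category V] {A A' B B' : Vᵒᵖ} {H H' : V} (α : A ≅ B) (α' : A' ≅ B')
    (β : B ≅ op H) (β' : B' ≅ op H') (u : A' ⟶ A) (v : B' ⟶ B) (w : H ⟶ H')
    (h1 : u ≫ α.hom = α'.hom ≫ v) (h2 : v ≫ β.hom = β'.hom ≫ w.op) :
    u.unop ≫ (α'.unop.symm ≪≫ β'.unop.symm).hom = (α.unop.symm ≪≫ β.unop.symm).hom ≫ w := by
  apply Quiver.Hom.op_inj
  have hu : u = α'.hom ≫ v ≫ α.inv := by rw [← Category.assoc, ← h1, Category.assoc, α.hom_inv_id, Category.comp_id]
  have hv : v = β'.hom ≫ w.op ≫ β.inv := by rw [← Category.assoc, ← h2, Category.assoc, β.hom_inv_id, Category.comp_id]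
  simp [hu, hv]

theorem isoExt_natural (f : Y ⟶ Y') :
    ((Ext R (ModuleCat.{u} R) n).obj (op X)).map f ≫ (P.isoExt n Y').hom =
      (P.isoExt n Y).hom ≫ HomologicalComplex.homologyMap (yonedaCxMap P f) n :=
  unop_square (P.isoLeftDerivedObj (homTo Y) n) (P.isoLeftDerivedObj (homTo Y') n)
    ((yonedaCx P Y).homologyOp n) ((yonedaCx P Y').homologyOp n) _ _ _
    (by
      change ((NatTrans.leftDerived ((linearYoneda R (ModuleCat.{u} R)).map f).rightOp n).app X) ≫ _ = _
      rw [P.leftDerived_app_eq, Category.assoc, Category.assoc, Iso.inv_hom_id, Category.comp_id]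
      rfl)
    (HomologicalComplex.homologyOp_hom_naturality (yonedaCxMap P f) n)

theorem isoExt_natural' (g : X' ⟶ X) (φ : P'.complex ⟶ P.complex)
    (comm : φ.f 0 ≫ P.π.f 0 = P'.π.f 0 ≫ g) (Y : ModuleCat.{u} R) :
    ((Ext R (ModuleCat.{u} R) n).map g.op).app Y ≫ (P'.isoExt n Y).hom =
      (P.isoExt n Y).hom ≫ HomologicalComplex.homologyMap (yonedaCxPre φ Y) n :=
  unop_square (P.isoLeftDerivedObj (homTo Y) n) (P'.isoLeftDerivedObj (homTo Y) n)
    ((yonedaCx P Y).homologyOp n) ((yonedaCx P' Y).homologyOp n) _ _ _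
    (ProjectiveResolution.isoLeftDerivedObj_hom_naturality g P' P φ comm (homTo Y) n)
    (HomologicalComplex.homologyOp_hom_naturality (yonedaCxPre φ Y) n)

variable (Y Y')

/-- A cocycle, as a morphism. -/
def cycleHom (z : (yonedaCx P Y).cycles n) : P.complex.X n ⟶ Y :=
  ((yonedaCx P Y).iCycles n).hom z

theorem cycleHom_d (z : (yonedaCx P Y).cycles n) :
    P.complex.d (n + 1) n ≫ cycleHom P Y z = 0 := by
  have h := LinearMap.congr_fun (congrArg ModuleCat.Hom.hom ((yonedaCx P Y).iCycles_d n (n + 1))) z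
  simpa [cycleHom] using! h

/-- Cocycles map to `Abelian.Ext`. -/
def cyclesToExt : (yonedaCx P Y).cycles n ⟶ ModuleCat.of R (Abelian.Ext X Y n) :=
  ModuleCat.ofHom
    { toFun := fun z => P.extMk (cycleHom P Y z) (n + 1) rfl (cycleHom_d P Y z)
      map_add' := fun a b => by
        rw [P.add_extMk]
        congr 1
        exact map_add _ a b
      map_smul' := fun r a => by
        rw [RingHom.id_apply, Abelian.Ext.smul_eq_comp_mk₀, P.extMk_comp_mk₀]
        congr 1
        rw [Linear.comp_smul, Category.comp_id]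
        exact map_smul _ r a }

theorem cyclesToExt_toCycles (i : ℕ) :
    (yonedaCx P Y).toCycles i n ≫ cyclesToExt P Y = 0 := by
  by_cases hi : i + 1 = n
  · ext x
    refine (P.extMk_eq_zero_iff _ (n + 1) rfl (cycleHom_d P Y _) i hi).2 ⟨x, ?_⟩
    have h := LinearMap.congr_fun (congrArg ModuleCat.Hom.hom ((yonedaCx P Y).toCycles_i i n)) x
    exact Eq.trans rfl h.symm
  · rw [(yonedaCx P Y).toCycles_eq_zero hi, zero_comp]

/-- Cohomology classes map to `Abelian.Ext`. -/
def homologyToExt : (yonedaCx P Y).homology n ⟶ ModuleCat.of R (Abelian.Ext X Y n) :=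
  ((yonedaCx P Y).homologyIsCokernel ((ComplexShape.up ℕ).prev n) n rfl).desc
    (CokernelCofork.ofπ (cyclesToExt P Y) (cyclesToExt_toCycles P Y _))

@[reassoc]
theorem π_homologyToExt :
    (yonedaCx P Y).homologyπ n ≫ homologyToExt P Y = cyclesToExt P Y :=
  Cofork.IsColimit.π_desc ((yonedaCx P Y).homologyIsCokernel ((ComplexShape.up ℕ).prev n) n rfl)

theorem homologyπ_surjective (z : (yonedaCx P Y).homology n) :
    ∃ y, ((yonedaCx P Y).homologyπ n).hom y = z :=
  (ModuleCat.epi_iff_surjective _).1 inferInstance z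

theorem bijective_homologyToExt :
    Function.Bijective (homologyToExt P Y (n := n)).hom := by
  constructor
  · rw [injective_iff_map_eq_zero]
    intro z hz
    obtain ⟨y, rfl⟩ := homologyπ_surjective P Y z
    have h : P.extMk (cycleHom P Y y) (n + 1) rfl (cycleHom_d P Y y) = 0 :=
      (LinearMap.congr_fun (congrArg ModuleCat.Hom.hom (π_homologyToExt P Y)) y).symm.trans hz
    match n with
    | 0 =>
      have hy : cycleHom P Y y = 0 := by
        rw [← P.extEquivCohomologyClass.apply_eq_iff_eq, P.extEquivCohomologyClass_extMk,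
          P.extEquivCohomologyClass_zero, CochainComplex.HomComplex.CohomologyClass.mk_eq_zero_iff,
          CochainComplex.HomComplex.Cocycle.toSingleMk_mem_coboundaries_iff _ _ _ _ _ (1 : ℤ) (by simp)] at h
        obtain ⟨g, hg⟩ := h
        have h0 : P.cochainComplex.d 0 1 = 0 :=
          (P.cochainComplex.isZero_of_isStrictlyLE 0 1 (by simp)).eq_of_tgt _ _
        rw [← cancel_epi (P.cochainComplexXIso (-(0:ℕ)) 0 rfl).hom, comp_zero, ← hg]
        simp [h0]
      have : y = 0 := (ModuleCat.mono_iff_injective ((yonedaCx P Y).iCycles 0)).1 inferInstance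
        (hy.trans (map_zero _).symm)
      rw [this, map_zero]
    | k + 1 =>
      obtain ⟨g, hg⟩ := (P.extMk_eq_zero_iff _ _ _ _ k rfl).1 h
      have hy : y = ((yonedaCx P Y).toCycles k (k + 1)).hom g := by
        apply (ModuleCat.mono_iff_injective ((yonedaCx P Y).iCycles (k + 1))).1 inferInstance
        refine Eq.trans ?_ (LinearMap.congr_fun
          (congrArg ModuleCat.Hom.hom ((yonedaCx P Y).toCycles_i k (k + 1))) g).symm
        exact hg.symm.trans rfl
      rw [hy]
      exact LinearMap.congr_fun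
        (congrArg ModuleCat.Hom.hom ((yonedaCx P Y).toCycles_comp_homologyπ k (k + 1))) g
  · intro α
    obtain ⟨f, hf, rfl⟩ := P.extMk_surjective α (n + 1) rfl
    refine ⟨((yonedaCx P Y).homologyπ n).hom ((yonedaCx P Y).cyclesMk f (n + 1) (by simp) ?_), ?_⟩
    · exact hf
    · refine (LinearMap.congr_fun (congrArg ModuleCat.Hom.hom (π_homologyToExt P Y))
        ((yonedaCx P Y).cyclesMk f (n + 1) (by simp) hf)).trans ?_
      change P.extMk (cycleHom P Y ((yonedaCx P Y).cyclesMk f (n + 1) (by simp) hf)) (n + 1) rfl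
        (cycleHom_d P Y _) = _
      congr 1
      exact (yonedaCx P Y).i_cyclesMk f (n + 1) (by simp) hf

/-- Derived-functor `Ext` is `Abelian.Ext`, for a chosen resolution. -/
def extIso : ((Ext R (ModuleCat.{u} R) n).obj (op X)).obj Y ≅ ModuleCat.of R (Abelian.Ext X Y n) :=
  P.isoExt n Y ≪≫ (LinearEquiv.ofBijective (homologyToExt P Y).hom
    (bijective_homologyToExt P Y)).toModuleIso

theorem extIso_hom : (extIso P Y (n := n)).hom = (P.isoExt n Y).hom ≫ homologyToExt P Y := rfl

variable {Y Y'}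

theorem extIso_natural (f : Y ⟶ Y') :
    ((Ext R (ModuleCat.{u} R) n).obj (op X)).map f ≫ (extIso P Y').hom =
      (extIso P Y).hom ≫ (ModuleCat.ofHom ((Abelian.Ext.mk₀ f).postcompOfLinear R X (add_zero n)) :
        ModuleCat.of R (Abelian.Ext X Y n) ⟶ ModuleCat.of R (Abelian.Ext X Y' n)) := by
  rw [extIso_hom, extIso_hom, ← Category.assoc, isoExt_natural P f, Category.assoc, Category.assoc]
  congr 1
  rw [← cancel_epi ((yonedaCx P Y).homologyπ n), HomologicalComplex.homologyπ_naturality_assoc,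
    π_homologyToExt, π_homologyToExt_assoc]
  ext z
  refine Eq.trans ?_ (P.extMk_comp_mk₀ _ _ rfl (cycleHom_d P Y z) f).symm
  change P.extMk (cycleHom P Y' ((HomologicalComplex.cyclesMap (yonedaCxMap P f) n).hom z)) (n + 1) rfl
    (cycleHom_d P Y' _) = _
  congr 1
  exact LinearMap.congr_fun (congrArg ModuleCat.Hom.hom
    (HomologicalComplex.cyclesMap_i (yonedaCxMap P f) n)) z

theorem extIso_natural' (g : X' ⟶ X) (Y : ModuleCat.{u} R) :
    ((Ext R (ModuleCat.{u} R) n).map g.op).app Y ≫ (extIso P' Y).hom =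
      (extIso P Y).hom ≫ (ModuleCat.ofHom ((Abelian.Ext.mk₀ g).precompOfLinear R Y (zero_add n)) :
        ModuleCat.of R (Abelian.Ext X Y n) ⟶ ModuleCat.of R (Abelian.Ext X' Y n)) := by
  let φ : ProjectiveResolution.Hom P' P g :=
    { hom := ProjectiveResolution.lift g P' P
      hom_f_zero_comp_π_f_zero := by
        exact ProjectiveResolution.lift_commutes_zero g P' P }
  rw [extIso_hom, extIso_hom, ← Category.assoc,
    isoExt_natural' P P' g φ.hom φ.hom_f_zero_comp_π_f_zero Y, Category.assoc, Category.assoc]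
  congr 1
  rw [← cancel_epi ((yonedaCx P Y).homologyπ n), HomologicalComplex.homologyπ_naturality_assoc,
    π_homologyToExt, π_homologyToExt_assoc]
  ext z
  refine Eq.trans ?_ (ProjectiveResolution.mk₀_comp_extMk _ _ rfl (cycleHom_d P Y z) φ).symm
  change P'.extMk (cycleHom P' Y ((HomologicalComplex.cyclesMap (yonedaCxPre φ.hom Y) n).hom z)) (n + 1) rfl
    (cycleHom_d P' Y _) = _
  congr 1
  exact LinearMap.congr_fun (congrArg ModuleCat.Hom.hom
    (HomologicalComplex.cyclesMap_i (yonedaCxPre φ.hom Y) n)) z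

variable (R) in
theorem nonempty_extNatIso (n : ℕ) : Nonempty (Ext R (ModuleCat.{u} R) n ≅ extMod R n) :=
  ⟨NatIso.ofComponents
    (fun X => NatIso.ofComponents (fun Y => extIso (projectiveResolution X.unop) Y)
      (fun f => extIso_natural (projectiveResolution X.unop) f))
    (fun {X X'} g => by
      ext1
      ext1 Y
      exact extIso_natural' (projectiveResolution X.unop) (projectiveResolution X'.unop) g.unop Y)⟩

variable (R) in
/-- Derived-functor `Ext` is naturally isomorphic to `Abelian.Ext`. -/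
def extNatIso (n : ℕ) : Ext R (ModuleCat.{u} R) n ≅ extMod R n :=
  Classical.choice (nonempty_extNatIso R n)

end Groth.Agent.LocCohLib
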