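import Groth.Agent.Lib.LocCoh.Change
import Groth.Agent.Lib.LocCoh.Finite
import Groth.Prelude.Def_DualLC
import Mathlib.RingTheory.Localization.Away.Basic

/-!
# The exact sequence for adding one element to the support ideal
-/

set_option autoImplicit false

universe u

open CategoryTheory Groth.Agent.InjHullLib Opposite

noncomputable section

namespace Groth.Agent.LocCohLib

variable {R : Type u} [CommRing R] {I L : Ideal R}

/-- The comparison map `H^i_L → H^i_I` for `I ≤ L`. -/
abbrev cmpLE (h : I ≤ L) (i : ℕ) (M : Type u) [AddCommGroup M] [Module R M] : LocCoh.H L i M →ₗ[R] LocCoh.H I i M :=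
  ((Dual2.HmapOfLE h i).app (ModuleCat.of R M)).hom

theorem cmpLE_ι (h : I ≤ L) (i : ℕ) (M : ModuleCat.{u} R) (n : ℕ) (x : Abelian.Ext (Q L n) M i) :
    ((Dual2.HmapOfLE h i).app M).hom (ι L i M n x) =
      ι I i M n ((Abelian.Ext.mk₀ ((Dual2.quotMapOfLE h).app (op n))).comp x (zero_add i)) := by
  have h1 := NatTrans.congr_app ((extNatIso R i).inv.naturality ((Dual2.quotMapOfLE h).app (op n)).op) M
  have h2 := NatTrans.congr_app
    (Limits.ι_colimMap (Functor.whiskerRight (NatTrans.op (Dual2.quotMapOfLE h)) (Ext R (ModuleCat.{u} R) i))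
      (op (op n))) M
  have h3 : (((extNatIso R i).inv.app (op (Q L n))).app M ≫
      (Limits.colimit.ι (localCohomology.diagram (localCohomology.idealPowersDiagram L) i) (op (op n))).app M) ≫
        (Dual2.HmapOfLE h i).app M =
      ((extMod R i).map ((Dual2.quotMapOfLE h).app (op n)).op).app M ≫
        (((extNatIso R i).inv.app (op (Q I n))).app M ≫
          (Limits.colimit.ι (localCohomology.diagram (localCohomology.idealPowersDiagram I) i) (op (op n))).app M) := by
    refine (Category.assoc _ _ _).trans ((congrArg (_ ≫ ·) h2).trans ?_)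
    exact (Category.assoc _ _ _).symm.trans ((congrArg (· ≫ _) h1.symm).trans (Category.assoc _ _ _))
  exact LinearMap.congr_fun (congrArg ModuleCat.Hom.hom h3) x

theorem cmpLE_hmap (h : I ≤ L) (i : ℕ) {M N : Type u} [AddCommGroup M] [Module R M] [AddCommGroup N]
    [Module R N] (f : M →ₗ[R] N) (x : LocCoh.H L i M) :
    cmpLE h i N (hmap L i f x) = hmap I i f (cmpLE h i M x) :=
  LinearMap.congr_fun (congrArg ModuleCat.Hom.hom ((Dual2.HmapOfLE h i).naturality (ModuleCat.ofHom f))) x

theorem cmpLE_δ (h : I ≤ L) (i : ℕ) {S : ShortComplex (ModuleCat.{u} R)} (hS : S.ShortExact)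
    (x : (localCohomology L i).obj S.X₃) :
    ((Dual2.HmapOfLE h (i + 1)).app S.X₁).hom (δ L i hS x) = δ I i hS (((Dual2.HmapOfLE h i).app S.X₃).hom x) := by
  obtain ⟨n, y, rfl⟩ := exists_ι L i _ x
  rw [δ_ι, cmpLE_ι, cmpLE_ι, δ_ι]
  exact congrArg _ (Abelian.Ext.comp_assoc _ _ _ (zero_add i) rfl (by omega)).symm

theorem zeroMap_cmpLE (h : I ≤ L) (M : Type u) [AddCommGroup M] [Module R M] (x : LocCoh.H L 0 M) :
    zeroMap I M (cmpLE h 0 M x) = zeroMap L M x := by
  obtain ⟨n, y, rfl⟩ := exists_ι L 0 _ x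
  rw [cmpLE, cmpLE_ι, zeroMap_ι, zeroMap_ι]
  obtain ⟨g, rfl⟩ := (Abelian.Ext.mk₀_bijective _ _).2 y
  refine (congrArg (evalOne I M n) (Abelian.Ext.mk₀_comp_mk₀ _ _)).trans ?_
  change (Abelian.Ext.addEquiv₀ _ : Q I n ⟶ ModuleCat.of R M).hom _ = (Abelian.Ext.addEquiv₀ _ : Q L n ⟶ ModuleCat.of R M).hom _
  rw [show ∀ {X Y : ModuleCat.{u} R} (f : X ⟶ Y), Abelian.Ext.addEquiv₀ (Abelian.Ext.mk₀ f) = f from fun f => Abelian.Ext.addEquiv₀.apply_symm_apply f]
  rw [show ∀ {X Y : ModuleCat.{u} R} (f : X ⟶ Y), Abelian.Ext.addEquiv₀ (Abelian.Ext.mk₀ f) = f from fun f => Abelian.Ext.addEquiv₀.apply_symm_apply f]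
  rfl

theorem cmpLE_zero_injective (h : I ≤ L) (M : Type u) [AddCommGroup M] [Module R M] :
    Function.Injective (cmpLE h 0 M) := fun x y e =>
  zeroMap_injective L M (by rw [← zeroMap_cmpLE h, ← zeroMap_cmpLE h, e])

theorem isPowerTorsion_span_iff {b : R} {M : Type u} [AddCommGroup M] [Module R M] (x : M) :
    (∃ n, ∀ a ∈ Ideal.span {b} ^ n, a • x = 0) ↔ ∃ n : ℕ, b ^ n • x = 0 := by
  refine exists_congr fun n => ?_
  rw [Ideal.span_singleton_pow]
  exact ⟨fun hn => hn _ (Ideal.mem_span_singleton_self _), fun hn a ha => by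
    obtain ⟨c, rfl⟩ := Ideal.mem_span_singleton.1 ha
    rw [mul_comm, mul_smul, hn, smul_zero]⟩

variable [IsNoetherianRing R]

/-- On `b`-torsion modules the comparison is bijective. -/
theorem cmpLE_bijective (I : Ideal R) (b : R) : ∀ (i : ℕ) (M : Type u) [AddCommGroup M] [Module R M],
    LocCoh.IsPowerTorsion (Ideal.span {b}) M →
    Function.Bijective (cmpLE (le_sup_left : I ≤ I ⊔ Ideal.span {b}) i M) := by
  intro i
  induction i with
  | zero =>
    intro M _ _ hM
    refine ⟨cmpLE_zero_injective _ M, fun x => ?_⟩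
    have hx : zeroMap I M x ∈ powTors (I ⊔ Ideal.span {b}) M :=
      powTors_le_of_radical_sup (J := I ⊔ Ideal.span {b}) Ideal.le_radical hM
        (range_zeroMap I M ▸ LinearMap.mem_range_self _ x)
    rw [← range_zeroMap] at hx
    obtain ⟨y, hy⟩ := hx
    exact ⟨y, zeroMap_injective I M (by rw [zeroMap_cmpLE, hy])⟩
  | succ i ih =>
    intro M _ _ hM
    obtain ⟨E, _, _, f, hE, hEt, hf⟩ := exists_powerTorsion_embedding (Ideal.span {b}) hM
    have := Module.injective_object_of_injective_module R E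
    have hg : Function.Surjective (LinearMap.range f).mkQ := Submodule.mkQ_surjective _
    have hS := shortExact_mk f (LinearMap.range f).mkQ hf hg f.exact_map_mkQ_range
    have hC := isPowerTorsion_of_surjective _ _ hg hEt
    have hQ := ih (E ⧸ LinearMap.range f) hC
    have hE1 : ∀ (K : Ideal R), Subsingleton (LocCoh.H K (i + 1) E) := fun K =>
      subsingleton_succ_of_injective K i (ModuleCat.of R E)
    constructor
    · rw [injective_iff_map_eq_zero]
      intro x hx
      obtain ⟨c, rfl⟩ := (exact_δ_map _ i hS x).1 ((hE1 _).elim _ _)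
      have h0 : δ I i hS (cmpLE (le_sup_left : I ≤ I ⊔ Ideal.span {b}) i _ c) = 0 := (cmpLE_δ le_sup_left i hS c).symm.trans hx
      obtain ⟨e, he⟩ := (exact_map_δ I i hS _).1 h0
      obtain ⟨e', he'⟩ := (ih E hEt).2 e
      refine (exact_map_δ _ i hS c).2 ⟨e', hQ.1 ?_⟩
      exact (cmpLE_hmap le_sup_left i _ e').trans ((congrArg _ he').trans he)
    · intro y
      obtain ⟨c, rfl⟩ := (exact_δ_map I i hS y).1 ((hE1 _).elim _ _)
      obtain ⟨c', rfl⟩ := hQ.2 c
      exact ⟨δ _ i hS c', cmpLE_δ le_sup_left i hS c'⟩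

variable (I : Ideal R) (b : R) (M : Type u) [AddCommGroup M] [Module R M]

/-- `M → M_b`. -/
abbrev locMap : M →ₗ[R] LocalizedModule (Submonoid.powers b) M :=
  LocalizedModule.mkLinearMap (Submonoid.powers b) M

theorem subsingleton_H_localized (i : ℕ) :
    Subsingleton (LocCoh.H (I ⊔ Ideal.span {b}) i (LocalizedModule (Submonoid.powers b) M)) :=
  subsingleton_of_smul_bijective (b := b) ((le_sup_right : Ideal.span {b} ≤ I ⊔ Ideal.span {b})
    (Ideal.mem_span_singleton_self b)) _
    ((Module.End.isUnit_iff _).1 (IsLocalizedModule.map_units (locMap b M) ⟨b, Submonoid.mem_powers b⟩)) i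

/-- The image of the comparison is the kernel of `H(M) → H(M_b)`. -/
theorem exact_cmpLE_locMap (i : ℕ) :
    Function.Exact (cmpLE (le_sup_left : I ≤ I ⊔ Ideal.span {b}) i M) (hmap I i (locMap b M)) := by
  intro x
  constructor
  swap
  · rintro ⟨w, rfl⟩
    rw [← cmpLE_hmap]
    exact (congrArg _ ((subsingleton_H_localized I b M i).elim _ 0)).trans (map_zero _)
  intro hx
  set T := LinearMap.ker (locMap b M)
  set N := LinearMap.range (locMap b M)
  have hT : LocCoh.IsPowerTorsion (Ideal.span {b}) T := fun t => by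
    rw [isPowerTorsion_span_iff]
    obtain ⟨⟨_, n, rfl⟩, hs⟩ := (IsLocalizedModule.eq_zero_iff (Submonoid.powers b) (locMap b M)).1
      (LinearMap.mem_ker.1 t.2)
    exact ⟨n, Subtype.ext hs⟩
  have hC : LocCoh.IsPowerTorsion (Ideal.span {b}) (LocalizedModule (Submonoid.powers b) M ⧸ N) := fun y => by
    rw [isPowerTorsion_span_iff]
    obtain ⟨y, rfl⟩ := Submodule.Quotient.mk_surjective _ y
    obtain ⟨⟨m, ⟨_, n, rfl⟩⟩, hy⟩ := IsLocalizedModule.surj (Submonoid.powers b) (locMap b M) y
    refine ⟨n, ?_⟩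
    rw [← Submodule.Quotient.mk_smul, Submodule.Quotient.mk_eq_zero]
    exact ⟨m, hy.symm⟩
  have hS1 := shortExact_mk T.subtype (locMap b M).rangeRestrict T.injective_subtype
    (locMap b M).surjective_rangeRestrict (by
      rw [LinearMap.exact_iff, LinearMap.ker_rangeRestrict, Submodule.range_subtype])
  have hS2 := shortExact_mk N.subtype N.mkQ N.injective_subtype N.mkQ_surjective (LinearMap.exact_subtype_mkQ N)
  set y := hmap I i (locMap b M).rangeRestrict x with hy_def
  have hyx : hmap I i N.subtype y = 0 := by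
    rw [hy_def, ← LinearMap.comp_apply, ← hmap_comp]
    exact hx
  -- a lift of `y`
  obtain ⟨u, hu, hu'⟩ : ∃ u : LocCoh.H (I ⊔ Ideal.span {b}) i N,
      cmpLE (le_sup_left : I ≤ I ⊔ Ideal.span {b}) i N u = y ∧
        ((localCohomology (I ⊔ Ideal.span {b}) i).map (ModuleCat.ofHom N.subtype)).hom u = 0 := by
    cases i with
    | zero =>
      exact ⟨0, (map_zero _).trans ((injective_iff_map_eq_zero _).1 (injective_map_f_zero I hS2) y hyx).symm,
        map_zero _⟩
    | succ i =>
      obtain ⟨c, hc⟩ := (exact_δ_map I i hS2 y).1 hyx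
      obtain ⟨c', rfl⟩ := (cmpLE_bijective I b i _ hC).2 c
      exact ⟨δ _ i hS2 c', (cmpLE_δ le_sup_left i hS2 c').trans hc, (subsingleton_H_localized I b M (i + 1)).elim _ _⟩
  -- it lifts to `M`
  have hδ : δ (I ⊔ Ideal.span {b}) i hS1 u = 0 := by
    exact (cmpLE_bijective I b (i + 1) _ hT).1 (((cmpLE_δ le_sup_left i hS1 u).trans
      ((congrArg (δ I i hS1) hu).trans ((exact_map_δ I i hS1 y).2 ⟨x, rfl⟩))).trans (map_zero _).symm)
  obtain ⟨w, hw⟩ := (exact_map_δ _ i hS1 u).1 hδ
  have hdiff : hmap I i (locMap b M).rangeRestrict (x - cmpLE (le_sup_left : I ≤ I ⊔ Ideal.span {b}) i M w) = 0 := by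
    rw [map_sub, ← cmpLE_hmap, sub_eq_zero]
    exact (hu.symm.trans (congrArg _ hw.symm))
  obtain ⟨t, ht⟩ := (exact_map_map I i hS1 _).1 hdiff
  obtain ⟨t', rfl⟩ := (cmpLE_bijective I b i _ hT).2 t
  refine ⟨hmap (I ⊔ Ideal.span {b}) i T.subtype t' + (show LocCoh.H (I ⊔ Ideal.span {b}) i M from w), ?_⟩
  rw [map_add, cmpLE_hmap]
  exact eq_sub_iff_add_eq.1 ht

/-- `H^i_I` commutes with inverting `b`. -/
theorem isLocalizedModule_hmap (i : ℕ) :
    IsLocalizedModule (Submonoid.powers b) (hmap I i (locMap b M)) := by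
  refine ⟨fun s => ?_, fun y => ?_, fun {x₁ x₂} e => ?_⟩
  · rw [Module.End.isUnit_iff]
    let e : LocalizedModule (Submonoid.powers b) M ≃ₗ[R] LocalizedModule (Submonoid.powers b) M :=
      LinearEquiv.ofBijective ((s : R) • LinearMap.id)
        ((Module.End.isUnit_iff _).1 (IsLocalizedModule.map_units (locMap b M) s))
    have he : ∀ z, hcongr I i e z = (s : R) • z := fun z => by
      change hmap I i ((s : R) • LinearMap.id) z = _
      rw [hmap_smul, hmap_id]
      rfl
    convert (hcongr I i e).bijective using 1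
    funext z
    exact (he z).symm
  · obtain ⟨n, w, rfl⟩ := exists_ι I i _ y
    obtain ⟨s, hs, z, hz⟩ := (ext_localization (Submonoid.powers b) (locMap b M) i (R ⧸ I ^ n)).2 w
    refine ⟨⟨ι I i _ n z, ⟨s, hs⟩⟩, ?_⟩
    show s • ι I i _ n w = _
    rw [← map_smul, ← hz, ← map_ι]
  · have h0 : hmap I i (locMap b M) (x₁ - x₂) = 0 := by rw [map_sub, e, sub_self]
    obtain ⟨n, z, hz⟩ := exists_ι I i _ (x₁ - x₂)
    rw [← hz] at h0
    obtain ⟨m, hnm, h1⟩ := (ι_eq_zero_iff I i _ _).1 ((map_ι I i _ n z).symm.trans h0)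
    rw [← Abelian.Ext.comp_assoc_of_third_deg_zero] at h1
    obtain ⟨s, hs, h2⟩ := (ext_localization (Submonoid.powers b) (locMap b M) i (R ⧸ I ^ m)).1 _ h1
    refine ⟨⟨s, hs⟩, sub_eq_zero.1 ?_⟩
    show s • x₁ - s • x₂ = 0
    rw [← smul_sub, ← hz, ← ι_proj I i _ hnm, ← map_smul, h2, map_zero]

theorem mem_range_cmpLE_iff (i : ℕ) (x : LocCoh.H I i M) :
    x ∈ LinearMap.range (cmpLE (le_sup_left : I ≤ I ⊔ Ideal.span {b}) i M) ↔ ∃ n : ℕ, b ^ n • x = 0 := by
  have := isLocalizedModule_hmap I b M i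
  rw [LinearMap.mem_range, ← Set.mem_range, ← exact_cmpLE_locMap I b M i x,
    IsLocalizedModule.eq_zero_iff (Submonoid.powers b) (hmap I i (locMap b M))]
  constructor
  · rintro ⟨⟨_, n, rfl⟩, hn⟩; exact ⟨n, hn⟩
  · rintro ⟨n, hn⟩; exact ⟨⟨_, n, rfl⟩, hn⟩

theorem nonempty_coker_equiv_H_one {H H' : Type u} [AddCommGroup H] [Module R H] [AddCommGroup H'] [Module R H']
    (f : H →ₗ[R] H') [IsLocalizedModule (Submonoid.powers b) f] :
    Nonempty ((H' ⧸ LinearMap.range f) ≃ₗ[R] LocCoh.H (Ideal.span {b}) 1 H) := by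
  set K := Ideal.span ({b} : Set R)
  have hbij : Function.Bijective fun y : H' => b • y :=
    (Module.End.isUnit_iff _).1 (IsLocalizedModule.map_units f ⟨b, Submonoid.mem_powers b⟩)
  have hvan := fun q => subsingleton_of_smul_bijective (I := K) (Ideal.mem_span_singleton_self b) H' hbij q
  have hker : LinearMap.ker f = powTors K H := by
    ext x
    rw [LinearMap.mem_ker, IsLocalizedModule.eq_zero_iff (Submonoid.powers b) f, mem_powTors_iff,
      isPowerTorsion_span_iff]
    constructor
    · rintro ⟨⟨_, n, rfl⟩, hn⟩; exact ⟨n, hn⟩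
    · rintro ⟨n, hn⟩; exact ⟨⟨_, n, rfl⟩, hn⟩
  obtain ⟨e⟩ := nonempty_h1Equiv K (LinearMap.range f).injective_subtype (LinearMap.range f).mkQ_surjective
    (LinearMap.exact_subtype_mkQ _) (hvan 1)
  have htop : powTors K (H' ⧸ LinearMap.range f) = ⊤ := by
    refine isPowerTorsion_iff.1 fun y => ?_
    rw [isPowerTorsion_span_iff]
    obtain ⟨y, rfl⟩ := Submodule.Quotient.mk_surjective _ y
    obtain ⟨⟨m, ⟨_, n, rfl⟩⟩, hy⟩ := IsLocalizedModule.surj (Submonoid.powers b) f y
    refine ⟨n, ?_⟩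
    rw [← Submodule.Quotient.mk_smul, Submodule.Quotient.mk_eq_zero]
    exact ⟨m, hy.symm⟩
  have hbot : torsImage K (LinearMap.range f).mkQ = ⊥ := by
    have h0 : powTors K H' = ⊥ := (subsingleton_zero_iff K).1 (hvan 0)
    rw [eq_bot_iff]
    intro c hc
    obtain ⟨z, hz, hzc⟩ := (mem_torsImage K c).1 hc
    rw [h0, Submodule.mem_bot] at hz
    exact Subtype.ext (by rw [← hzc, hz, map_zero]; rfl)
  let e1 : (H' ⧸ LinearMap.range f) ≃ₗ[R] (powTors K (H' ⧸ LinearMap.range f) ⧸ torsImage K (LinearMap.range f).mkQ) :=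
    (LinearEquiv.ofTop _ htop).symm ≪≫ₗ ((Submodule.quotEquivOfEq _ _ hbot) ≪≫ₗ Submodule.quotEquivOfEqBot ⊥ rfl).symm
  let e2 : (H ⧸ powTors K H) ≃ₗ[R] LinearMap.range f :=
    Submodule.quotEquivOfEq _ _ hker.symm ≪≫ₗ f.quotKerEquivRange
  exact ⟨e1 ≪≫ₗ e ≪≫ₗ hcongr K 1 e2.symm ≪≫ₗ (LinearEquiv.ofBijective _ (hmap_mkQ_bijective' K H)).symm⟩
where
  hmap_mkQ_bijective' (K : Ideal R) (H : Type u) [AddCommGroup H] [Module R H] :
      Function.Bijective (hmap K 1 (powTors K H).mkQ) := by
    have ht : ∀ q, Subsingleton (LocCoh.H K (q + 1) (powTors K H)) := fun q =>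
      subsingleton_of_isPowerTorsion K q _ (isPowerTorsion_powTors K)
    refine ⟨?_, hmap_g_surjective K (powTors K H).injective_subtype (powTors K H).mkQ_surjective
      (LinearMap.exact_subtype_mkQ _) 1 (ht 1)⟩
    rw [injective_iff_map_eq_zero]
    intro x hx
    obtain ⟨y, rfl⟩ := (exact_map_map K 1 (shortExact_mk (powTors K H).subtype (powTors K H).mkQ
      (powTors K H).injective_subtype (powTors K H).mkQ_surjective (LinearMap.exact_subtype_mkQ _)) x).1 hx
    exact (congrArg _ ((ht 0).elim y 0)).trans (map_zero _)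

theorem nonempty_ker_cmpLE_equiv (i : ℕ) : ∀ (M : Type u) [AddCommGroup M] [Module R M],
    Nonempty (LinearMap.ker (cmpLE (le_sup_left : I ≤ I ⊔ Ideal.span {b}) (i + 1) M) ≃ₗ[R]
      LocCoh.H (Ideal.span {b}) 1 (LocCoh.H I i M)) := by
  set L := I ⊔ Ideal.span ({b} : Set R)
  have hIL : I ≤ L := le_sup_left
  induction i with
  | succ i ih =>
    intro M _ _
    obtain ⟨E, _, _, f, hE, hf, hac⟩ := exists_injective_extension (R := R) M
    set g := (LinearMap.range f).mkQ
    have hg : Function.Surjective g := Submodule.mkQ_surjective _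
    let eL := δEquiv L hf hg f.exact_map_mkQ_range (i + 1) (hac L i) (hac L (i + 1))
    let eI := δEquiv I hf hg f.exact_map_mkQ_range (i + 1) (hac I i) (hac I (i + 1))
    have hker : (LinearMap.ker (cmpLE hIL (i + 1) (E ⧸ LinearMap.range f))).map eL.toLinearMap =
        LinearMap.ker (cmpLE hIL (i + 1 + 1) M) := by
      rw [Submodule.map_equiv_eq_comap_symm]
      ext x
      obtain ⟨c, rfl⟩ := eL.surjective x
      simp only [Submodule.mem_comap, LinearEquiv.coe_coe, LinearEquiv.symm_apply_apply, LinearMap.mem_ker]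
      have hc : cmpLE hIL (i + 1 + 1) M (eL c) = eI (cmpLE hIL (i + 1) _ c) :=
        cmpLE_δ hIL (i + 1) (shortExact_mk f g hf hg f.exact_map_mkQ_range) c
      rw [hc, LinearEquiv.map_eq_zero_iff]
    obtain ⟨e⟩ := ih (E ⧸ LinearMap.range f)
    -- degree `i` on the quotient maps onto degree `i + 1`
    refine ⟨(LinearEquiv.ofEq _ _ hker.symm) ≪≫ₗ (eL.submoduleMap _).symm ≪≫ₗ e ≪≫ₗ ?_⟩
    cases i with
    | succ j => exact hcongr _ 1 (δEquiv I hf hg f.exact_map_mkQ_range (j + 1) (hac I j) (hac I (j + 1)))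
    | zero => exact (h1Congr f hf).some
  | zero =>
    intro M _ _
    obtain ⟨E, _, _, f, hE, hf, hac⟩ := exists_injective_extension (R := R) M
    set g := (LinearMap.range f).mkQ
    have hg : Function.Surjective g := Submodule.mkQ_surjective _
    have hS := shortExact_mk f g hf hg f.exact_map_mkQ_range
    have := isLocalizedModule_hmap I b M 0
    obtain ⟨ec⟩ := nonempty_coker_equiv_H_one b (hmap I 0 (locMap b M))
    let fb : LocalizedModule (Submonoid.powers b) M →ₗ[R] LocalizedModule (Submonoid.powers b) E :=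
      IsLocalizedModule.map (Submonoid.powers b) (locMap b M) (locMap b E) f
    have hfb : Function.Injective fb := IsLocalizedModule.map_injective _ _ _ _ hf
    have hfb_apply : ∀ m, fb (locMap b M m) = locMap b E (f m) := fun m =>
      IsLocalizedModule.map_apply (Submonoid.powers b) (locMap b M) (locMap b E) f m
    let W : Submodule R E := powTors I E ⊓ (powTors L (E ⧸ LinearMap.range f)).comap g
    let β : W →ₗ[R] LocCoh.H L 1 M := δ L 0 hS ∘ₗ (zeroEquiv L _).symm.toLinearMap ∘ₗ
      LinearMap.codRestrict (powTors L (E ⧸ LinearMap.range f)) (g ∘ₗ W.subtype) (fun e => e.2.2)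
    have hzq : ∀ c : powTors L (E ⧸ LinearMap.range f), zeroMap L _ ((zeroEquiv L _).symm c) = (c : E ⧸ LinearMap.range f) :=
      fun c => congrArg Subtype.val ((zeroEquiv L _).apply_symm_apply c)
    have hz : ∀ (K : Ideal R) {X : Type u} [AddCommGroup X] [Module R X] (x : X) (hx : x ∈ powTors K X),
        ∃ x' : LocCoh.H K 0 X, zeroMap K X x' = x := fun K X _ _ x hx => by
      rwa [← range_zeroMap] at hx
    have hβmem : ∀ e, β e ∈ LinearMap.ker (cmpLE hIL 1 M) := fun e => by
      rw [LinearMap.mem_ker]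
      refine (cmpLE_δ hIL 0 hS _).trans ((exact_map_δ I 0 hS _).2 ?_)
      obtain ⟨e', he'⟩ := hz I (e : E) e.2.1
      refine ⟨e', zeroMap_injective I _ ?_⟩
      refine (zeroMap_natural I g e').trans ?_
      rw [he']
      exact ((zeroMap_cmpLE hIL _ _).trans (hzq ⟨g e, e.2.2⟩)).symm
    let β' := β.codRestrict _ hβmem
    have hβ : Function.Surjective β' := by
      rintro ⟨x, hx⟩
      obtain ⟨q, rfl⟩ := (exact_δ_map L 0 hS x).1 ((hac L 0).elim _ _)
      rw [LinearMap.mem_ker] at hx
      obtain ⟨e', he'⟩ := (exact_map_δ I 0 hS _).1 ((cmpLE_δ hIL 0 hS q).symm.trans hx)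
      have he : g (zeroMap I E e') = zeroMap L _ q := by
        rw [← zeroMap_natural I g, ← zeroMap_cmpLE hIL]
        exact congrArg (zeroMap I _) he'
      refine ⟨⟨zeroMap I E e', ⟨range_zeroMap I E ▸ LinearMap.mem_range_self _ e', ?_⟩⟩, Subtype.ext ?_⟩
      · show g (zeroMap I E e') ∈ powTors L _
        rw [he, ← range_zeroMap]
        exact LinearMap.mem_range_self _ q
      · exact congrArg (δ L 0 hS) (zeroMap_injective L _ ((hzq _).trans he))
    -- the other side
    have hWloc : ∀ e : W, locMap b E e ∈ LinearMap.range fb ∧ locMap b E (e : E) ∈ powTors I (LocalizedModule (Submonoid.powers b) E) := by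
      intro e
      refine ⟨?_, ?_⟩
      · obtain ⟨n, hn⟩ := mem_powTors_iff.1 (show g (e : E) ∈ powTors L _ from e.2.2)
        have hb : b ^ n ∈ L ^ n := Ideal.pow_mem_pow ((le_sup_right : Ideal.span {b} ≤ L) (Ideal.mem_span_singleton_self b)) n
        have h1 : b ^ n • (e : E) ∈ LinearMap.range f := by
          rw [← Submodule.Quotient.mk_eq_zero, Submodule.Quotient.mk_smul]
          exact hn _ hb
        obtain ⟨m, hm⟩ := h1
        obtain ⟨z, hz'⟩ := ((Module.End.isUnit_iff _).1
          (IsLocalizedModule.map_units (locMap b M) (⟨b ^ n, ⟨n, rfl⟩⟩ : Submonoid.powers b))).2 (locMap b M m)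
        refine ⟨z, ((Module.End.isUnit_iff _).1 (IsLocalizedModule.map_units (locMap b E) (⟨b ^ n, ⟨n, rfl⟩⟩ : Submonoid.powers b))).1 ?_⟩
        show b ^ n • fb z = b ^ n • locMap b E (e : E)
        rw [← map_smul, show b ^ n • z = locMap b M m from hz', hfb_apply, hm, map_smul]
      · obtain ⟨n, hn⟩ := mem_powTors_iff.1 e.2.1
        exact mem_powTors_iff.2 ⟨n, fun a ha => by rw [← map_smul, hn a ha, map_zero]⟩
    choose z hz' using fun e : W => (hWloc e).1
    have hzI : ∀ e, z e ∈ powTors I (LocalizedModule (Submonoid.powers b) M) := fun e => by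
      obtain ⟨n, hn⟩ := mem_powTors_iff.1 (hWloc e).2
      exact mem_powTors_iff.2 ⟨n, fun a ha => hfb (by rw [map_smul, hz', hn a ha, map_zero])⟩
    let α : W →ₗ[R] powTors I (LocalizedModule (Submonoid.powers b) M) :=
      { toFun := fun e => ⟨z e, hzI e⟩
        map_add' := fun e e' => Subtype.ext (hfb (by simp [hz', map_add]))
        map_smul' := fun r e => Subtype.ext (hfb (by simp [hz', map_smul])) }
    let α' : W →ₗ[R] (LocCoh.H I 0 (LocalizedModule (Submonoid.powers b) M) ⧸ LinearMap.range (hmap I 0 (locMap b M))) :=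
      (LinearMap.range (hmap I 0 (locMap b M))).mkQ ∘ₗ (zeroEquiv I _).symm.toLinearMap ∘ₗ α
    have hα : Function.Surjective α' := by
      intro y
      obtain ⟨y, rfl⟩ := Submodule.Quotient.mk_surjective _ y
      set v := zeroMap I _ y
      have hv : v ∈ powTors I (LocalizedModule (Submonoid.powers b) M) := range_zeroMap I (LocalizedModule (Submonoid.powers b) M) ▸ LinearMap.mem_range_self _ y
      obtain ⟨e₀, he₀⟩ := mkLinearMap_surjective_of_injective hE (Submonoid.powers b) (fb v)
      obtain ⟨n, hn⟩ := mem_powTors_iff.1 hv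
      -- correct the lift to an `I`-torsion element
      obtain ⟨k, hk⟩ : ∃ k : ℕ, ∀ a ∈ I ^ n, a • b ^ k • e₀ = 0 := by
        obtain ⟨s, hs⟩ : (I ^ n).FG := IsNoetherian.noetherian _
        have hs' : ∀ a ∈ s, ∃ k : ℕ, b ^ k • a • e₀ = 0 := fun a ha => by
          obtain ⟨⟨_, k, rfl⟩, hk⟩ := (IsLocalizedModule.eq_zero_iff (Submonoid.powers b) (locMap b E)).1
            (show locMap b E (a • e₀) = 0 by
              rw [map_smul, show locMap b E e₀ = fb v from he₀, ← map_smul, hn a (hs ▸ Submodule.subset_span ha), map_zero])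
          exact ⟨k, hk⟩
        choose k hk using hs'
        classical
        obtain ⟨K, hK⟩ : ∃ K : ℕ, ∀ a (ha : a ∈ s), k a ha ≤ K :=
          ⟨s.attach.sup fun a => k a.1 a.2, fun a ha => Finset.le_sup (f := fun a : s => k a.1 a.2) (Finset.mem_attach s ⟨a, ha⟩)⟩
        refine ⟨K, fun a ha => ?_⟩
        rw [← hs] at ha
        refine Submodule.span_induction (p := fun a _ => a • b ^ K • e₀ = 0) ?_ (zero_smul _ _)
          (fun u v _ _ hu hv => by rw [add_smul, hu, hv, add_zero])
          (fun c u _ hu => by rw [smul_assoc, hu, smul_zero]) ha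
        intro a ha'
        obtain ⟨d, rfl⟩ := Nat.le.dest (hK a ha')
        rw [smul_comm, pow_add, mul_comm, mul_smul, hk a ha', smul_zero]
      -- divide by `b ^ k` inside the torsion
      obtain ⟨e₁, he₁⟩ := mkLinearMap_surjective_of_injective (injective_powTors hE I) (Submonoid.powers b)
        (LocalizedModule.mk (⟨b ^ k • e₀, mem_powTors_iff.2 ⟨n, hk⟩⟩ : powTors I E) (⟨b ^ k, ⟨k, rfl⟩⟩ : Submonoid.powers b))
      have hloc : locMap b E (e₁ : E) = fb v := by
        rw [LocalizedModule.mkLinearMap_apply, LocalizedModule.mk_eq] at he₁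
        obtain ⟨c, hc⟩ := he₁
        have hc' : (c : R) • b ^ k • (e₁ : E) = (c : R) • b ^ k • e₀ := by
          have := congrArg Subtype.val hc
          simpa [Submonoid.smul_def] using this
        have hcu := fun s : Submonoid.powers b => ((Module.End.isUnit_iff _).1 (IsLocalizedModule.map_units (locMap b E) s)).1
        refine hcu (⟨b ^ k, ⟨k, rfl⟩⟩ : Submonoid.powers b) (hcu c ?_)
        show (c : R) • b ^ k • locMap b E (e₁ : E) = (c : R) • b ^ k • fb v
        rw [← map_smul, ← map_smul, hc', map_smul, map_smul]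
        exact congrArg (fun t => (c : R) • b ^ k • t) he₀
      refine ⟨⟨(e₁ : E), e₁.2, ?_⟩, ?_⟩
      · show g (e₁ : E) ∈ powTors L _
        obtain ⟨⟨m, ⟨_, j, rfl⟩⟩, hm⟩ := IsLocalizedModule.surj (Submonoid.powers b) (locMap b M) v
        have hm' : locMap b E (b ^ j • (e₁ : E) - f m) = 0 := by
          rw [map_sub, map_smul, hloc, ← map_smul, ← hfb_apply, sub_eq_zero]
          exact congrArg fb hm
        obtain ⟨⟨_, l, rfl⟩, hl⟩ := (IsLocalizedModule.eq_zero_iff (Submonoid.powers b) (locMap b E)).1 hm'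
        have hKt : b ^ (l + j) • g (e₁ : E) = 0 := by
          rw [← map_smul]
          refine (Submodule.Quotient.mk_eq_zero _).2 ⟨b ^ l • m, ?_⟩
          rw [map_smul, pow_add, mul_smul, eq_comm, ← sub_eq_zero, ← smul_sub]
          exact hl
        obtain ⟨n', hn'⟩ := mem_powTors_iff.1 e₁.2
        refine mem_powTors_iff.2 ⟨n' + (l + j), fun a ha => ?_⟩
        obtain ⟨p, hp, q, hq, rfl⟩ := Submodule.mem_sup.1 (Ideal.sup_pow_add_le_pow_sup_pow ha)
        rw [Ideal.span_singleton_pow, Ideal.mem_span_singleton] at hq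
        obtain ⟨c, rfl⟩ := hq
        rw [add_smul, ← map_smul g p, hn' p hp, map_zero, mul_comm, mul_smul, hKt, smul_zero, add_zero]
      · refine congrArg Submodule.Quotient.mk (zeroMap_injective I _ ?_)
        refine (congrArg Subtype.val ((zeroEquiv I _).apply_symm_apply _)).trans ?_
        exact hfb ((hz' _).trans hloc)
    have hkers : LinearMap.ker β' = LinearMap.ker α' := by
      ext e
      have hαe : fb (zeroMap I _ ((zeroEquiv I _).symm (α e))) = locMap b E (e : E) := by
        rw [show zeroMap I _ ((zeroEquiv I _).symm (α e)) = z e from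
          congrArg Subtype.val ((zeroEquiv I _).apply_symm_apply (α e))]
        exact hz' e
      constructor
      · intro he
        obtain ⟨e', he'⟩ := (exact_map_δ L 0 hS _).1 (congrArg Subtype.val (LinearMap.mem_ker.1 he) :)
        have h1 : g (e : E) = g (zeroMap L E e') := by
          rw [← zeroMap_natural L g]
          exact ((congrArg (zeroMap L _) he').trans (hzq _)).symm
        obtain ⟨m, hm⟩ := (Submodule.Quotient.eq _).1 h1
        have htl : zeroMap L E e' ∈ powTors L E := range_zeroMap L E ▸ LinearMap.mem_range_self _ e'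
        have htI : zeroMap L E e' ∈ powTors I E := powTors_le_of_radical ((le_sup_left : I ≤ L).trans Ideal.le_radical) E htl
        have hmI : m ∈ powTors I M := by
          obtain ⟨n, hn⟩ := mem_powTors_iff.1 (sub_mem e.2.1 htI)
          exact mem_powTors_iff.2 ⟨n, fun a ha => hf (by rw [map_smul, hm, hn a ha, map_zero])⟩
        obtain ⟨m', hm'⟩ := hz I m hmI
        refine (Submodule.Quotient.mk_eq_zero _).2 ⟨m', zeroMap_injective I _ (hfb ?_)⟩
        show fb (zeroMap I _ (hmap I 0 (locMap b M) m')) = fb (zeroMap I _ ((zeroEquiv I _).symm (α e)))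
        rw [zeroMap_natural I (locMap b M), hm', hfb_apply, hm, hαe, map_sub, sub_eq_self]
        obtain ⟨n, hn⟩ := mem_powTors_iff.1 htl
        exact (IsLocalizedModule.eq_zero_iff (Submonoid.powers b) (locMap b E)).2 ⟨(⟨b ^ n, ⟨n, rfl⟩⟩ : Submonoid.powers b),
          hn _ (Ideal.pow_mem_pow ((le_sup_right : Ideal.span {b} ≤ L) (Ideal.mem_span_singleton_self b)) n)⟩
      · intro he
        obtain ⟨m', hm'⟩ := (Submodule.Quotient.mk_eq_zero _).1 (LinearMap.mem_ker.1 he)
        have h1 : locMap b E ((e : E) - f (zeroMap I M m')) = 0 := by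
          rw [map_sub, ← hαe, ← hfb_apply, ← map_sub, ← zeroMap_natural I (locMap b M), sub_eq_zero.2 ?_, map_zero]
          exact (congrArg (zeroMap I _) hm').symm
        obtain ⟨⟨_, k, rfl⟩, hk⟩ := (IsLocalizedModule.eq_zero_iff (Submonoid.powers b) (locMap b E)).1 h1
        have hmI : zeroMap I M m' ∈ powTors I M := range_zeroMap I M ▸ LinearMap.mem_range_self _ m'
        obtain ⟨n1, hn1⟩ := mem_powTors_iff.1 hmI
        obtain ⟨n2, hn2⟩ := mem_powTors_iff.1 e.2.1
        have htl : (e : E) - f (zeroMap I M m') ∈ powTors L E := by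
          refine mem_powTors_iff.2 ⟨(n1 + n2) + k, fun a ha => ?_⟩
          obtain ⟨p, hp, q, hq, rfl⟩ := Submodule.mem_sup.1 (Ideal.sup_pow_add_le_pow_sup_pow ha)
          rw [Ideal.span_singleton_pow, Ideal.mem_span_singleton] at hq
          obtain ⟨c, rfl⟩ := hq
          rw [add_smul, smul_sub p, hn2 p (Ideal.pow_le_pow_right (Nat.le_add_left _ _) hp), ← map_smul,
            hn1 p (Ideal.pow_le_pow_right (Nat.le_add_right _ _) hp), map_zero, sub_zero, zero_add,
            mul_comm, mul_smul, show b ^ k • ((e : E) - f (zeroMap I M m')) = 0 from hk, smul_zero]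
        obtain ⟨e', he'⟩ := hz L _ htl
        refine Subtype.ext ((exact_map_δ L 0 hS _).2 ⟨e', zeroMap_injective L _ ?_⟩)
        refine (zeroMap_natural L g e').trans ?_
        rw [he', map_sub, show g (f (zeroMap I M m')) = 0 from (Submodule.Quotient.mk_eq_zero _).2 ⟨_, rfl⟩, sub_zero]
        exact (hzq ⟨g e, e.2.2⟩).symm
    exact ⟨(β'.quotKerEquivOfSurjective hβ).symm ≪≫ₗ Submodule.quotEquivOfEq _ _ hkers ≪≫ₗ
      α'.quotKerEquivOfSurjective hα ≪≫ₗ ec⟩
where
  h1Congr {M E : Type u} [AddCommGroup M] [Module R M] [AddCommGroup E] [Module R E] (f : M →ₗ[R] E)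
      (hf : Function.Injective f) [hE : Module.Injective R E] :
      Nonempty (LocCoh.H (Ideal.span {b}) 1 (LocCoh.H I 0 (E ⧸ LinearMap.range f)) ≃ₗ[R]
        LocCoh.H (Ideal.span {b}) 1 (LocCoh.H I 1 M)) := by
    have := Module.injective_object_of_injective_module R E
    have hS := shortExact_mk f (LinearMap.range f).mkQ hf (Submodule.mkQ_surjective _) f.exact_map_mkQ_range
    let d : LocCoh.H I 0 (E ⧸ LinearMap.range f) →ₗ[R] LocCoh.H I 1 M := δ I 0 hS
    have hd : Function.Surjective d := fun x =>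
      (exact_δ_map I 0 hS x).1 ((subsingleton_succ_of_injective I 0 (ModuleCat.of R E)).elim _ _)
    set K := Ideal.span ({b} : Set R)
    let π : LocCoh.H I 0 E →ₗ[R] LinearMap.ker d := (hmap I 0 (LinearMap.range f).mkQ).codRestrict _
      fun x => LinearMap.mem_ker.2 ((exact_map_δ I 0 hS _).2 ⟨x, rfl⟩)
    have hπ : Function.Surjective π := fun ⟨y, hy⟩ => by
      obtain ⟨x, hx⟩ := (exact_map_δ I 0 hS y).1 (LinearMap.mem_ker.1 hy)
      exact ⟨x, Subtype.ext hx⟩
    have h2 : ∀ X : Type u, ∀ [AddCommGroup X] [Module R X], Subsingleton (LocCoh.H K 2 X) := fun X _ _ =>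
      cdLE_span_singleton b X 2 one_lt_two
    have hE0 : Subsingleton (LocCoh.H K 1 (LocCoh.H I 0 E)) := by
      have := injective_powTors hE I
      have := Module.injective_object_of_injective_module R (powTors I E)
      exact @Equiv.subsingleton _ _ (hcongr K 1 (zeroEquiv I E)).toEquiv
        (subsingleton_succ_of_injective K 0 (ModuleCat.of R (powTors I E)))
    have hker : Subsingleton (LocCoh.H K 1 (LinearMap.ker d)) :=
      subsingleton_right K (LinearMap.ker π).injective_subtype hπ (LinearMap.exact_subtype_ker_map π) 1 hE0 (h2 _)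
    have hS2 := shortExact_mk (LinearMap.ker d).subtype d (LinearMap.ker d).injective_subtype hd
      (LinearMap.exact_subtype_ker_map d)
    refine ⟨LinearEquiv.ofBijective (hmap K 1 d) ⟨?_, hmap_g_surjective K (LinearMap.ker d).injective_subtype hd
      (LinearMap.exact_subtype_ker_map d) 1 (h2 _)⟩⟩
    rw [injective_iff_map_eq_zero]
    intro x hx
    obtain ⟨y, rfl⟩ := (exact_map_map K 1 hS2 x).1 hx
    exact (congrArg _ (hker.elim y 0)).trans (map_zero _)

end Groth.Agent.LocCohLib
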