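import Groth.Agent.Lib.LocCoh.ExtCompare
import Groth.Prelude.Def_Wider
import Mathlib.Algebra.Category.ModuleCat.FilteredColimits
import Mathlib.Algebra.Homology.DerivedCategory.Ext.EnoughInjectives
import Mathlib.Algebra.Homology.DerivedCategory.Ext.ExactSequences
import Mathlib.CategoryTheory.Limits.ConcreteCategory.Basic
import Mathlib.CategoryTheory.Limits.FunctorCategory.Basic

/-!
# Elements of local cohomology

`LocCoh.H I i M` is the filtered union of `Abelian.Ext (R ⧸ I ^ n) M i` along `ι`.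
-/

universe u

open CategoryTheory Opposite Limits

noncomputable section

namespace Groth.Agent.LocCohLib

variable {R : Type u} [CommRing R] (I : Ideal R) (i : ℕ)

/-- `R ⧸ I ^ n` as an object. -/
abbrev Q (n : ℕ) : ModuleCat.{u} R := ModuleCat.of R (R ⧸ I ^ n)

/-- The projection `R ⧸ I ^ m → R ⧸ I ^ n`. -/
def proj {n m : ℕ} (h : n ≤ m) : Q I m ⟶ Q I n :=
  ModuleCat.ofHom (Submodule.mapQ (I ^ m) (I ^ n) LinearMap.id (Ideal.pow_le_pow_right h))

variable (M : ModuleCat.{u} R)

/-- The map `Ext^i(R ⧸ I ^ n, M) → H^i_I(M)`. -/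
def ι (n : ℕ) : Abelian.Ext (Q I n) M i →ₗ[R] (localCohomology I i).obj M :=
  ((((extNatIso R i).inv.app (op (Q I n))).app M) ≫
    (colimit.ι (localCohomology.diagram (localCohomology.idealPowersDiagram I) i) (op (op n))).app M).hom

/-- The indexing morphism `n → m`. -/
def idx {n m : ℕ} (h : n ≤ m) : (op (op n) : (ℕᵒᵖ)ᵒᵖ) ⟶ op (op m) := (homOfLE h).op.op

theorem diagram_idx {n m : ℕ} (h : n ≤ m) :
    ((localCohomology.diagram (localCohomology.idealPowersDiagram I) i).map (idx h)).app M =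
      ((Ext R (ModuleCat.{u} R) i).map (proj I h).op).app M := rfl

theorem ι_proj {n m : ℕ} (h : n ≤ m) (x : Abelian.Ext (Q I n) M i) :
    ι I i M m ((Abelian.Ext.mk₀ (proj I h)).comp x (zero_add i)) = ι I i M n x := by
  have h1 := NatTrans.congr_app ((extNatIso R i).inv.naturality (proj I h).op) M
  have h2 := NatTrans.congr_app
    (colimit.w (localCohomology.diagram (localCohomology.idealPowersDiagram I) i) (idx h)) M
  have h3 : ((extMod R i).map (proj I h).op).app M ≫
      (((extNatIso R i).inv.app (op (Q I m))).app M ≫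
        (colimit.ι (localCohomology.diagram (localCohomology.idealPowersDiagram I) i) (op (op m))).app M) =
      ((extNatIso R i).inv.app (op (Q I n))).app M ≫
        (colimit.ι (localCohomology.diagram (localCohomology.idealPowersDiagram I) i) (op (op n))).app M := by
    exact (Category.assoc _ _ _).symm.trans ((congrArg (· ≫ _) h1).trans
      ((Category.assoc _ _ _).trans (congrArg (_ ≫ ·) h2)))
  exact LinearMap.congr_fun (congrArg ModuleCat.Hom.hom h3) x

theorem map_ι {M N : ModuleCat.{u} R} (f : M ⟶ N) (n : ℕ) (x : Abelian.Ext (Q I n) M i) :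
    ((localCohomology I i).map f).hom (ι I i M n x) =
      ι I i N n (x.comp (Abelian.Ext.mk₀ f) (add_zero i)) := by
  have h1 := ((extNatIso R i).inv.app (op (Q I n))).naturality f
  have h2 := (colimit.ι (localCohomology.diagram (localCohomology.idealPowersDiagram I) i)
    (op (op n))).naturality f
  have h3 : ((extMod R i).obj (op (Q I n))).map f ≫
      (((extNatIso R i).inv.app (op (Q I n))).app N ≫
        (colimit.ι (localCohomology.diagram (localCohomology.idealPowersDiagram I) i) (op (op n))).app N) =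
      (((extNatIso R i).inv.app (op (Q I n))).app M ≫
        (colimit.ι (localCohomology.diagram (localCohomology.idealPowersDiagram I) i) (op (op n))).app M) ≫
        (localCohomology I i).map f := by
    exact (Category.assoc _ _ _).symm.trans ((congrArg (· ≫ _) h1).trans
      ((Category.assoc _ _ _).trans ((congrArg (_ ≫ ·) h2).trans (Category.assoc _ _ _).symm)))
  exact (LinearMap.congr_fun (congrArg ModuleCat.Hom.hom h3) x).symm

/-- The cocone in modules. -/
abbrev evalDiagram : (ℕᵒᵖ)ᵒᵖ ⥤ ModuleCat.{u} R :=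
  localCohomology.diagram (localCohomology.idealPowersDiagram I) i ⋙ (evaluation _ _).obj M

/-- `Ext` on the derived side. -/
def toNew (n : ℕ) : (evalDiagram I i M).obj (op (op n)) ⟶ ModuleCat.of R (Abelian.Ext (Q I n) M i) :=
  ((extNatIso R i).hom.app (op (Q I n))).app M

/-- Comparison with the evaluated colimit. -/
def objIso : (localCohomology I i).obj M ≅ colimit (evalDiagram I i M) :=
  colimitObjIsoColimitCompEvaluation _ _

theorem ι_toNew (n : ℕ) (z : (evalDiagram I i M).obj (op (op n))) :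
    ι I i M n ((toNew I i M n).hom z) =
      (objIso I i M).inv.hom ((colimit.ι (evalDiagram I i M) (op (op n))).hom z) := by
  have h1 : toNew I i M n ≫ (((extNatIso R i).inv.app (op (Q I n))).app M ≫
      (colimit.ι (localCohomology.diagram (localCohomology.idealPowersDiagram I) i) (op (op n))).app M) =
      colimit.ι (evalDiagram I i M) (op (op n)) ≫ (objIso I i M).inv := by
    have h0 : (((extNatIso R i).hom.app (op (Q I n))).app M) ≫
        ((extNatIso R i).inv.app (op (Q I n))).app M = 𝟙 _ :=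
      NatTrans.congr_app (NatTrans.congr_app (extNatIso R i).hom_inv_id (op (Q I n))) M
    exact (Category.assoc _ _ _).symm.trans ((congrArg (· ≫ _) h0).trans ((Category.id_comp _).trans
      (colimitObjIsoColimitCompEvaluation_ι_inv _ _ _).symm))
  exact LinearMap.congr_fun (congrArg ModuleCat.Hom.hom h1) z

instance : PreservesFilteredColimitsOfSize.{0, 0} (forget (ModuleCat.{u} R)) :=
  preservesSmallestFilteredColimits_of_preservesFilteredColimits.{u, u} _

theorem toNew_bijective (n : ℕ) : Function.Bijective (toNew I i M n).hom :=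
  (((extNatIso R i).app (op (Q I n))).app M).toLinearEquiv.bijective

theorem exists_ι (x : (localCohomology I i).obj M) : ∃ n y, ι I i M n y = x := by
  obtain ⟨⟨⟨n⟩⟩, z, hz⟩ := Concrete.colimit_exists_rep (evalDiagram I i M) ((objIso I i M).hom.hom x)
  refine ⟨n, (toNew I i M n).hom z, ?_⟩
  rw [ι_toNew]
  refine (congrArg (objIso I i M).inv.hom hz).trans ?_
  exact Iso.hom_inv_id_apply (objIso I i M) x

theorem ι_eq_zero_iff {n : ℕ} (x : Abelian.Ext (Q I n) M i) :
    ι I i M n x = 0 ↔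
      ∃ (m : ℕ) (h : n ≤ m), (Abelian.Ext.mk₀ (proj I h)).comp x (zero_add i) = 0 := by
  refine ⟨fun h0 => ?_, fun ⟨m, h, h0⟩ => by rw [← ι_proj I i M h, h0, map_zero]⟩
  obtain ⟨z, rfl⟩ := (toNew_bijective I i M n).2 x
  rw [ι_toNew] at h0
  have h1 : (colimit.ι (evalDiagram I i M) (op (op n))).hom z =
      (colimit.ι (evalDiagram I i M) (op (op n))).hom 0 := by
    rw [map_zero]
    refine (ModuleCat.mono_iff_injective (objIso I i M).inv).1 inferInstance ?_
    rw [map_zero]; exact h0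
  obtain ⟨⟨⟨m⟩⟩, f, g, hfg⟩ := Concrete.colimit_exists_of_rep_eq _ _ _ h1
  have hnm : n ≤ m := leOfHom f.unop.unop
  have hf : f = idx hnm := Quiver.Hom.unop_inj (Quiver.Hom.unop_inj (Subsingleton.elim _ _))
  refine ⟨m, hnm, ?_⟩
  subst hf
  have h4 := LinearMap.congr_fun (congrArg ModuleCat.Hom.hom
    (NatTrans.congr_app ((extNatIso R i).hom.naturality (proj I hnm).op) M)) z
  refine h4.symm.trans ?_
  change (((extNatIso R i).hom.app (op (Q I m))).app M).hom
    (((evalDiagram I i M).map (idx hnm)).hom z) = 0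
  rw [show ((evalDiagram I i M).map (idx hnm)).hom z = 0 from hfg.trans (map_zero _)]
  exact map_zero _

theorem exists_ι_le (x : (localCohomology I i).obj M) (n₀ : ℕ) :
    ∃ n, n₀ ≤ n ∧ ∃ y, ι I i M n y = x := by
  obtain ⟨n, y, rfl⟩ := exists_ι I i M x
  exact ⟨max n n₀, le_max_right _ _, _, ι_proj I i M (le_max_left n n₀) y⟩

theorem smul_ext_eq_comp {X Y : ModuleCat.{u} R} (r : R) (α : Abelian.Ext X Y i) :
    r • α = (Abelian.Ext.mk₀ (r • 𝟙 X)).comp α (zero_add i) := by
  rw [Abelian.Ext.mk₀_smul, Abelian.Ext.smul_comp, Abelian.Ext.mk₀_id_comp]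

theorem smul_ι_eq_zero {n : ℕ} (y : Abelian.Ext (Q I n) M i) {r : R} (hr : r ∈ I ^ n) :
    r • ι I i M n y = 0 := by
  have h : r • 𝟙 (Q I n) = 0 := by
    ext
    change r • Submodule.Quotient.mk (1 : R) = (0 : R ⧸ I ^ n)
    rw [← Submodule.Quotient.mk_smul, Submodule.Quotient.mk_eq_zero, smul_eq_mul, mul_one]
    exact hr
  rw [← map_smul, smul_ext_eq_comp i r y, h, Abelian.Ext.mk₀_zero, Abelian.Ext.zero_comp, map_zero]

theorem isPowerTorsion (M : Type u) [AddCommGroup M] [Module R M] :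
    LocCoh.IsPowerTorsion I (LocCoh.H I i M) := fun x => by
  obtain ⟨n, y, rfl⟩ := exists_ι I i (ModuleCat.of R M) x
  exact ⟨n, fun r hr => smul_ι_eq_zero I i _ y hr⟩

theorem subsingleton_of_eventually (N : ℕ)
    (h : ∀ n, N ≤ n → Subsingleton (Abelian.Ext (Q I n) M i)) :
    Subsingleton ((localCohomology I i).obj M) := by
  refine subsingleton_of_forall_eq 0 fun x => ?_
  obtain ⟨n, hn, y, rfl⟩ := exists_ι_le I i M x N
  have := h n hn
  rw [Subsingleton.elim y 0, map_zero]

theorem subsingleton_succ_of_injective [Injective M] :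
    Subsingleton ((localCohomology I (i + 1)).obj M) :=
  subsingleton_of_eventually I (i + 1) M 0 fun _ _ =>
    subsingleton_of_forall_eq 0 fun e => Abelian.Ext.eq_zero_of_injective e

section LongExact

variable {S : ShortComplex (ModuleCat.{u} R)} (hS : S.ShortExact)

/-- Representatives of the connecting map. -/
def δpre (n : ℕ) : Abelian.Ext (Q I n) S.X₃ i →ₗ[R] (localCohomology I (i + 1)).obj S.X₁ :=
  ι I (i + 1) S.X₁ n ∘ₗ hS.extClass.postcompOfLinear R (Q I n) rfl

theorem δpre_proj {n m : ℕ} (h : n ≤ m) (x : Abelian.Ext (Q I n) S.X₃ i) :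
    δpre I i hS m ((Abelian.Ext.mk₀ (proj I h)).comp x (zero_add i)) = δpre I i hS n x := by
  change ι I (i + 1) S.X₁ m (((Abelian.Ext.mk₀ (proj I h)).comp x (zero_add i)).comp hS.extClass rfl) =
    ι I (i + 1) S.X₁ n (x.comp hS.extClass rfl)
  rw [Abelian.Ext.comp_assoc _ _ _ (zero_add i) rfl (by omega), ι_proj]

theorem δpre_eq_of_ι_eq {n m : ℕ} (x : Abelian.Ext (Q I n) S.X₃ i) (y : Abelian.Ext (Q I m) S.X₃ i)
    (h : ι I i S.X₃ n x = ι I i S.X₃ m y) : δpre I i hS n x = δpre I i hS m y := by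
  rw [← δpre_proj I i hS (le_max_left n m), ← δpre_proj I i hS (le_max_right n m) y, ← sub_eq_zero,
    ← map_sub]
  rw [← ι_proj I i S.X₃ (le_max_left n m), ← ι_proj I i S.X₃ (le_max_right n m) y, ← sub_eq_zero,
    ← map_sub, ι_eq_zero_iff] at h
  obtain ⟨k, hk, h0⟩ := h
  rw [← δpre_proj I i hS hk, h0, map_zero]

/-- The connecting map in local cohomology. -/
def δ : (localCohomology I i).obj S.X₃ →ₗ[R] (localCohomology I (i + 1)).obj S.X₁ where
  toFun x := δpre I i hS _ (exists_ι I i S.X₃ x).choose_spec.choose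
  map_add' x y := by
    obtain ⟨n, a, rfl⟩ := exists_ι I i S.X₃ x
    obtain ⟨m, b, rfl⟩ := exists_ι I i S.X₃ y
    rw [δpre_eq_of_ι_eq I i hS _ a (exists_ι I i S.X₃ (ι I i S.X₃ n a)).choose_spec.choose_spec,
      δpre_eq_of_ι_eq I i hS _ b (exists_ι I i S.X₃ (ι I i S.X₃ m b)).choose_spec.choose_spec,
      ← δpre_proj I i hS (le_max_left n m), ← δpre_proj I i hS (le_max_right n m) b, ← map_add]
    refine δpre_eq_of_ι_eq I i hS _ _ ?_
    rw [(exists_ι I i S.X₃ _).choose_spec.choose_spec, map_add, ι_proj, ι_proj]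
  map_smul' r x := by
    obtain ⟨n, a, rfl⟩ := exists_ι I i S.X₃ x
    rw [δpre_eq_of_ι_eq I i hS _ a (exists_ι I i S.X₃ (ι I i S.X₃ n a)).choose_spec.choose_spec,
      RingHom.id_apply, ← map_smul (δpre I i hS n)]
    refine δpre_eq_of_ι_eq I i hS _ _ ?_
    rw [(exists_ι I i S.X₃ _).choose_spec.choose_spec, map_smul]

theorem δ_ι (n : ℕ) (a : Abelian.Ext (Q I n) S.X₃ i) :
    δ I i hS (ι I i S.X₃ n a) = ι I (i + 1) S.X₁ n (a.comp hS.extClass rfl) :=
  δpre_eq_of_ι_eq I i hS _ a (exists_ι I i S.X₃ (ι I i S.X₃ n a)).choose_spec.choose_spec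

include hS in
theorem exact_map_map :
    Function.Exact ((localCohomology I i).map S.f).hom ((localCohomology I i).map S.g).hom := by
  intro x
  constructor
  · intro hx
    obtain ⟨n, y, rfl⟩ := exists_ι I i S.X₂ x
    rw [map_ι, ι_eq_zero_iff] at hx
    obtain ⟨m, h, h0⟩ := hx
    rw [← Abelian.Ext.comp_assoc_of_third_deg_zero] at h0
    obtain ⟨z, hz⟩ := Abelian.Ext.covariant_sequence_exact₂ _ hS _ h0
    exact ⟨ι I i S.X₁ m z, by rw [map_ι, hz, ι_proj]⟩
  · rintro ⟨y, rfl⟩
    rw [← LinearMap.comp_apply, ← ModuleCat.hom_comp, ← Functor.map_comp, S.zero]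
    obtain ⟨n, z, rfl⟩ := exists_ι I i S.X₁ y
    rw [map_ι, Abelian.Ext.mk₀_zero, Abelian.Ext.comp_zero, map_zero]

theorem exact_map_δ :
    Function.Exact ((localCohomology I i).map S.g).hom (δ I i hS) := by
  intro x
  constructor
  · intro hx
    obtain ⟨n, y, rfl⟩ := exists_ι I i S.X₃ x
    rw [δ_ι, ι_eq_zero_iff] at hx
    obtain ⟨m, h, h0⟩ := hx
    rw [← Abelian.Ext.comp_assoc _ _ _ (zero_add i) rfl (by omega)] at h0
    obtain ⟨z, hz⟩ := Abelian.Ext.covariant_sequence_exact₃ _ hS _ rfl h0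
    exact ⟨ι I i S.X₂ m z, by rw [map_ι, hz, ι_proj]⟩
  · rintro ⟨y, rfl⟩
    obtain ⟨n, z, rfl⟩ := exists_ι I i S.X₂ y
    rw [map_ι, δ_ι, Abelian.Ext.comp_assoc_of_second_deg_zero, ShortComplex.ShortExact.comp_extClass,
      Abelian.Ext.comp_zero, map_zero]

theorem exact_δ_map :
    Function.Exact (δ I i hS) ((localCohomology I (i + 1)).map S.f).hom := by
  intro x
  constructor
  · intro hx
    obtain ⟨n, y, rfl⟩ := exists_ι I (i + 1) S.X₁ x
    rw [map_ι, ι_eq_zero_iff] at hx
    obtain ⟨m, h, h0⟩ := hx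
    rw [← Abelian.Ext.comp_assoc_of_third_deg_zero] at h0
    obtain ⟨z, hz⟩ := Abelian.Ext.covariant_sequence_exact₁ _ hS _ h0 rfl
    exact ⟨ι I i S.X₃ m z, by rw [δ_ι, hz, ι_proj]⟩
  · rintro ⟨y, rfl⟩
    obtain ⟨n, z, rfl⟩ := exists_ι I i S.X₃ y
    rw [δ_ι, map_ι, Abelian.Ext.comp_assoc_of_third_deg_zero, ShortComplex.ShortExact.extClass_comp,
      Abelian.Ext.comp_zero, map_zero]

include hS in
theorem injective_map_f_zero :
    Function.Injective ((localCohomology I 0).map S.f).hom := by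
  rw [injective_iff_map_eq_zero]
  intro x hx
  obtain ⟨n, y, rfl⟩ := exists_ι I 0 S.X₁ x
  rw [map_ι, ι_eq_zero_iff] at hx
  obtain ⟨m, h, h0⟩ := hx
  refine (ι_eq_zero_iff I 0 S.X₁ y).2 ⟨m, h, ?_⟩
  rw [← Abelian.Ext.comp_assoc_of_third_deg_zero] at h0
  have := hS.mono_f
  exact Abelian.Ext.postcomp_mk₀_injective_of_mono _ S.f (h0.trans (by simp))

end LongExact

section Zero

variable (M : Type u) [AddCommGroup M] [Module R M]

/-- `Hom(R ⧸ I ^ n, M) → M`. -/
def evalOne (n : ℕ) : Abelian.Ext (Q I n) (ModuleCat.of R M) 0 →ₗ[R] M where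
  toFun x := (Abelian.Ext.addEquiv₀ x : Q I n ⟶ ModuleCat.of R M).hom (Submodule.Quotient.mk 1)
  map_add' x y := by rw [map_add]; rfl
  map_smul' r x := by
    rw [show Abelian.Ext.addEquiv₀ (r • x) = r • Abelian.Ext.addEquiv₀ x from
      (Abelian.Ext.linearEquiv₀ (R := R)).map_smul r x]
    rfl

theorem evalOne_injective (n : ℕ) : Function.Injective (evalOne I M n) := by
  intro x y h
  apply Abelian.Ext.addEquiv₀.injective
  apply ModuleCat.hom_ext
  refine Submodule.linearMap_qext _ (LinearMap.ext_ring ?_)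
  exact h

theorem evalOne_proj {n m : ℕ} (h : n ≤ m) (x : Abelian.Ext (Q I n) (ModuleCat.of R M) 0) :
    evalOne I M m ((Abelian.Ext.mk₀ (proj I h)).comp x (zero_add 0)) = evalOne I M n x := by
  obtain ⟨g, rfl⟩ := (Abelian.Ext.mk₀_bijective _ _).2 x
  change (Abelian.Ext.addEquiv₀ _ : Q I m ⟶ ModuleCat.of R M).hom _ = (Abelian.Ext.addEquiv₀ _ : Q I n ⟶ ModuleCat.of R M).hom _
  rw [Abelian.Ext.mk₀_comp_mk₀]
  rw [show ∀ {X Y : ModuleCat.{u} R} (f : X ⟶ Y), Abelian.Ext.addEquiv₀ (Abelian.Ext.mk₀ f) = f from fun f => Abelian.Ext.addEquiv₀.apply_symm_apply f]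
  rw [show ∀ {X Y : ModuleCat.{u} R} (f : X ⟶ Y), Abelian.Ext.addEquiv₀ (Abelian.Ext.mk₀ f) = f from fun f => Abelian.Ext.addEquiv₀.apply_symm_apply f]
  rfl

theorem evalOne_eq {n m : ℕ} (x : Abelian.Ext (Q I n) (ModuleCat.of R M) 0)
    (y : Abelian.Ext (Q I m) (ModuleCat.of R M) 0)
    (h : ι I 0 (ModuleCat.of R M) n x = ι I 0 (ModuleCat.of R M) m y) :
    evalOne I M n x = evalOne I M m y := by
  rw [← evalOne_proj I M (le_max_left n m), ← evalOne_proj I M (le_max_right n m) y]
  rw [← ι_proj I 0 _ (le_max_left n m), ← ι_proj I 0 _ (le_max_right n m) y, ← sub_eq_zero,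
    ← map_sub, ι_eq_zero_iff] at h
  obtain ⟨k, hk, h0⟩ := h
  rw [← sub_eq_zero, ← map_sub, ← evalOne_proj I M hk, h0, map_zero]

/-- `H^0_I(M) → M`. -/
def zeroMap : LocCoh.H I 0 M →ₗ[R] M where
  toFun x := evalOne I M _ (exists_ι I 0 (ModuleCat.of R M) x).choose_spec.choose
  map_add' x y := by
    obtain ⟨n, a, rfl⟩ := exists_ι I 0 _ x
    obtain ⟨m, b, rfl⟩ := exists_ι I 0 _ y
    rw [evalOne_eq I M _ a (exists_ι I 0 _ (ι I 0 _ n a)).choose_spec.choose_spec,
      evalOne_eq I M _ b (exists_ι I 0 _ (ι I 0 _ m b)).choose_spec.choose_spec,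
      ← evalOne_proj I M (le_max_left n m), ← evalOne_proj I M (le_max_right n m) b, ← map_add]
    refine evalOne_eq I M _ _ ?_
    rw [(exists_ι I 0 _ _).choose_spec.choose_spec, map_add, ι_proj, ι_proj]
  map_smul' r x := by
    obtain ⟨n, a, rfl⟩ := exists_ι I 0 _ x
    rw [evalOne_eq I M _ a (exists_ι I 0 _ (ι I 0 _ n a)).choose_spec.choose_spec,
      RingHom.id_apply, ← map_smul (evalOne I M n)]
    refine evalOne_eq I M _ _ ?_
    rw [(exists_ι I 0 _ _).choose_spec.choose_spec, map_smul]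

end Zero

end Groth.Agent.LocCohLib
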