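import Groth.Agent.Lib.LocCoh.Basic
import Groth.Agent.Lib.Depth.Devissage

/-!
# Vanishing of local cohomology in low degrees and vanishing of `Ext`
-/

universe u

open CategoryTheory Abelian

noncomputable section

namespace Groth.Agent.LocCohLib

variable {R : Type u} [CommRing R] (I : Ideal R) [IsNoetherianRing R]
variable (G : ModuleCat.{u} R)

omit [IsNoetherianRing R] in
theorem proj_surjective {n m : ℕ} (h : n ≤ m) : Function.Surjective (proj I h).hom := by
  intro y
  obtain ⟨x, rfl⟩ := Submodule.Quotient.mk_surjective (I ^ n) y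
  exact ⟨Submodule.Quotient.mk x, rfl⟩

omit [IsNoetherianRing R] in
theorem support_Q_subset (n : ℕ) : Module.support R (Q I n) ⊆ PrimeSpectrum.zeroLocus I := by
  intro p hp
  rw [Module.support_eq_zeroLocus, Ideal.annihilator_quotient] at hp
  exact p.isPrime.le_of_pow_le hp

/-- `Ext^i(R ⧸ I ^ n, G) → H^i_I(G)` is injective when lower `Ext` vanish on `V(I)`. -/
theorem ι_injective_of_ext_vanishing (i : ℕ)
    (h : ∀ j, j + 1 = i → ∀ (N : Type u) [AddCommGroup N] [Module R N] [Module.Finite R N],
      Module.support R N ⊆ PrimeSpectrum.zeroLocus I → Subsingleton (Ext (ModuleCat.of R N) G j))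
    (n : ℕ) : Function.Injective (ι I i G n) := by
  rw [injective_iff_map_eq_zero]
  intro x hx
  obtain ⟨m, hnm, hm⟩ := (ι_eq_zero_iff I i G x).1 hx
  refine DepthLib.eq_zero_of_mk₀_comp_eq_zero (proj I hnm) (proj_surjective I hnm) x
    (fun j hj => ?_) hm
  exact h j hj _ ((Module.support_subset_of_injective _
    (LinearMap.ker (proj I hnm).hom).injective_subtype).trans (support_Q_subset I m))

/-- Low local cohomology vanishes iff low `Ext` from all finite modules on `V(I)` vanish. -/
theorem vanishing_below_iff (n : ℕ) :
    (∀ i < n, Subsingleton ((localCohomology I i).obj G)) ↔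
      ∀ (N : Type u) [AddCommGroup N] [Module R N] [Module.Finite R N],
        Module.support R N ⊆ PrimeSpectrum.zeroLocus I →
          ∀ i < n, Subsingleton (Ext (ModuleCat.of R N) G i) := by
  constructor
  · intro h
    induction n with
    | zero => exact fun _ _ _ _ _ i hi => absurd hi (Nat.not_lt_zero i)
    | succ n ih =>
      have hlow := ih fun i hi => h i (hi.trans (Nat.lt_succ_self n))
      intro N _ _ _ hN i hi
      refine DepthLib.subsingleton_ext_of_support_subset (Q I 1) ?_ i hi N ?_
      · intro j hj
        rcases Nat.lt_succ_iff_lt_or_eq.1 hj with hj | rfl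
        · exact hlow _ (support_Q_subset I 1) j hj
        · have := h j (Nat.lt_succ_self j)
          refine ⟨fun x y => ι_injective_of_ext_vanishing I G j ?_ 1 (Subsingleton.elim _ _)⟩
          intro k hk L _ _ _ hL
          exact hlow L hL k (by omega)
      · rw [Module.support_eq_zeroLocus (M := Q I 1), Ideal.annihilator_quotient, pow_one]
        exact hN
  · intro h i hi
    refine subsingleton_of_forall_eq 0 fun x => ?_
    obtain ⟨m, y, rfl⟩ := exists_ι I i G x
    rw [(h (Q I m) (support_Q_subset I m) i hi).elim y 0, map_zero]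

/-- It is enough to test on one finite module with support `V(I)`. -/
theorem vanishing_below_iff_of_support_eq (F : Type u) [AddCommGroup F] [Module R F]
    [Module.Finite R F] (hF : Module.support R F = PrimeSpectrum.zeroLocus I) (n : ℕ) :
    (∀ i < n, Subsingleton ((localCohomology I i).obj G)) ↔
      ∀ i < n, Subsingleton (Ext (ModuleCat.of R F) G i) := by
  rw [vanishing_below_iff]
  exact ⟨fun h => h F hF.le, fun h N _ _ _ hN i hi =>
    DepthLib.subsingleton_ext_of_support_subset F h i hi N (hN.trans hF.ge)⟩

end Groth.Agent.LocCohLib
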