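import Groth.Agent.Lib.LocCoh.Torsion
import Groth.Agent.Lib.LocCoh.Vanishing
import Mathlib.LinearAlgebra.Isomorphisms

/-!
# Working with the long exact sequence of local cohomology
-/

universe u

open CategoryTheory Opposite Limits Groth.Agent.InjHullLib

noncomputable section

namespace Groth.Agent.LocCohLib

variable {R : Type u} [CommRing R] (I : Ideal R)
variable {A B C : Type u} [AddCommGroup A] [Module R A] [AddCommGroup B] [Module R B]
  [AddCommGroup C] [Module R C]

/-- The map on local cohomology induced by a linear map. -/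
abbrev hmap (i : ℕ) (f : A →ₗ[R] B) : LocCoh.H I i A →ₗ[R] LocCoh.H I i B :=
  ((localCohomology I i).map (ModuleCat.ofHom f)).hom

theorem hmap_id (i : ℕ) : hmap I i (LinearMap.id : A →ₗ[R] A) = LinearMap.id := by
  unfold hmap
  rw [ModuleCat.ofHom_id, CategoryTheory.Functor.map_id]
  rfl

theorem hmap_comp (i : ℕ) (g : B →ₗ[R] C) (f : A →ₗ[R] B) :
    hmap I i (g ∘ₗ f) = hmap I i g ∘ₗ hmap I i f := by
  unfold hmap
  rw [ModuleCat.ofHom_comp, Functor.map_comp]
  rfl

theorem hmap_smul (i : ℕ) (r : R) (f : A →ₗ[R] B) : hmap I i (r • f) = r • hmap I i f := by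
  ext x
  obtain ⟨n, y, rfl⟩ := exists_ι I i _ x
  change ((localCohomology I i).map (r • ModuleCat.ofHom f)).hom (ι I i _ n y) =
    r • ((localCohomology I i).map (ModuleCat.ofHom f)).hom (ι I i _ n y)
  rw [map_ι, map_ι, ← map_smul, Abelian.Ext.mk₀_smul, Abelian.Ext.comp_smul]

/-- Linear equivalences act on local cohomology. -/
def hcongr (i : ℕ) (e : A ≃ₗ[R] B) : LocCoh.H I i A ≃ₗ[R] LocCoh.H I i B :=
  LinearEquiv.ofLinearMap (hmap I i e.toLinearMap) (hmap I i e.symm.toLinearMap)
    (by rw [← hmap_comp, e.comp_symm, hmap_id]) (by rw [← hmap_comp, e.symm_comp, hmap_id])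

variable {f : A →ₗ[R] B} {g : B →ₗ[R] C} (hf : Function.Injective f) (hg : Function.Surjective g)
  (hfg : Function.Exact f g)

include hf hg hfg in
theorem subsingleton_mid (i : ℕ) (hA : Subsingleton (LocCoh.H I i A))
    (hC : Subsingleton (LocCoh.H I i C)) : Subsingleton (LocCoh.H I i B) := by
  refine subsingleton_of_forall_eq 0 fun x => ?_
  obtain ⟨y, rfl⟩ := (exact_map_map I i (shortExact_mk f g hf hg hfg) x).1 (hC.elim _ _)
  exact (congrArg _ (hA.elim y 0)).trans (map_zero _)

include hf hg hfg in
theorem subsingleton_right (i : ℕ) (hB : Subsingleton (LocCoh.H I i B))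
    (hA : Subsingleton (LocCoh.H I (i + 1) A)) : Subsingleton (LocCoh.H I i C) := by
  refine subsingleton_of_forall_eq 0 fun x => ?_
  obtain ⟨y, rfl⟩ := (exact_map_δ I i (shortExact_mk f g hf hg hfg) x).1 (hA.elim _ _)
  exact (congrArg _ (hB.elim y 0)).trans (map_zero _)

include hf hg hfg in
theorem subsingleton_left (i : ℕ) (hC : Subsingleton (LocCoh.H I i C))
    (hB : Subsingleton (LocCoh.H I (i + 1) B)) : Subsingleton (LocCoh.H I (i + 1) A) := by
  refine subsingleton_of_forall_eq 0 fun x => ?_
  obtain ⟨y, rfl⟩ := (exact_δ_map I i (shortExact_mk f g hf hg hfg) x).1 (hB.elim _ _)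
  exact (congrArg _ (hC.elim y 0)).trans (map_zero _)

include hf hg hfg in
theorem hmap_g_surjective (i : ℕ) (hA : Subsingleton (LocCoh.H I (i + 1) A)) :
    Function.Surjective (hmap I i g) :=
  fun x => (exact_map_δ I i (shortExact_mk f g hf hg hfg) x).1 (hA.elim _ _)

include hf hg hfg in
theorem hmap_f_injective (i : ℕ) (hC : Subsingleton (LocCoh.H I i C)) :
    Function.Injective (hmap I (i + 1) f) := by
  rw [injective_iff_map_eq_zero]
  intro x hx
  obtain ⟨y, rfl⟩ := (exact_δ_map I i (shortExact_mk f g hf hg hfg) x).1 hx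
  exact (congrArg _ (hC.elim y 0)).trans (map_zero _)

include hf hg hfg in
theorem hmap_f_surjective (i : ℕ) (hC : Subsingleton (LocCoh.H I i C)) :
    Function.Surjective (hmap I i f) :=
  fun x => (exact_map_map I i (shortExact_mk f g hf hg hfg) x).1 (hC.elim _ _)

/-- The connecting isomorphism when the middle term is acyclic. -/
def δEquiv (i : ℕ) (h1 : Subsingleton (LocCoh.H I i B))
    (h2 : Subsingleton (LocCoh.H I (i + 1) B)) : LocCoh.H I i C ≃ₗ[R] LocCoh.H I (i + 1) A :=
  LinearEquiv.ofBijective (δ I i (shortExact_mk f g hf hg hfg)) (by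
    constructor
    · rw [injective_iff_map_eq_zero]
      intro x hx
      obtain ⟨y, rfl⟩ := (exact_map_δ I i (shortExact_mk f g hf hg hfg) x).1 hx
      exact (congrArg _ (h1.elim y 0)).trans (map_zero _)
    · exact fun x => (exact_δ_map I i (shortExact_mk f g hf hg hfg) x).1 (h2.elim _ _))

variable (g) in
/-- The image of the torsion of the middle term inside the torsion of the right term. -/
def torsImage : Submodule R (powTors I C) := ((powTors I B).map g).comap (powTors I C).subtype

theorem mem_torsImage (I : Ideal R) (c : powTors I C) :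
    c ∈ torsImage I g ↔ ∃ b ∈ powTors I B, g b = (c : C) := by
  rw [torsImage, Submodule.mem_comap, Submodule.mem_map, Submodule.subtype_apply]

include hf hg hfg in
/-- `H^1` of the left term is the cokernel on torsion. -/
theorem nonempty_h1Equiv (h : Subsingleton (LocCoh.H I 1 B)) :
    Nonempty ((powTors I C ⧸ torsImage I g) ≃ₗ[R] LocCoh.H I 1 A) := by
  have hS := shortExact_mk f g hf hg hfg
  let d : powTors I C →ₗ[R] LocCoh.H I 1 A := δ I 0 hS ∘ₗ (zeroEquiv I C).symm.toLinearMap
  have hd : Function.Surjective d := fun x => by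
    obtain ⟨y, hy⟩ := (exact_δ_map I 0 hS x).1 (h.elim _ _)
    exact ⟨zeroEquiv I C y, (congrArg (δ I 0 hS) ((zeroEquiv I C).symm_apply_apply y)).trans hy⟩
  have hker : LinearMap.ker d = torsImage I g := by
    ext c
    simp only [LinearMap.mem_ker, torsImage, Submodule.mem_comap, Submodule.mem_map,
      Submodule.coe_subtype, d]
    constructor
    · intro hc
      obtain ⟨y, hy⟩ := (exact_map_δ I 0 hS _).1 hc
      refine ⟨(zeroEquiv I B y : B), (zeroEquiv I B y).2, ?_⟩
      refine (zeroMap_natural I g y).symm.trans ?_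
      refine (congrArg (zeroMap I C) hy).trans ?_
      exact congrArg Subtype.val ((zeroEquiv I C).apply_symm_apply c)
    · rintro ⟨b, hb, hbc⟩
      refine (exact_map_δ I 0 hS _).2 ⟨(zeroEquiv I B).symm ⟨b, hb⟩, ?_⟩
      apply (zeroMap_injective I C)
      refine (zeroMap_natural I g _).trans ?_
      refine (congrArg g (congrArg Subtype.val ((zeroEquiv I B).apply_symm_apply ⟨b, hb⟩))).trans ?_
      exact hbc.trans (congrArg Subtype.val ((zeroEquiv I C).apply_symm_apply c)).symm
  exact ⟨(Submodule.quotEquivOfEq _ _ hker.symm).trans (d.quotKerEquivOfSurjective hd)⟩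

theorem subsingleton_zero_iff : Subsingleton (LocCoh.H I 0 A) ↔ powTors I A = ⊥ := by
  rw [(zeroEquiv I A).toEquiv.subsingleton_congr]
  exact ⟨fun _ => Submodule.eq_bot_of_subsingleton, fun h => by rw [h]; infer_instance⟩

theorem isPowerTorsion_powTors : LocCoh.IsPowerTorsion I (powTors I A) := fun x =>
  (mem_powTors_iff.1 x.2).imp fun _ hn r hr => Subtype.ext (hn r hr)

variable (A) in
/-- Every module embeds in an injective one, with acyclicity recorded. -/
theorem exists_injective_extension :
    ∃ (E : Type u) (_ : AddCommGroup E) (_ : Module R E) (f : A →ₗ[R] E),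
      Module.Injective R E ∧ Function.Injective f ∧
        ∀ (K : Ideal R) (i : ℕ), Subsingleton (LocCoh.H K (i + 1) E) := by
  obtain ⟨E, _, _, f, hE, hf⟩ := exists_embedding_injective (R := R) A
  have := Module.injective_object_of_injective_module R E
  exact ⟨E, inferInstance, inferInstance, f, hE, hf, fun K i => subsingleton_succ_of_injective K i _⟩

end Groth.Agent.LocCohLib
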