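import Groth.Agent.Lib.LocCoh.HChange27
import Groth.Agent.Lib.Goren.GorenQuot27
import Groth.Agent.S0342
import Groth.Prelude.Def_SGA2

/-!
# Propagation of nonvanishing local cohomology along chains of primes

For a quotient of a regular ring, `H^m (M_p) ≠ 0` and `p ≤ q` give `H^{m + ht (q/p)} (M_q) ≠ 0`.
-/

set_option autoImplicit false

universe u

open CategoryTheory IsLocalRing Groth.Agent.InjHullLib

noncomputable section

namespace Groth.Agent.LocCohLib

variable {R A : Type u} [CommRing R] [IsRegularRing R] [CommRing A] [IsNoetherianRing A] (π : R →+* A)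
  (hπ : Function.Surjective π)

include hπ in
/-- Local rings of a quotient of a regular ring are quotients of Gorenstein local rings. -/
theorem exists_gorenstein_atPrime (q : Ideal A) [q.IsPrime] :
    ∃ (S : Type u) (_ : CommRing S) (_ : LocCoh.IsGorensteinLocalRing S) (_ : Algebra S (Localization.AtPrime q)),
      Function.Surjective (algebraMap S (Localization.AtPrime q)) := by
  haveI := Groth.Agent.S0342.result (Localization.AtPrime (q.comap π))
  let φ : Localization.AtPrime (q.comap π) →+* Localization.AtPrime q := Localization.localRingHom (q.comap π) q π rfl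
  refine ⟨Localization.AtPrime (q.comap π), inferInstance, inferInstance, φ.toAlgebra, fun y => ?_⟩
  obtain ⟨b, s, rfl⟩ := IsLocalization.exists_mk'_eq q.primeCompl y
  obtain ⟨a, rfl⟩ := hπ b
  obtain ⟨t, ht⟩ := hπ (s : A)
  refine ⟨IsLocalization.mk' _ a (⟨t, fun h => s.2 (ht ▸ h)⟩ : (q.comap π).primeCompl), ?_⟩
  change φ _ = _
  rw [Localization.localRingHom_mk']
  congr 1
  exact Subtype.ext ht

omit [IsRegularRing R] [IsNoetherianRing A] in
/-- The prime `p A_q` for `p ≤ q`. -/
theorem isPrime_map_atPrime {p q : PrimeSpectrum A} (hpq : p ≤ q) :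
    (p.asIdeal.map (algebraMap A (Localization.AtPrime q.asIdeal))).IsPrime ∧
      (p.asIdeal.map (algebraMap A (Localization.AtPrime q.asIdeal))).comap (algebraMap A (Localization.AtPrime q.asIdeal)) =
        p.asIdeal := by
  have hd : Disjoint (q.asIdeal.primeCompl : Set A) (p.asIdeal : Set A) :=
    Set.disjoint_left.2 fun x hx hx' => hx (hpq hx')
  exact ⟨IsLocalization.isPrime_of_isPrime_disjoint _ _ _ p.2 hd, IsLocalization.under_map_of_isPrime_disjoint _ _ p.2 hd⟩

omit [IsRegularRing R] [IsNoetherianRing A] in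
theorem ringKrullDim_quotient_atPrime {p q : PrimeSpectrum A} (hpq : p ≤ q) :
    ringKrullDim (Localization.AtPrime q.asIdeal ⧸ p.asIdeal.map (algebraMap A (Localization.AtPrime q.asIdeal))) =
      Order.krullDim (Set.Icc p q) := by
  obtain ⟨hP, hc⟩ := isPrime_map_atPrime hpq
  rw [ringKrullDim_quotient]
  let e := IsLocalization.AtPrime.primeSpectrumOrderIso (Localization.AtPrime q.asIdeal) q.asIdeal
  have he : ∀ Q, (e Q : PrimeSpectrum A) = PrimeSpectrum.comap (algebraMap A (Localization.AtPrime q.asIdeal)) Q :=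
    fun Q => rfl
  have hmem : ∀ Q : PrimeSpectrum (Localization.AtPrime q.asIdeal),
      Q ∈ PrimeSpectrum.zeroLocus (p.asIdeal.map (algebraMap A (Localization.AtPrime q.asIdeal)) : Set _) ↔
        p ≤ (e Q : PrimeSpectrum A) := fun Q => by
    rw [PrimeSpectrum.mem_zeroLocus, SetLike.coe_subset_coe, Ideal.map_le_iff_le_comap, he]
    exact Iff.rfl
  exact Order.krullDim_eq_of_orderIso
    { toFun := fun Q => ⟨(e Q.1).1, (hmem Q.1).1 Q.2, (e Q.1).2⟩
      invFun := fun x => ⟨e.symm ⟨x.1, x.2.2⟩, (hmem _).2 (by rw [OrderIso.apply_symm_apply]; exact x.2.1)⟩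
      left_inv := fun Q => Subtype.ext (e.symm_apply_apply Q.1)
      right_inv := fun x => Subtype.ext (show (e (e.symm ⟨x.1, x.2.2⟩) : PrimeSpectrum A) = x.1 by rw [OrderIso.apply_symm_apply])
      map_rel_iff' := fun {a b} => e.map_rel_iff' }

omit [IsRegularRing R] [IsNoetherianRing A] in
theorem height_Ici_eq {p q : PrimeSpectrum A} (hpq : p ≤ q) :
    ((Order.height (⟨q, hpq⟩ : Set.Ici p) : ℕ∞) : WithBot ℕ∞) = Order.krullDim (Set.Icc p q) := by
  rw [Order.height_eq_krullDim_Iic]
  exact Order.krullDim_eq_of_orderIso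
    { toFun := fun x => ⟨x.1.1, x.1.2, x.2⟩
      invFun := fun x => ⟨⟨x.1, x.2.1⟩, x.2.2⟩
      left_inv := fun _ => rfl
      right_inv := fun _ => rfl
      map_rel_iff' := Iff.rfl }

variable (M : Type u) [AddCommGroup M] [Module A M] [Module.Finite A M]

include hπ in
/-- Vanishing propagates down a chain of primes. -/
theorem subsingleton_H_shift {p q : PrimeSpectrum A} (hpq : p ≤ q) {h m : ℕ}
    (hh : Order.height (⟨q, hpq⟩ : Set.Ici p) = h)
    (hq : Subsingleton (LocCoh.H (maximalIdeal (Localization.AtPrime q.asIdeal)) (m + h) (LocalizedModule q.asIdeal.primeCompl M))) :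
    Subsingleton (LocCoh.H (maximalIdeal (Localization.AtPrime p.asIdeal)) m (LocalizedModule p.asIdeal.primeCompl M)) := by
  obtain ⟨S, _, _, _, hs⟩ := exists_gorenstein_atPrime π hπ q.asIdeal
  let B := Localization.AtPrime q.asIdeal
  let N := LocalizedModule q.asIdeal.primeCompl M
  letI : Module S N := Module.compHom N (algebraMap S B)
  haveI : IsScalarTower S B N := IsScalarTower.of_algebraMap_smul fun _ _ => rfl
  obtain ⟨hP, hc⟩ := isPrime_map_atPrime hpq
  have hd : ringKrullDim (B ⧸ p.asIdeal.map (algebraMap A B)) = h := by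
    rw [ringKrullDim_quotient_atPrime hpq, ← height_Ici_eq hpq, hh]; rfl
  have htop : (⊤ : Ideal B) ≤ (Module.annihilator B (LocCoh.H (maximalIdeal B) (m + h) N)).radical := by
    rw [Module.annihilator_eq_top_iff.2 hq, Ideal.radical_top]
  have h1 := (GorenLib.le_radical_annihilator_H_quot_iff hs N ⊤ (m + h)).1 htop (p.asIdeal.map (algebraMap A B))
    (fun hle => hP.ne_top (top_le_iff.1 hle)) h m hd rfl
  refine (subsingleton_H_of_change (R := A) (S := B) (p.asIdeal.map (algebraMap A B)) p.asIdeal hc.symm (fun x => ?_)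
    (LocalizedModule.mkLinearMap q.asIdeal.primeCompl M) (fun n => ?_) (fun z hz => ?_) m).2 h1
  · obtain ⟨a, s, rfl⟩ := IsLocalization.exists_mk'_eq q.asIdeal.primeCompl x
    exact ⟨s, fun h => s.2 (hpq h), a, IsLocalization.mk'_spec' _ a s⟩
  · obtain ⟨⟨z, s⟩, hz⟩ := IsLocalizedModule.surj q.asIdeal.primeCompl (LocalizedModule.mkLinearMap q.asIdeal.primeCompl M) n
    exact ⟨s, fun h => s.2 (hpq h), z, hz⟩
  · obtain ⟨s, hs'⟩ := (IsLocalizedModule.eq_zero_iff q.asIdeal.primeCompl (LocalizedModule.mkLinearMap q.asIdeal.primeCompl M)).1 hz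
    exact ⟨s, fun h => s.2 (hpq h), hs'⟩

end Groth.Agent.LocCohLib
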