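import Groth.Agent.Lib.LocCoh.FaltingsQuot27
import Groth.Agent.Lib.LocCoh.ChainShift27
import Groth.Agent.Lib.Goren.CMHeight27

/-!
# Finiteness for modules Cohen–Macaulay off the support ideal
-/

set_option autoImplicit false
universe u

open CategoryTheory IsLocalRing

noncomputable section

namespace Groth.Agent.LocCohLib

/-- In a regular ring heights are additive. -/
theorem height_add_quotient_eq {S : Type u} [CommRing S] [IsRegularRing S] (p q : PrimeSpectrum S) (hpq : p ≤ q) :
    p.asIdeal.height + (q.asIdeal.map (Ideal.Quotient.mk p.asIdeal)).height = q.asIdeal.height := by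
  let L := Localization.AtPrime q.asIdeal
  haveI : LocCoh.IsCohenMacaulayLocalRing L := DepthLib.isCohenMacaulayLocalRing_of_isRegularLocalRing
  obtain ⟨hP, hc⟩ := isPrime_map_atPrime hpq
  have h := GorenLib.ringKrullDim_eq_quotient_add_height (p.asIdeal.map (algebraMap S L)) hP.ne_top
  rw [IsLocalization.AtPrime.ringKrullDim_eq_height q.asIdeal, ringKrullDim_quotient_atPrime hpq,
    ← height_map_quotient p q hpq, ← WithBot.coe_add, WithBot.coe_inj,
    ← IsLocalization.height_comap q.asIdeal.primeCompl (p.asIdeal.map (algebraMap S L)), show Ideal.under S (p.asIdeal.map (algebraMap S L)) = p.asIdeal from hc,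
    add_comm] at h
  exact h.symm

/-- Quotients of regular rings are catenary, in the form of additivity of relative heights. -/
theorem height_quotient_add {S A : Type u} [CommRing S] [IsRegularRing S] [CommRing A] (π : S →+* A)
    (hπ : Function.Surjective π) (p₀ p q : PrimeSpectrum A) (h₀ : p₀ ≤ p) (hpq : p ≤ q) :
    (q.asIdeal.map (Ideal.Quotient.mk p₀.asIdeal)).height =
      (p.asIdeal.map (Ideal.Quotient.mk p₀.asIdeal)).height + (q.asIdeal.map (Ideal.Quotient.mk p.asIdeal)).height := by
  letI : Algebra S A := π.toAlgebra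
  have key : ∀ P Q : PrimeSpectrum A, P ≤ Q →
      (Q.asIdeal.comap π).height = (P.asIdeal.comap π).height + (Q.asIdeal.map (Ideal.Quotient.mk P.asIdeal)).height := by
    intro P Q h
    rw [← height_quotient_eq (R := S) (fun I => Ideal.map_comap_of_surjective _ hπ I) P Q h fun x hx _ => by
      have hk : RingHom.ker π ≤ x.asIdeal := le_trans (fun z hz => by
        show π z ∈ P.asIdeal
        rw [RingHom.mem_ker.1 hz]; exact zero_mem _) hx
      exact ⟨⟨x.asIdeal.map π, Ideal.map_isPrime_of_surjective hπ hk⟩, PrimeSpectrum.ext (by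
        show (x.asIdeal.map π).comap π = _
        rw [Ideal.comap_map_of_surjective _ hπ, ← RingHom.ker_eq_comap_bot, sup_of_le_left hk])⟩]
    exact (height_add_quotient_eq (PrimeSpectrum.comap π P) (PrimeSpectrum.comap π Q) (Ideal.comap_mono h)).symm
  have h1 := key p₀ q (h₀.trans hpq)
  rw [key p q hpq, key p₀ p h₀, add_assoc] at h1
  haveI : IsNoetherianRing S := inferInstance
  exact ((ENat.addLECancellable_of_ne_top (Ideal.height_lt_top (Ideal.IsPrime.ne_top
    (Ideal.IsPrime.comap π (hK := p₀.isPrime)))).ne).inj.1 h1).symm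

variable {A : Type u} [CommRing A] [IsNoetherianRing A] {M : Type u} [AddCommGroup M] [Module A M] [Module.Finite A M]

theorem map_mem_associatedPrimes_atPrime {p₀ p : PrimeSpectrum A} (h : p₀ ≤ p)
    (hass : p₀.asIdeal ∈ associatedPrimes A M) :
    p₀.asIdeal.map (algebraMap A (Localization.AtPrime p.asIdeal)) ∈
      associatedPrimes (Localization.AtPrime p.asIdeal) (LocalizedModule p.asIdeal.primeCompl M) := by
  refine Module.associatedPrimes.mem_associatedPrimes_of_comap_mem_associatedPrimes_of_isLocalizedModule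
    p.asIdeal.primeCompl (LocalizedModule.mkLinearMap p.asIdeal.primeCompl M) _ ?_
  rwa [(isPrime_map_atPrime h).2]

theorem depth_eq_zero_of_minimal (p : PrimeSpectrum A) (hp : p.asIdeal ∈ (Module.annihilator A M).minimalPrimes) :
    LocCoh.depth (Localization.AtPrime p.asIdeal) (LocalizedModule p.asIdeal.primeCompl M) = 0 := by
  have h1 := DepthLib.depth_le_of_mem_associatedPrimes (M := LocalizedModule p.asIdeal.primeCompl M)
    (Module.associatedPrimes.mem_associatedPrimes_atPrime_of_mem_associatedPrimes
      (Module.associatedPrimes.minimalPrimes_annihilator_subset_associatedPrimes A M hp))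
  rw [ringKrullDim_eq_zero_of_isField
    ((Ideal.Quotient.maximal_ideal_iff_isField_quotient _).1 inferInstance)] at h1
  exact nonpos_iff_eq_zero.1 (WithBot.coe_le_coe.1 h1)

theorem depth_eq_height_of_minimal (p₀ p : PrimeSpectrum A) (h : p₀ ≤ p)
    (hp₀ : p₀.asIdeal ∈ (Module.annihilator A M).minimalPrimes)
    (hCM : LocCoh.IsCohenMacaulayModule (Localization.AtPrime p.asIdeal) (LocalizedModule p.asIdeal.primeCompl M)) :
    LocCoh.depth (Localization.AtPrime p.asIdeal) (LocalizedModule p.asIdeal.primeCompl M) =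
      (p.asIdeal.map (Ideal.Quotient.mk p₀.asIdeal)).height := by
  have h1 := DepthLib.ringKrullDim_quotient_eq_of_mem_associatedPrimes hCM (map_mem_associatedPrimes_atPrime h
    (Module.associatedPrimes.minimalPrimes_annihilator_subset_associatedPrimes A M hp₀))
  rw [hCM, ringKrullDim_quotient_atPrime h, ← height_map_quotient p₀ p h] at h1
  exact (WithBot.coe_inj.1 h1).symm

/-- Finiteness up to degree `n` in terms of the codimensions of the components, for modules
Cohen–Macaulay off `V(I)`. -/
theorem finite_H_iff_relCodim {S : Type u} [CommRing S] [IsRegularRing S] (π : S →+* A)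
    (hπ : Function.Surjective π) (I : Ideal A) (hCM : ∀ p : PrimeSpectrum A, ¬ I ≤ p.asIdeal →
      Subsingleton (LocalizedModule p.asIdeal.primeCompl M) ∨
        LocCoh.IsCohenMacaulayModule (Localization.AtPrime p.asIdeal) (LocalizedModule p.asIdeal.primeCompl M))
    (n : ℕ) :
    (∀ i : ℕ, i ≤ n → Module.Finite A (LocCoh.H I i M)) ↔ ∀ p : PrimeSpectrum A, ¬ I ≤ p.asIdeal →
      p.asIdeal ∈ (Module.annihilator A M).minimalPrimes → (n : ℕ∞) < SGA2.relCodim I p := by
  constructor
  · intro hfin p hp hmin
    obtain ⟨J, hJ, hkill⟩ := (finite_iff_annihilated I M n).1 hfin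
    have hlow : ((n + 1 : ℕ) : ℕ∞) ≤ LocCoh.finDimRel I I M := le_iInf₂ fun i hi => by
      by_contra hlt
      refine hi (hJ.trans (Ideal.radical_mono fun a ha => Module.mem_annihilator.2 fun x => hkill i ?_ a ha x))
      have : i < n + 1 := by exact_mod_cast not_le.1 hlt
      omega
    have h1 := hlow.trans (finDimRel_le_adjDepth I I M p hp)
    rw [LocCoh.adjDepth, depth_eq_zero_of_minimal p hmin, zero_add] at h1
    refine lt_of_lt_of_le (by exact_mod_cast n.lt_succ_self) (le_iInf fun q => h1.trans ?_)
    refine (Ideal.height_mono (Ideal.map_mono (sup_le q.2.2 q.2.1))).trans ?_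
    exact (WithBot.coe_inj.1 ((height_map_quotient p q.1 q.2.1).trans (height_Ici_eq q.2.1).symm)).le
  · intro h
    refine (finite_H_iff_depth S A π hπ I M n).2 fun p q hp hq hpq => ?_
    by_cases hsupp : p ∈ Module.support A M
    · obtain ⟨p₀', hp₀, hle⟩ := Ideal.exists_minimalPrimes_le (Module.annihilator_le_of_mem_support hsupp)
      let p₀ : PrimeSpectrum A := ⟨p₀', hp₀.isPrime⟩
      have hCMp := (hCM p hp).resolve_left (not_subsingleton_iff_nontrivial.2 hsupp)
      rw [depth_eq_height_of_minimal p₀ p hle hp₀ hCMp]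
      have h0q : p₀ ≤ q := le_trans hle hpq.le
      have h1 : (n : ℕ∞) < (q.asIdeal.map (Ideal.Quotient.mk p₀.asIdeal)).height := by
        refine lt_of_lt_of_le (h p₀ (fun hI => hp (hI.trans hle)) hp₀) ?_
        refine (iInf_le _ (⟨q, h0q, hq⟩ : {z : PrimeSpectrum A // p₀ ≤ z ∧ I ≤ z.asIdeal})).trans ?_
        exact (WithBot.coe_inj.1 ((height_Ici_eq h0q).trans (height_map_quotient p₀ q h0q).symm)).le
      rw [height_quotient_add π hπ p₀ p q hle hpq.le] at h1
      have h2 : (q.asIdeal.map (Ideal.Quotient.mk p.asIdeal)).height ≤ 1 := by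
        refine WithBot.coe_le_coe.1 ((height_map_quotient p q hpq.le).trans_le ?_)
        refine Order.krullDim_le_one_iff.2 fun x => ?_
        rcases hpq.eq_or_eq x.2.1 x.2.2 with hx | hx
        · exact Or.inl fun y _ => show x.1 ≤ y.1 from hx.le.trans y.2.1
        · exact Or.inr fun y _ => show y.1 ≤ x.1 from y.2.2.trans hx.ge
      exact Order.le_of_lt_add_one (lt_of_lt_of_le h1 (add_le_add le_rfl h2))
    · rw [depth_eq_top_of_not_mem_support p hsupp]; exact le_top

end Groth.Agent.LocCohLib
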