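import Groth.Agent.Lib.LocCoh.Localize
import Groth.Agent.Lib.Depth.PrimeAvoid
import Groth.Prelude.Def_W4bk5brsh7111920

/-!
# The finiteness dimension is at most the adjusted depths
-/

set_option autoImplicit false

universe u

open CategoryTheory Groth.Agent.InjHullLib IsLocalRing TensorProduct Groth.Agent

noncomputable section

namespace Groth.Agent.LocCohLib

section Local

variable {A : Type u} [CommRing A] [IsLocalRing A] [IsNoetherianRing A]
variable (B : Type u) [CommRing B] [IsNoetherianRing B] [Algebra A B] [Module.Flat A B]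

theorem le_depth_of_killed (a P : Ideal A) [P.IsPrime] (ha : a ≤ maximalIdeal A) (haP : ¬ a ≤ P)
    (hbet : ∀ x : Ideal A, x.IsPrime → P ≤ x → x ≠ P → x = maximalIdeal A)
    (hdim : ringKrullDim (A ⧸ P) = 1) (hunit : ∀ x : A, x ∉ P → IsUnit (algebraMap A B x)) :
    ∀ (n : ℕ) (M : Type u) [AddCommGroup M] [Module A M] [Module.Finite A M] (c : A), c ∉ P →
      (∀ i : ℕ, i ≤ n + 1 → ∀ z : LocCoh.H a i M, c • z = 0) →
      ((n + 1 : ℕ) : ℕ∞) ≤ LocCoh.idealDepth (P.map (algebraMap A B)) (B ⊗[A] M) := by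
  intro n
  induction n with
  | zero => exact fun M _ _ _ c hc hk => step 0 M c hc hk fun N _ _ _ y _ _ => by simp
  | succ n ih =>
    exact fun M _ _ _ c hc hk => step (n + 1) M c hc hk fun N _ _ _ e he hNk => ih N e he hNk
where
  step (n : ℕ) (M : Type u) [AddCommGroup M] [Module A M] [Module.Finite A M] (c : A) (hc : c ∉ P)
      (hk : ∀ i : ℕ, i ≤ n + 1 → ∀ z : LocCoh.H a i M, c • z = 0)
      (next : ∀ (N : Type u) [AddCommGroup N] [Module A N] [Module.Finite A N] (e : A), e ∉ P →
        (∀ i : ℕ, i ≤ n → ∀ z : LocCoh.H a i N, e • z = 0) →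
        (n : ℕ∞) ≤ LocCoh.idealDepth (P.map (algebraMap A B)) (B ⊗[A] N)) :
      ((n + 1 : ℕ) : ℕ∞) ≤ LocCoh.idealDepth (P.map (algebraMap A B)) (B ⊗[A] M) := by
    let T := powTors a M
    -- the torsion disappears over `B`
    have hT : Subsingleton (B ⊗[A] T) := by
      obtain ⟨k, hk'⟩ := exists_pow_annihilates' a (isPowerTorsion_powTors a (A := M))
      obtain ⟨w, hwa, hwP⟩ := SetLike.not_le_iff_exists.1 haP
      refine subsingleton_of_forall_eq 0 fun z => ((hunit w hwP).pow k).smul_left_cancel.1 ?_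
      rw [smul_zero, ← map_pow]
      induction z with
      | zero => simp
      | add x y hx hy => rw [smul_add, hx, hy, add_zero]
      | tmul b t =>
        rw [algebraMap_smul, ← tmul_smul, hk' _ (Ideal.pow_mem_pow hwa k) t, tmul_zero]
    let g : B ⊗[A] M →ₗ[B] B ⊗[A] (M ⧸ T) := T.mkQ.baseChange B
    have hg : Function.Bijective g := by
      refine ⟨?_, LinearMap.lTensor_surjective B T.mkQ_surjective⟩
      rw [injective_iff_map_eq_zero]
      intro z hz
      obtain ⟨w, rfl⟩ := (lTensor_exact B (LinearMap.exact_subtype_mkQ T) T.mkQ_surjective z).1 hz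
      exact (congrArg _ (hT.elim w 0)).trans (map_zero _)
    rw [DepthLib.idealDepth_congr (LinearEquiv.ofBijective g hg)]
    obtain ⟨x, hx, hreg⟩ := exists_regular_mem a M
    have h0 : Subsingleton (LocCoh.H a 0 (M ⧸ T)) := by
      rw [subsingleton_zero_iff, eq_bot_iff]
      intro z hz
      obtain ⟨m, hm⟩ := mem_powTors_iff.1 hz
      exact (hreg.pow m).right_eq_zero_of_smul (hm _ (Ideal.pow_mem_pow hx m))
    have hk2 : ∀ i : ℕ, i ≤ n + 1 → ∀ z : LocCoh.H a i (M ⧸ T), c • z = 0 := fun i hi z => by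
      cases i with
      | zero => exact h0.elim _ _
      | succ i =>
        obtain ⟨z, rfl⟩ := (hmap_mkQ_bijective a M i).2 z
        rw [← map_smul, hk (i + 1) hi z, map_zero]
    -- a regular element in `P`
    obtain ⟨y, hy, hyreg⟩ : ∃ y ∈ P, IsSMulRegular (M ⧸ T) y := by
      by_contra! hcon
      obtain ⟨Q, hQ, hPQ⟩ := DepthLib.exists_associatedPrime_ge hcon
      obtain ⟨hQp, m, hm⟩ := isAssociatedPrime_iff.1 hQ
      by_cases hQP : Q = P
      · subst hQP
        have hker : LinearMap.ker (LinearMap.toSpanSingleton A (M ⧸ T) m) = Q := by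
          ext z; rw [hm, LinearMap.mem_ker, Submodule.mem_colon_singleton, Submodule.mem_bot]; rfl
        let ι₀ : (A ⧸ Q) →ₗ[A] M ⧸ T := Q.liftQ (LinearMap.toSpanSingleton A (M ⧸ T) m) hker.ge
        have hι : Function.Injective ι₀ := LinearMap.ker_eq_bot.1 (Submodule.ker_liftQ_eq_bot _ _ _ hker.le)
        have hrad : maximalIdeal A ≤ (a ⊔ Q).radical := by
          rw [Ideal.radical_eq_sInf]
          refine le_sInf fun z ⟨hz, hzp⟩ => (hbet z hzp (le_sup_right.trans hz) fun e => ?_).ge
          exact haP ((le_sup_left.trans hz).trans e.le)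
        obtain ⟨z, hz⟩ := not_killed_of_dim_one a (M ⧸ T) Q ι₀ hι hdim hrad ha hc
        exact hz (hk2 1 (by omega) z)
      · have hxQ : x ∈ Q := by
          rw [hbet Q hQp hPQ hQP]; exact ha hx
        rw [hm, Submodule.mem_colon_singleton, Submodule.mem_bot] at hxQ
        refine hQp.ne_top (hm.trans ?_)
        rw [hreg.right_eq_zero_of_smul hxQ]
        ext; simp
    rw [← DepthLib.idealDepth_quotSMulTop_baseChange hy hyreg, Nat.cast_succ]
    refine add_le_add_left (next _ (c * c) (fun h => (Ideal.IsPrime.mem_or_mem inferInstance h).elim hc hc)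
      (fun j hj z => ?_)) 1
    -- the quotient is killed by `c * c`
    let my : (M ⧸ T) →ₗ[A] M ⧸ T := y • LinearMap.id
    let eQ : QuotSMulTop y (M ⧸ T) ≃ₗ[A] (M ⧸ T) ⧸ LinearMap.range my := Submodule.quotEquivOfEq _ _ (by
      ext z
      exact ⟨fun hz => by obtain ⟨w, -, rfl⟩ := Submodule.mem_map.1 hz; exact ⟨w, rfl⟩,
        fun ⟨w, hw⟩ => Submodule.mem_map.2 ⟨w, trivial, hw⟩⟩)
    refine (hcongr a j eQ).injective ?_
    rw [map_smul, map_zero]
    generalize hcongr a j eQ z = z'
    have hS := shortExact_mk my (LinearMap.range my).mkQ hyreg (Submodule.mkQ_surjective _)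
      (LinearMap.exact_map_mkQ_range my)
    have hvz : δ a j hS (c • z') = 0 := (map_smul _ _ _).trans (hk2 (j + 1) (by omega) _)
    obtain ⟨w, hw⟩ := (exact_map_δ a j hS _).1 hvz
    rw [mul_smul, ← hw]
    exact (map_smul _ _ _).symm.trans ((congrArg _ (hk2 j (by omega) w)).trans (map_zero _))

end Local

variable {R : Type u} [CommRing R] [IsNoetherianRing R]

theorem ringKrullDim_quotient_eq_one {A : Type u} [CommRing A] [IsLocalRing A] (P : Ideal A) [hP : P.IsPrime]
    (hPm : P ≠ maximalIdeal A) (hbet : ∀ x : Ideal A, x.IsPrime → P ≤ x → x ≠ P → x = maximalIdeal A) :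
    ringKrullDim (A ⧸ P) = 1 := by
  rw [ringKrullDim_quotient]
  refine le_antisymm (iSup_le fun l => ?_) (Order.le_krullDim_iff.2 ⟨⟨1,
    ![⟨⟨P, hP⟩, le_refl P⟩, ⟨⟨maximalIdeal A, inferInstance⟩, le_maximalIdeal hP.ne_top⟩], fun i => ?_⟩, rfl⟩)
  · by_contra hlt
    have hlen : 2 ≤ l.length := by
      by_contra hl
      exact hlt (by exact_mod_cast (by omega : l.length ≤ 1))
    have h01' : (l ⟨0, by omega⟩).1.asIdeal < (l ⟨1, by omega⟩).1.asIdeal :=
      l.strictMono (show (⟨0, by omega⟩ : Fin (l.length + 1)) < ⟨1, by omega⟩ from Nat.zero_lt_one)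
    have h12' : (l ⟨1, by omega⟩).1.asIdeal < (l ⟨2, by omega⟩).1.asIdeal :=
      l.strictMono (show (⟨1, by omega⟩ : Fin (l.length + 1)) < ⟨2, by omega⟩ from Nat.one_lt_two)
    by_cases h : (l ⟨1, by omega⟩).1.asIdeal = P
    · rw [h] at h01'
      exact h01'.not_ge (l ⟨0, by omega⟩).2
    · rw [hbet _ (l ⟨1, by omega⟩).1.isPrime (l ⟨1, by omega⟩).2 h] at h12'
      exact h12'.not_ge (le_maximalIdeal (l ⟨2, by omega⟩).1.isPrime.ne_top)
  · fin_cases i
    exact lt_of_le_of_ne (show P ≤ maximalIdeal A from le_maximalIdeal hP.ne_top) hPm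

/-- At a prime `s` maximal below `q ⊇ a`: annihilation bounds the depth. -/
theorem le_depth_localization_of_killed (a : Ideal R) (M : Type u) [AddCommGroup M] [Module R M]
    [Module.Finite R M] (s q : Ideal R) [s.IsPrime] [q.IsPrime] (hsq : s < q) (haq : a ≤ q) (has : ¬ a ≤ s)
    (hbet : ∀ t : Ideal R, t.IsPrime → s < t → ¬ t < q) (c : R) (hc : c ∉ s) (n : ℕ)
    (hkill : ∀ i : ℕ, i ≤ n + 1 → ∀ z : LocCoh.H a i M, c • z = 0) :
    ((n + 1 : ℕ) : ℕ∞) ≤ LocCoh.depth (Localization.AtPrime s) (LocalizedModule s.primeCompl M) := by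
  let A := Localization.AtPrime q
  let Rp := Localization.AtPrime s
  have := IsLocalization.isNoetherianRing q.primeCompl A inferInstance
  have := IsLocalization.isNoetherianRing s.primeCompl Rp inferInstance
  have hle : q.primeCompl ≤ s.primeCompl := fun x hx hxs => hx (hsq.le hxs)
  let _ : Algebra A Rp := IsLocalization.localizationAlgebraOfSubmonoidLe A Rp q.primeCompl s.primeCompl hle
  have : IsScalarTower R A Rp :=
    IsLocalization.localization_isScalarTower_of_submonoid_le A Rp q.primeCompl s.primeCompl hle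
  have : IsLocalization (s.primeCompl.map (algebraMap R A)) Rp :=
    IsLocalization.isLocalization_of_submonoid_le A Rp q.primeCompl s.primeCompl hle
  have : Module.Flat A Rp := IsLocalization.flat Rp (s.primeCompl.map (algebraMap R A))
  have hdisj : Disjoint (q.primeCompl : Set R) (s : Set R) :=
    Set.disjoint_left.2 fun x hx hxs => hx (hsq.le hxs)
  let P : Ideal A := s.map (algebraMap R A)
  have hP : P.IsPrime := IsLocalization.isPrime_of_isPrime_disjoint q.primeCompl A s inferInstance hdisj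
  have hPc : P.comap (algebraMap R A) = s :=
    IsLocalization.under_map_of_isPrime_disjoint q.primeCompl A inferInstance hdisj
  let Ms := LocalizedModule q.primeCompl M
  let es := (IsLocalizedModule.isBaseChange q.primeCompl A (LocalizedModule.mkLinearMap q.primeCompl M)).equiv
  let ep := (IsLocalizedModule.isBaseChange s.primeCompl Rp (LocalizedModule.mkLinearMap s.primeCompl M)).equiv
  let e : Rp ⊗[A] Ms ≃ₗ[Rp] LocalizedModule s.primeCompl M :=
    ((TensorProduct.AlgebraTensorModule.congr (LinearEquiv.refl Rp Rp) es).symm ≪≫ₗ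
      TensorProduct.AlgebraTensorModule.cancelBaseChange R A Rp Rp M) ≪≫ₗ ep
  have hunit : ∀ x : A, x ∉ P → IsUnit (algebraMap A Rp x) := fun x hx => by
    obtain ⟨r, v, rfl⟩ := IsLocalization.exists_mk'_eq q.primeCompl x
    have hr : r ∉ s := fun hr => hx (by
      rw [IsLocalization.mk'_mem_map_algebraMap_iff]
      exact ⟨1, q.primeCompl.one_mem, by simpa using hr⟩)
    have h := congrArg (algebraMap A Rp) (IsLocalization.mk'_spec A r v)
    rw [map_mul, ← IsScalarTower.algebraMap_apply, ← IsScalarTower.algebraMap_apply] at h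
    exact isUnit_of_mul_isUnit_left (h.symm ▸ IsLocalization.map_units Rp (⟨r, hr⟩ : s.primeCompl))
  have hbet' : ∀ x : Ideal A, x.IsPrime → P ≤ x → x ≠ P → x = maximalIdeal A := by
    intro x hx hPx hne
    have h1 : s ≤ x.comap (algebraMap R A) := hPc.symm.le.trans (Ideal.comap_mono hPx)
    have h2 : x.comap (algebraMap R A) ≤ q :=
      (Ideal.comap_mono (le_maximalIdeal hx.ne_top)).trans Localization.AtPrime.under_maximalIdeal.le
    have h : (x.comap (algebraMap R A)).map (algebraMap R A) = x := IsLocalization.map_under q.primeCompl A x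
    have h4 : x.comap (algebraMap R A) = q := by
      by_contra h5
      refine hbet _ (hx.comap _) (lt_of_le_of_ne h1 fun e' => hne ?_) (lt_of_le_of_ne h2 h5)
      rw [← h, ← e']
    rw [h4, Localization.AtPrime.map_eq_maximalIdeal] at h
    exact h.symm
  have hPm : P ≠ maximalIdeal A := fun e' =>
    hsq.ne (hPc.symm.trans ((congrArg _ e').trans Localization.AtPrime.under_maximalIdeal))
  have key := le_depth_of_killed Rp (a.map (algebraMap R A)) P
    (by rw [← Localization.AtPrime.map_eq_maximalIdeal]; exact Ideal.map_mono haq)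
    (fun h => has ((Ideal.map_le_iff_le_comap.1 h).trans hPc.le)) hbet'
    (ringKrullDim_quotient_eq_one P hPm hbet') hunit n Ms (algebraMap R A c) (fun h => hc (hPc ▸ h))
    fun i hi z => by
      obtain ⟨φ, hφ⟩ := exists_restrictScalars_addEquiv A a i Ms
      refine φ.injective ?_
      rw [map_zero, hφ]
      obtain ⟨m, w, hw⟩ := exists_ι a i _ (φ z)
      obtain ⟨t, ht, y, hy⟩ := (ext_localization q.primeCompl (LocalizedModule.mkLinearMap q.primeCompl M) i
        (R ⧸ a ^ m)).2 w
      have h0 : t • c • φ z = 0 := by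
        rw [smul_comm, ← hw, ← map_smul (ι a i _ m) t, ← hy, ← map_ι, ← map_smul, hkill i hi, map_zero]
      let e : Ms ≃ₗ[R] Ms := LinearEquiv.ofBijective (t • LinearMap.id)
        ((Module.End.isUnit_iff _).1 (IsLocalizedModule.map_units
          (LocalizedModule.mkLinearMap q.primeCompl M) ⟨t, ht⟩))
      refine (hcongr a i e).injective ?_
      rw [map_zero]
      change hmap a i (t • (LinearMap.id : Ms →ₗ[R] Ms)) _ = 0
      rw [hmap_smul, hmap_id]
      exact h0
  have hPmax : P.map (algebraMap A Rp) = maximalIdeal Rp := by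
    rw [Ideal.map_map, ← IsScalarTower.algebraMap_eq, Localization.AtPrime.map_eq_maximalIdeal]
  rw [hPmax, DepthLib.idealDepth_congr e] at key
  exact key

theorem finDimRel_le_adjDepth (a b : Ideal R) (M : Type u) [AddCommGroup M] [Module R M] [Module.Finite R M]
    (p : PrimeSpectrum R) (hb : ¬ b ≤ p.asIdeal) : LocCoh.finDimRel a b M ≤ LocCoh.adjDepth a M p := by
  unfold LocCoh.adjDepth
  cases hd : LocCoh.depth (Localization.AtPrime p.asIdeal) (LocalizedModule p.asIdeal.primeCompl M) with
  | top => simp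
  | coe d =>
  cases hh : ((a ⊔ p.asIdeal).map (Ideal.Quotient.mk p.asIdeal)).height with
  | top => simp
  | coe h =>
  refine le_of_not_gt fun hlt => ?_
  have hkill : ∀ i : ℕ, i ≤ d + h → b ≤ (Module.annihilator R (LocCoh.H a i M)).radical := fun i hi => by
    by_contra hni
    refine hlt.not_ge ((iInf₂_le i hni).trans ?_)
    exact_mod_cast hi
  obtain ⟨q', hq', hIq, hqht⟩ := Ideal.exists_isPrime_height_eq (n := h) hh
  let π := Ideal.Quotient.mk p.asIdeal
  let q : Ideal R := q'.comap π
  have : q.IsPrime := hq'.comap _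
  have hqmap : q.map π = q' := Ideal.map_comap_of_surjective π Ideal.Quotient.mk_surjective q'
  have hle : a ⊔ p.asIdeal ≤ q := Ideal.map_le_iff_le_comap.1 hIq
  have hdepth : ∀ (s : Ideal R) [s.IsPrime], p.asIdeal ≤ s →
      LocCoh.depth (Localization.AtPrime s) (LocalizedModule s.primeCompl M) ≤ (d : ℕ∞) + (s.map π).height :=
    fun s _ hps => by rw [← hd]; exact depth_localization_le M p.asIdeal s hps
  by_cases hbq : b ≤ q
  swap
  · let Rq := Localization.AtPrime q
    have h1 : LocCoh.idealDepth (a.map (algebraMap R Rq)) (LocalizedModule q.primeCompl M) ≤ ((d + h : ℕ) : ℕ∞) := by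
      refine ((DepthLib.idealDepth_mono (J := maximalIdeal Rq) ?_).trans (hdepth q (le_sup_right.trans hle))).trans ?_
      · rw [← Localization.AtPrime.map_eq_maximalIdeal]; exact Ideal.map_mono (le_sup_left.trans hle)
      · rw [hqmap, hqht]; push_cast; exact le_rfl
    obtain ⟨t, ht⟩ := ENat.ne_top_iff_exists.1 (ne_top_of_le_ne_top (ENat.natCast_ne_top _) h1)
    exact not_le_radical_annihilator_idealDepth a b M q hbq t ht.symm
      (hkill t (by rw [← ht] at h1; exact_mod_cast h1))
  obtain ⟨c, hcb, hcp⟩ := SetLike.not_le_iff_exists.1 hb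
  obtain ⟨s, ⟨hs, hps, hsq, hcs⟩, hmax⟩ := exists_maximal_of_wellFoundedGT
    (fun s : Ideal R => s.IsPrime ∧ p.asIdeal ≤ s ∧ s < q ∧ c ∉ s)
    ⟨p.asIdeal, inferInstance, le_rfl, lt_of_le_of_ne (le_sup_right.trans hle) fun e => hcp (e.symm ▸ hbq hcb), hcp⟩
  have hbet : ∀ t : Ideal R, t.IsPrime → s < t → ¬ t < q := fun t ht hst htq => by
    obtain ⟨t', ht', hst', htq', hct'⟩ := DepthLib.exists_prime_between_not_mem hsq ⟨t, ht, hst, htq⟩ (hbq hcb) hcs
    exact hst'.not_ge (hmax ⟨ht', hps.trans hst'.le, htq', hct'⟩ hst'.le)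
  have : (s.map π).IsPrime :=
    Ideal.map_isPrime_of_surjective Ideal.Quotient.mk_surjective (Ideal.mk_ker.trans_le hps)
  have hlt' : s.map π < q' := by
    refine lt_of_le_of_ne ((Ideal.map_mono hsq.le).trans hqmap.le) fun e => hsq.ne ?_
    calc s = (s.map π).comap π := by
          rw [Ideal.comap_map_of_surjective π Ideal.Quotient.mk_surjective, ← RingHom.ker_eq_comap_bot,
            Ideal.mk_ker, sup_of_le_left hps]
      _ = q := by rw [e]
  have hs' : (s.map π).height < h := hqht ▸ Ideal.height_strict_mono_of_isPrime hlt'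
  have has : ¬ a ≤ s := fun has => hs'.not_ge (hh ▸ Ideal.height_mono (Ideal.map_mono (sup_le has hps)))
  obtain ⟨r, hr⟩ := ENat.ne_top_iff_exists.1 hs'.ne_top
  rw [← hr, Nat.cast_lt] at hs'
  have hN : ∀ i : ℕ, ∃ N : ℕ, i ≤ d + h → ∀ z : LocCoh.H a i M, c ^ N • z = 0 := fun i => by
    by_cases hi : i ≤ d + h
    · obtain ⟨N, hN⟩ := hkill i hi hcb
      exact ⟨N, fun _ => Module.mem_annihilator.1 hN⟩
    · exact ⟨0, fun h' => absurd h' hi⟩
  choose N hN using hN
  have hkill' : ∀ i : ℕ, i ≤ (d + h - 1) + 1 → ∀ z : LocCoh.H a i M,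
      c ^ ((Finset.range (d + h + 1)).sup N) • z = 0 := fun i hi z => by
    obtain ⟨k, hk⟩ := Nat.le.dest (Finset.le_sup (f := N) (Finset.mem_range.2 (by omega : i < d + h + 1)))
    rw [← hk, pow_add, mul_comm, mul_smul, hN i (by omega) z, smul_zero]
  have h1 := le_depth_localization_of_killed a M s q hsq (le_sup_left.trans hle) has hbet
    _ (fun hh' => hcs (hs.mem_of_pow_mem _ hh')) (d + h - 1) hkill'
  have h2 := h1.trans (hdepth s hps)
  rw [← hr, ← Nat.cast_add, Nat.cast_le] at h2
  omega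

end Groth.Agent.LocCohLib
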