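import Groth.Agent.Lib.LocCoh.AdjDepth27
import Groth.Agent.Lib.Goren.Basic
import Mathlib.RingTheory.Ideal.AssociatedPrime.Localization

/-!
# Basic properties of adjusted depths and finiteness dimensions
-/

set_option autoImplicit false

universe u

open CategoryTheory Groth.Agent.InjHullLib IsLocalRing Groth.Agent

noncomputable section

namespace Groth.Agent.LocCohLib

section Height

variable {R : Type u} [CommRing R]

/-- `height (q/p)` is the dimension of the interval of primes. -/
theorem height_map_quotient (p q : PrimeSpectrum R) (h : p ≤ q) :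
    ((q.asIdeal.map (Ideal.Quotient.mk p.asIdeal)).height : WithBot ℕ∞) = Order.krullDim (Set.Icc p q) := by
  let π := Ideal.Quotient.mk p.asIdeal
  have hk : ∀ x : PrimeSpectrum R, p ≤ x → (x.asIdeal.map π).comap π = x.asIdeal := fun x hx => by
    rw [Ideal.comap_map_of_surjective π Ideal.Quotient.mk_surjective, ← RingHom.ker_eq_comap_bot,
      Ideal.mk_ker, sup_of_le_left (show p.asIdeal ≤ x.asIdeal from hx)]
  have hp : (q.asIdeal.map π).IsPrime :=
    Ideal.map_isPrime_of_surjective Ideal.Quotient.mk_surjective (Ideal.mk_ker.trans_le h)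
  let Q : PrimeSpectrum (R ⧸ p.asIdeal) := ⟨_, hp⟩
  rw [show (q.asIdeal.map π).height = Order.height Q from PrimeSpectrum.height_eq_orderHeight Q,
    Order.height_eq_krullDim_Iic]
  refine (Order.krullDim_eq_of_orderIso (α := Set.Icc p q) (β := Set.Iic Q)
    { toFun := fun x => ⟨⟨x.1.asIdeal.map π, Ideal.map_isPrime_of_surjective Ideal.Quotient.mk_surjective
        (Ideal.mk_ker.trans_le x.2.1)⟩, Ideal.map_mono x.2.2⟩
      invFun := fun y => ⟨PrimeSpectrum.comap π y.1,
        fun z hz => show π z ∈ y.1.asIdeal by rw [Ideal.Quotient.eq_zero_iff_mem.2 hz]; exact zero_mem _,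
        (Ideal.comap_mono (show y.1.asIdeal ≤ q.asIdeal.map π from y.2)).trans (hk q h).le⟩
      left_inv := fun x => Subtype.ext (PrimeSpectrum.ext (hk x.1 x.2.1))
      right_inv := fun y => Subtype.ext (PrimeSpectrum.ext
        (Ideal.map_comap_of_surjective π Ideal.Quotient.mk_surjective y.1.asIdeal))
      map_rel_iff' := ?_ }).symm
  intro x y
  exact ⟨fun hxy => show x.1.asIdeal ≤ y.1.asIdeal by
    rw [← hk x.1 x.2.1, ← hk y.1 y.2.1]; exact Ideal.comap_mono hxy, fun hxy => Ideal.map_mono hxy⟩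

theorem height_add_height_le [IsNoetherianRing R] (p s q : PrimeSpectrum R) (hps : p ≤ s) (hsq : s ≤ q) :
    (s.asIdeal.map (Ideal.Quotient.mk p.asIdeal)).height + (q.asIdeal.map (Ideal.Quotient.mk s.asIdeal)).height ≤
      (q.asIdeal.map (Ideal.Quotient.mk p.asIdeal)).height := by
  let π := Ideal.Quotient.mk p.asIdeal
  let σ := Ideal.Quotient.mk s.asIdeal
  let P : PrimeSpectrum (R ⧸ p.asIdeal) :=
    ⟨_, Ideal.map_isPrime_of_surjective (f := π) (I := s.asIdeal) Ideal.Quotient.mk_surjective (Ideal.mk_ker.trans_le hps)⟩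
  let φ := Ideal.Quotient.factor (show p.asIdeal ≤ s.asIdeal from hps)
  have hφ : Function.Surjective φ := Ideal.Quotient.factor_surjective hps
  let Q : PrimeSpectrum (R ⧸ s.asIdeal) :=
    ⟨_, Ideal.map_isPrime_of_surjective (f := σ) (I := q.asIdeal) Ideal.Quotient.mk_surjective (Ideal.mk_ker.trans_le hsq)⟩
  let Q' : PrimeSpectrum (R ⧸ p.asIdeal) :=
    ⟨_, Ideal.map_isPrime_of_surjective (f := π) (I := q.asIdeal) Ideal.Quotient.mk_surjective
      (Ideal.mk_ker.trans_le (hps.trans hsq : p ≤ q))⟩
  have hQ : PrimeSpectrum.comap φ Q = Q' := by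
    refine PrimeSpectrum.ext ?_
    show (q.asIdeal.map σ).comap φ = q.asIdeal.map π
    rw [← Ideal.map_comap_of_surjective π Ideal.Quotient.mk_surjective ((q.asIdeal.map σ).comap φ),
      Ideal.comap_comap, show φ.comp π = σ from RingHom.ext fun _ => rfl,
      Ideal.comap_map_of_surjective σ Ideal.Quotient.mk_surjective, ← RingHom.ker_eq_comap_bot,
      Ideal.mk_ker, sup_of_le_left (show s.asIdeal ≤ q.asIdeal from hsq)]
  have hmono : StrictMono (PrimeSpectrum.comap φ) := fun a b hab =>
    lt_of_le_of_ne (Ideal.comap_mono hab.le) fun e =>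
      hab.ne (PrimeSpectrum.comap_injective_of_surjective φ hφ e)
  have hge : ∀ x : PrimeSpectrum (R ⧸ s.asIdeal), P ≤ PrimeSpectrum.comap φ x := fun x => by
    show s.asIdeal.map π ≤ x.asIdeal.comap φ
    rw [Ideal.map_le_iff_le_comap, Ideal.comap_comap]
    intro z hz
    show σ z ∈ x.asIdeal
    rw [Ideal.Quotient.eq_zero_iff_mem.2 hz]; exact zero_mem _
  have key : ∀ n : ℕ, ∀ x : PrimeSpectrum (R ⧸ s.asIdeal), (n : ℕ∞) ≤ Order.height x →
      Order.height P + n ≤ Order.height (PrimeSpectrum.comap φ x) := by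
    intro n
    induction n with
    | zero => intro x _; rw [Nat.cast_zero, add_zero]; exact Order.height_mono (hge x)
    | succ n ih =>
      intro x hx
      obtain ⟨l, hl, hn⟩ := Order.exists_series_of_le_height x hx
      have hlt : l ⟨n, by omega⟩ < x := hl ▸ l.strictMono (show (⟨n, _⟩ : Fin (l.length + 1)) < Fin.last _ from
        Fin.mk_lt_mk.2 (by omega))
      have h1 : (n : ℕ∞) ≤ Order.height (l ⟨n, by omega⟩) := Order.index_le_height l ⟨n, by omega⟩
      rw [Nat.cast_succ, ← add_assoc]
      exact (add_le_add_left (ih _ h1) 1).trans (Order.height_add_one_le (hmono hlt))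
  rw [show (s.asIdeal.map π).height = Order.height P from PrimeSpectrum.height_eq_orderHeight P,
    show (q.asIdeal.map σ).height = Order.height Q from PrimeSpectrum.height_eq_orderHeight Q,
    show (q.asIdeal.map π).height = Order.height Q' from PrimeSpectrum.height_eq_orderHeight Q', ← hQ]
  cases hx : Order.height Q with
  | top =>
    refine le_top.trans (top_le_iff.2 (ENat.eq_top_iff_forall_ge.2 fun n => ?_)).ge
    exact le_add_self.trans (key n Q (by rw [hx]; exact le_top))
  | coe n => exact key n Q hx.ge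

variable {S : Type u} [CommRing S] [Algebra R S]

/-- Heights in quotients do not change along injective maps of spectra with convex image. -/
theorem height_quotient_eq (hinj : ∀ I : Ideal S, (I.comap (algebraMap R S)).map (algebraMap R S) = I)
    (P Q : PrimeSpectrum S) (h : P ≤ Q)
    (hlift : ∀ x : PrimeSpectrum R, PrimeSpectrum.comap (algebraMap R S) P ≤ x →
      x ≤ PrimeSpectrum.comap (algebraMap R S) Q →
      ∃ X : PrimeSpectrum S, PrimeSpectrum.comap (algebraMap R S) X = x) :
    ((Q.asIdeal.comap (algebraMap R S)).map (Ideal.Quotient.mk (P.asIdeal.comap (algebraMap R S)))).height =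
      (Q.asIdeal.map (Ideal.Quotient.mk P.asIdeal)).height := by
  have h1 := height_map_quotient P Q h
  have h2 := height_map_quotient (PrimeSpectrum.comap (algebraMap R S) P)
    (PrimeSpectrum.comap (algebraMap R S) Q) (Ideal.comap_mono h)
  let f : Set.Icc P Q → Set.Icc (PrimeSpectrum.comap (algebraMap R S) P) (PrimeSpectrum.comap (algebraMap R S) Q) :=
    fun x => ⟨PrimeSpectrum.comap (algebraMap R S) x.1, Ideal.comap_mono x.2.1, Ideal.comap_mono x.2.2⟩
  have hle : ∀ a b : PrimeSpectrum S,
      PrimeSpectrum.comap (algebraMap R S) a ≤ PrimeSpectrum.comap (algebraMap R S) b → a ≤ b := fun a b hab => by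
    show a.asIdeal ≤ b.asIdeal
    rw [← hinj a.asIdeal, ← hinj b.asIdeal]
    exact Ideal.map_mono hab
  have hbij : Function.Bijective f := by
    refine ⟨fun a b e => ?_, fun y => ?_⟩
    · have e' := congrArg Subtype.val e
      exact Subtype.ext (le_antisymm (hle _ _ e'.le) (hle _ _ e'.ge))
    · obtain ⟨X, hX⟩ := hlift y.1 y.2.1 y.2.2
      exact ⟨⟨X, hle _ _ (hX ▸ y.2.1), hle _ _ (hX ▸ y.2.2)⟩, Subtype.ext hX⟩
  have e : Order.krullDim (Set.Icc P Q) = Order.krullDim _ := Order.krullDim_eq_of_orderIso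
    ({ Equiv.ofBijective f hbij with map_rel_iff' := fun {a b} => ⟨hle _ _, fun hab => Ideal.comap_mono hab⟩ } :
      Set.Icc P Q ≃o _)
  exact WithBot.coe_injective (h2.trans (e.symm.trans h1.symm))

end Height

section Depth

variable {R S : Type u} [CommRing R] [CommRing S] [Algebra R S]
variable {M N : Type u} [AddCommGroup M] [Module R M] [AddCommGroup N] [Module R N] [Module S N]
  [IsScalarTower R S N]

/-- Depth at a prime after a change of rings that does not change the local picture. -/
theorem depth_eq_of_change (P : Ideal S) [P.IsPrime] (p : Ideal R) [p.IsPrime]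
    (hp : p = P.comap (algebraMap R S))
    (hS : ∀ x : S, ∃ r : R, r ∉ p ∧ ∃ a : R, algebraMap R S r * x = algebraMap R S a)
    (ψ : M →ₗ[R] N) (hψ : ∀ n : N, ∃ r : R, r ∉ p ∧ ∃ m, r • n = ψ m)
    (hker : ∀ m : M, ψ m = 0 → ∃ r : R, r ∉ p ∧ r • m = 0) :
    LocCoh.depth (Localization.AtPrime p) (LocalizedModule p.primeCompl M) =
      LocCoh.depth (Localization.AtPrime P) (LocalizedModule P.primeCompl N) := by
  let A := Localization.AtPrime p
  let B := Localization.AtPrime P
  let N' := LocalizedModule P.primeCompl N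
  have hout : ∀ r : R, r ∉ p → algebraMap R S r ∉ P := fun r hr => by rwa [hp] at hr
  have hmul : ∀ {r r' : R}, r ∉ p → r' ∉ p → r * r' ∉ p := fun {r r'} h h' hh =>
    (Ideal.IsPrime.mem_or_mem inferInstance hh).elim h h'
  have hS' : ∀ t : S, t ∉ P → ∃ v : S, ∃ r : R, r ∉ p ∧ v * t = algebraMap R S r := fun t ht => by
    obtain ⟨r, hr, a, ha⟩ := hS t
    refine ⟨algebraMap R S r, a, fun hap => ?_, ha⟩
    rw [hp, Ideal.mem_comap, ← ha] at hap
    exact (Ideal.IsPrime.mem_or_mem inferInstance hap).elim (hout r hr) ht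
  let φ : M →ₗ[R] N' := ((LocalizedModule.mkLinearMap P.primeCompl N).restrictScalars R) ∘ₗ ψ
  have hunit : ∀ r : p.primeCompl, IsUnit (algebraMap R (Module.End R N') r) := fun r => by
    rw [Module.End.isUnit_iff]
    have := (Module.End.isUnit_iff _).1
      (IsLocalizedModule.map_units (LocalizedModule.mkLinearMap P.primeCompl N) (⟨algebraMap R S r, hout r r.2⟩ : P.primeCompl))
    convert this using 1
    ext z
    exact (algebraMap_smul S (r : R) z).symm
  have : IsLocalizedModule p.primeCompl φ := by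
    refine ⟨hunit, fun z => ?_, fun {m₁ m₂} e => ?_⟩
    · obtain ⟨n, t, rfl⟩ : ∃ (n : N) (t : P.primeCompl), LocalizedModule.mk n t = z :=
        LocalizedModule.induction_on (fun n t => ⟨n, t, rfl⟩) z
      obtain ⟨v, r, hr, hv⟩ := hS' t t.2
      obtain ⟨r', hr', m, hm⟩ := hψ (v • n)
      refine ⟨⟨m, ⟨r * r', hmul hr hr'⟩⟩, ?_⟩
      show (r * r') • LocalizedModule.mk n t = LocalizedModule.mk (ψ m) 1
      rw [← algebraMap_smul S (r * r'), LocalizedModule.smul'_mk, map_mul, ← hv, mul_comm (v * (t : S)), mul_smul,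
        algebraMap_smul, mul_comm v, mul_smul, smul_comm r' (t : S), hm, LocalizedModule.mk_eq]
      exact ⟨1, by simp [Submonoid.smul_def]⟩
    · obtain ⟨c, hc⟩ := LocalizedModule.mk_eq.1 (show LocalizedModule.mk (ψ m₁) 1 = LocalizedModule.mk (ψ m₂) 1 from e)
      obtain ⟨v, r, hr, hv⟩ := hS' c c.2
      have h0 : ψ (r • (m₁ - m₂)) = 0 := by
        rw [map_smul, map_sub, ← algebraMap_smul S r (_ - _), ← hv, mul_smul, smul_sub]
        simp only [Submonoid.smul_def, one_smul] at hc
        rw [hc, sub_self, smul_zero]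
      obtain ⟨r', hr', h⟩ := hker _ h0
      refine ⟨⟨r' * r, hmul hr' hr⟩, ?_⟩
      rw [smul_sub, smul_sub, sub_eq_zero] at h
      simpa [Submonoid.smul_def, mul_smul] using h
  let f : A →+* B := Localization.localRingHom p P (algebraMap R S) hp
  let _ : Algebra A B := f.toAlgebra
  let _ : Module A N' := Module.compHom N' f
  have : IsScalarTower A B N' := ⟨fun a b z => by
    show (f a * b) • z = f a • b • z
    rw [mul_smul]⟩
  have hf : ∀ r : R, f (algebraMap R A r) = algebraMap S B (algebraMap R S r) :=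
    Localization.localRingHom_to_map p P (algebraMap R S) hp
  have : IsScalarTower R A N' := ⟨fun r a z => by
    show f (r • a) • z = r • f a • z
    rw [Algebra.smul_def, map_mul, hf, mul_smul, algebraMap_smul, algebraMap_smul]⟩
  have hsurj : Function.Surjective (algebraMap A B) := fun z => by
    obtain ⟨x, t, rfl⟩ := IsLocalization.exists_mk'_eq P.primeCompl z
    obtain ⟨v, r, hr, hv⟩ := hS' t t.2
    obtain ⟨r', hr', a, ha⟩ := hS (v * x)
    refine ⟨IsLocalization.mk' A a (⟨r * r', hmul hr hr'⟩ : p.primeCompl), ?_⟩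
    show f _ = _
    rw [Localization.localRingHom_mk', IsLocalization.mk'_eq_iff_eq]
    congr 1
    show (t : S) * algebraMap R S a = algebraMap R S (r * r') * x
    rw [map_mul, ← ha, ← hv]; ring
  have hmap : (maximalIdeal A).map (algebraMap A B) = maximalIdeal B := by
    refine le_antisymm (IsLocalRing.le_maximalIdeal fun htop => ?_) fun z hz => ?_
    · obtain ⟨x, hx, hx1⟩ := (Ideal.mem_map_iff_of_surjective _ hsurj).1
        ((Ideal.eq_top_iff_one _).1 htop)
      have : IsLocalHom f := Localization.isLocalHom_localRingHom p P (algebraMap R S) hp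
      exact hx (isUnit_of_map_unit f x (show IsUnit (f x) from (hx1 : f x = 1) ▸ isUnit_one))
    · obtain ⟨x, rfl⟩ := hsurj z
      exact Ideal.mem_map_of_mem _ (fun hu : IsUnit x => hz (hu.map (algebraMap A B)))
  have h1 := GorenLib.idealDepth_map_of_surjective hsurj (maximalIdeal A) N'
  rw [hmap] at h1
  rw [LocCoh.depth, LocCoh.depth, h1]
  exact DepthLib.idealDepth_congr
    ((IsLocalizedModule.iso p.primeCompl φ).extendScalarsOfIsLocalization p.primeCompl A)

end Depth

section Basics

variable {R : Type u} [CommRing R] [IsNoetherianRing R]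

theorem adjDepth_le_of_between (a : Ideal R) (M : Type u) [AddCommGroup M] [Module R M] [Module.Finite R M]
    (p q : PrimeSpectrum R) (hq : a ⊔ p.asIdeal ≤ q.asIdeal)
    (hht : (q.asIdeal.map (Ideal.Quotient.mk p.asIdeal)).height =
      ((a ⊔ p.asIdeal).map (Ideal.Quotient.mk p.asIdeal)).height)
    (s : PrimeSpectrum R) (hps : p ≤ s) (hsq : s ≤ q) : LocCoh.adjDepth a M s ≤ LocCoh.adjDepth a M p := by
  refine (add_le_add (depth_localization_le M p.asIdeal s.asIdeal hps)
    (Ideal.height_mono (Ideal.map_mono (sup_le (le_sup_left.trans hq) hsq)))).trans ?_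
  rw [add_assoc, LocCoh.adjDepth, ← hht]
  exact add_le_add le_rfl (height_add_height_le p s q hps hsq)

theorem minAdjDepth_congr {M M' : Type u} [AddCommGroup M] [Module R M] [AddCommGroup M'] [Module R M']
    (a b : Ideal R) (ψ : M →ₗ[R] M') (hψ : Function.Surjective ψ)
    (h : ∀ p : PrimeSpectrum R, ¬ b ≤ p.asIdeal → ∀ m, ψ m = 0 → ∃ r, r ∉ p.asIdeal ∧ r • m = 0) :
    LocCoh.minAdjDepth a b M = LocCoh.minAdjDepth a b M' := by
  refine iInf_congr fun p => iInf_congr fun hp => ?_
  unfold LocCoh.adjDepth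
  rw [depth_eq_of_change (S := R) p.asIdeal p.asIdeal (Ideal.comap_id _).symm
    (fun x => ⟨1, fun h1 => p.2.ne_top ((Ideal.eq_top_iff_one _).2 h1), x, one_mul x⟩) ψ
    (fun n => ⟨1, fun h1 => p.2.ne_top ((Ideal.eq_top_iff_one _).2 h1), (hψ n).imp fun m hm => by
      rw [one_smul, hm]⟩) (h p hp)]

theorem minAdjDepth_quotient_torsion (a b c : Ideal R) (M : Type u) [AddCommGroup M] [Module R M]
    [Module.Finite R M] :
    (b ≤ c → LocCoh.minAdjDepth a b M = LocCoh.minAdjDepth a b (M ⧸ powTors c M)) ∧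
      (0 < LocCoh.minAdjDepth a b M → LocCoh.minAdjDepth a b M = LocCoh.minAdjDepth a b (M ⧸ powTors a M)) := by
  constructor
  · intro hbc
    refine minAdjDepth_congr a b (powTors c M).mkQ (Submodule.mkQ_surjective _) fun p hp m hm => ?_
    obtain ⟨n, hn⟩ := mem_powTors_iff.1 ((Submodule.Quotient.mk_eq_zero _).1 hm)
    obtain ⟨x, hx, hxp⟩ := SetLike.not_le_iff_exists.1 fun h => hp (hbc.trans h)
    exact ⟨x ^ n, fun h => hxp (p.2.mem_of_pow_mem n h), hn _ (Ideal.pow_mem_pow hx n)⟩
  · intro hpos
    refine minAdjDepth_congr a b (powTors a M).mkQ (Submodule.mkQ_surjective _) fun p hp m hm => ?_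
    obtain ⟨n, hn⟩ := mem_powTors_iff.1 ((Submodule.Quotient.mk_eq_zero _).1 hm)
    by_contra! hcon
    let N : Submodule R M := Submodule.span R {m}
    have hann : Module.annihilator R N ≤ p.asIdeal := fun r hr => by
      by_contra hrp
      exact hcon r hrp (congrArg Subtype.val (Module.mem_annihilator.1 hr ⟨m, Submodule.mem_span_singleton_self m⟩))
    obtain ⟨q, hq, hqp⟩ := Ideal.exists_minimalPrimes_le hann
    have hqass : q ∈ associatedPrimes R M :=
      associatedPrimes.subset_of_injective (f := N.subtype) N.injective_subtype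
        (Module.associatedPrimes.minimalPrimes_annihilator_subset_associatedPrimes R N hq)
    have := hq.isPrime
    have haq : a ≤ q := fun x hx => this.mem_of_pow_mem n (hq.1.2 (Module.mem_annihilator.2 fun z => by
      obtain ⟨r, hr⟩ := Submodule.mem_span_singleton.1 z.2
      exact Subtype.ext (show x ^ n • (z : M) = 0 by
        rw [← hr, smul_comm, hn _ (Ideal.pow_mem_pow hx n), smul_zero])))
    have hd : LocCoh.depth (Localization.AtPrime q) (LocalizedModule q.primeCompl M) = 0 := by
      have := IsLocalization.isNoetherianRing q.primeCompl (Localization.AtPrime q) inferInstance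
      have h1 := DepthLib.depth_le_of_mem_associatedPrimes (R := Localization.AtPrime q)
        (M := LocalizedModule q.primeCompl M)
        (Module.associatedPrimes.mem_associatedPrimes_atPrime_of_mem_associatedPrimes hqass)
      have h2 : ringKrullDim (Localization.AtPrime q ⧸ maximalIdeal (Localization.AtPrime q)) = 0 :=
        ringKrullDim_eq_zero_of_isField
          ((Ideal.Quotient.maximal_ideal_iff_isField_quotient _).1 inferInstance)
      rw [h2] at h1
      exact nonpos_iff_eq_zero.1 (WithBot.coe_le_coe.1 h1)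
    refine hpos.not_ge ((iInf₂_le (⟨q, inferInstance⟩ : PrimeSpectrum R) fun h => hp (h.trans hqp)).trans ?_)
    show LocCoh.depth _ _ + _ ≤ 0
    rw [hd, sup_of_le_right haq, Ideal.map_quotient_self, Ideal.height_bot, add_zero]

theorem minAdjDepth_le_change {S : Type u} [CommRing S] [Algebra R S] [IsNoetherianRing S]
    {M N : Type u} [AddCommGroup M] [Module R M] [AddCommGroup N] [Module R N] [Module S N] [IsScalarTower R S N]
    (a : Ideal R) (ψ : M →ₗ[R] N)
    (hinj : ∀ I : Ideal S, (I.comap (algebraMap R S)).map (algebraMap R S) = I)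
    (hlift : ∀ (Q : PrimeSpectrum S) (x : PrimeSpectrum R), x ≤ PrimeSpectrum.comap (algebraMap R S) Q →
      (∃ P : PrimeSpectrum S, PrimeSpectrum.comap (algebraMap R S) P ≤ x) →
      ∃ X : PrimeSpectrum S, PrimeSpectrum.comap (algebraMap R S) X = x)
    (hS : ∀ (P : PrimeSpectrum S) (x : S), ∃ r : R, algebraMap R S r ∉ P.asIdeal ∧
      ∃ a : R, algebraMap R S r * x = algebraMap R S a)
    (hψ : ∀ (P : PrimeSpectrum S) (n : N), ∃ r : R, algebraMap R S r ∉ P.asIdeal ∧ ∃ m, r • n = ψ m)
    (hker : ∀ (P : PrimeSpectrum S) (m : M), ψ m = 0 → ∃ r : R, algebraMap R S r ∉ P.asIdeal ∧ r • m = 0)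
    (P : PrimeSpectrum S) :
    LocCoh.adjDepth a M (PrimeSpectrum.comap (algebraMap R S) P) ≤
        LocCoh.adjDepth (a.map (algebraMap R S)) N P ∧
      ((∀ x : PrimeSpectrum R, PrimeSpectrum.comap (algebraMap R S) P ≤ x →
          ∃ X : PrimeSpectrum S, PrimeSpectrum.comap (algebraMap R S) X = x) →
        LocCoh.adjDepth a M (PrimeSpectrum.comap (algebraMap R S) P) =
          LocCoh.adjDepth (a.map (algebraMap R S)) N P) := by
  set p := PrimeSpectrum.comap (algebraMap R S) P
  have hd : LocCoh.depth (Localization.AtPrime p.asIdeal) (LocalizedModule p.asIdeal.primeCompl M) =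
      LocCoh.depth (Localization.AtPrime P.asIdeal) (LocalizedModule P.asIdeal.primeCompl N) :=
    depth_eq_of_change P.asIdeal p.asIdeal rfl (fun x => hS P x) ψ (fun n => hψ P n) (fun m => hker P m)
  have hle : ((a ⊔ p.asIdeal).map (Ideal.Quotient.mk p.asIdeal)).height ≤
      ((a.map (algebraMap R S) ⊔ P.asIdeal).map (Ideal.Quotient.mk P.asIdeal)).height := by
    cases hh : ((a.map (algebraMap R S) ⊔ P.asIdeal).map (Ideal.Quotient.mk P.asIdeal)).height with
    | top => exact le_top
    | coe h =>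
      obtain ⟨Q', hQ', hI, hQh⟩ := Ideal.exists_isPrime_height_eq (n := h) hh
      let Q : PrimeSpectrum S := ⟨Q'.comap (Ideal.Quotient.mk P.asIdeal), hQ'.comap _⟩
      have hIQ : a.map (algebraMap R S) ⊔ P.asIdeal ≤ Q.asIdeal := Ideal.map_le_iff_le_comap.1 hI
      have hPQ : P ≤ Q := show P.asIdeal ≤ Q.asIdeal from le_sup_right.trans hIQ
      have e : Q.asIdeal.map (Ideal.Quotient.mk P.asIdeal) = Q' :=
        Ideal.map_comap_of_surjective _ Ideal.Quotient.mk_surjective Q'
      rw [← hQh, ← e, ← height_quotient_eq hinj P Q hPQ fun x h1 h2 => hlift Q x h2 ⟨P, h1⟩]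
      exact Ideal.height_mono (Ideal.map_mono (sup_le
        ((Ideal.le_comap_map).trans (Ideal.comap_mono (le_sup_left.trans hIQ))) (Ideal.comap_mono hPQ)))
  refine ⟨add_le_add hd.le hle, fun hall => le_antisymm (add_le_add hd.le hle) (add_le_add hd.ge ?_)⟩
  cases hh : ((a ⊔ p.asIdeal).map (Ideal.Quotient.mk p.asIdeal)).height with
  | top => exact le_top
  | coe h =>
    obtain ⟨q', hq', hI, hqh⟩ := Ideal.exists_isPrime_height_eq (n := h) hh
    let q : PrimeSpectrum R := ⟨q'.comap (Ideal.Quotient.mk p.asIdeal), hq'.comap _⟩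
    have hIq : a ⊔ p.asIdeal ≤ q.asIdeal := Ideal.map_le_iff_le_comap.1 hI
    obtain ⟨Q, hQ⟩ := hall q (show p.asIdeal ≤ q.asIdeal from le_sup_right.trans hIq)
    have hQ' : Q.asIdeal.comap (algebraMap R S) = q.asIdeal := congrArg PrimeSpectrum.asIdeal hQ
    have hPQ : P ≤ Q := by
      show P.asIdeal ≤ Q.asIdeal
      rw [← hinj P.asIdeal, ← hinj Q.asIdeal, hQ']
      exact Ideal.map_mono (le_sup_right.trans hIq)
    have e : q.asIdeal.map (Ideal.Quotient.mk p.asIdeal) = q' :=
      Ideal.map_comap_of_surjective _ Ideal.Quotient.mk_surjective q'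
    rw [← hqh, ← e, ← hQ', show p.asIdeal = P.asIdeal.comap (algebraMap R S) from rfl,
      height_quotient_eq hinj P Q hPQ fun x h1 h2 => hlift Q x h2 ⟨P, h1⟩]
    refine Ideal.height_mono (Ideal.map_mono (sup_le ?_ hPQ))
    rw [Ideal.map_le_iff_le_comap, hQ']
    exact le_sup_left.trans hIq

theorem finDimRel_congr {a b : Ideal R} {M M' : Type u} [AddCommGroup M] [Module R M] [AddCommGroup M']
    [Module R M'] (h : ∀ i, b ≤ (Module.annihilator R (LocCoh.H a i M)).radical ↔
      b ≤ (Module.annihilator R (LocCoh.H a i M')).radical) :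
    LocCoh.finDimRel a b M = LocCoh.finDimRel a b M' :=
  iInf_congr fun i => iInf_congr_Prop (not_congr (h i)) fun _ => rfl

theorem finDimRel_quotient_torsion (a b c : Ideal R) (M : Type u) [AddCommGroup M] [Module R M]
    [Module.Finite R M] :
    (b ≤ c → LocCoh.finDimRel a b M = LocCoh.finDimRel a b (M ⧸ powTors c M)) ∧
      (0 < LocCoh.finDimRel a b M → LocCoh.finDimRel a b M = LocCoh.finDimRel a b (M ⧸ powTors a M)) := by
  constructor
  · intro hbc
    set T := powTors c M
    obtain ⟨k, hk⟩ := exists_pow_annihilates' c (isPowerTorsion_powTors c (A := M))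
    have hT : ∀ x ∈ b, ∀ i, ∀ z : LocCoh.H a i T, x ^ k • z = 0 := fun x hx i z => by
      have h0 : x ^ k • (LinearMap.id : T →ₗ[R] T) = 0 :=
        LinearMap.ext fun t => hk _ (Ideal.pow_mem_pow (hbc hx) k) t
      calc x ^ k • z = (x ^ k • hmap a i (LinearMap.id : T →ₗ[R] T)) z := by rw [hmap_id]; rfl
        _ = hmap a i (0 : T →ₗ[R] T) z := by rw [← hmap_smul, h0]
        _ = 0 := by
          rw [← zero_smul R (LinearMap.id : T →ₗ[R] T), hmap_smul, zero_smul]; rfl
    have hS := shortExact_mk T.subtype T.mkQ T.injective_subtype T.mkQ_surjective (LinearMap.exact_subtype_mkQ T)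
    refine finDimRel_congr fun i => ⟨fun h x hx => ?_, fun h x hx => ?_⟩
    · obtain ⟨N, hN⟩ := h hx
      refine ⟨N + k, Module.mem_annihilator.2 fun z => ?_⟩
      have h1 : δ a i hS (x ^ k • z) = 0 := (map_smul _ _ _).trans (hT x hx (i + 1) _)
      obtain ⟨w, hw⟩ := (exact_map_δ a i hS _).1 h1
      rw [pow_add, mul_smul, ← hw]
      exact (map_smul _ _ _).symm.trans ((congrArg _ (Module.mem_annihilator.1 hN w)).trans (map_zero _))
    · obtain ⟨N, hN⟩ := h hx
      refine ⟨k + N, Module.mem_annihilator.2 fun z => ?_⟩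
      have h1 : hmap a i T.mkQ (x ^ N • z) = 0 := by rw [map_smul, Module.mem_annihilator.1 hN]
      obtain ⟨w, hw⟩ := (exact_map_map a i hS _).1 h1
      rw [pow_add, mul_smul, ← hw]
      exact (map_smul _ _ _).symm.trans ((congrArg _ (hT x hx i w)).trans (map_zero _))
  · intro hpos
    refine finDimRel_congr fun i => ?_
    cases i with
    | zero =>
      have h0 : Subsingleton (LocCoh.H a 0 (M ⧸ powTors a M)) := by
        obtain ⟨x, hx, hreg⟩ := exists_regular_mem a M
        rw [subsingleton_zero_iff, eq_bot_iff]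
        intro z hz
        obtain ⟨m, hm⟩ := mem_powTors_iff.1 hz
        exact (hreg.pow m).right_eq_zero_of_smul (hm _ (Ideal.pow_mem_pow hx m))
      refine iff_of_true ?_ fun x _ => ⟨1, Module.mem_annihilator.2 fun z => h0.elim _ _⟩
      by_contra hn
      refine hpos.not_ge (le_trans (iInf₂_le 0 hn) (le_of_eq Nat.cast_zero))
    | succ j =>
      rw [(LinearEquiv.ofBijective _ (hmap_mkQ_bijective a M j)).annihilator_eq]

end Basics

end Groth.Agent.LocCohLib
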