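import Groth.Agent.Lib.LocCoh.Restrict
import Mathlib.RingTheory.Flat.Basic
import Mathlib.LinearAlgebra.TensorProduct.Pi
import Mathlib.LinearAlgebra.TensorProduct.Tower

/-!
# Flat base change of local cohomology
-/

universe u

open CategoryTheory Groth.Agent.InjHullLib TensorProduct

noncomputable section

namespace Groth.Agent.LocCohLib

variable {R : Type u} [CommRing R] [IsNoetherianRing R]

theorem powTors_quotient_eq_bot (I : Ideal R) (M : Type u) [AddCommGroup M] [Module R M] :
    powTors I (M ⧸ powTors I M) = ⊥ := by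
  rw [eq_bot_iff]
  intro x hx
  obtain ⟨x, rfl⟩ := Submodule.Quotient.mk_surjective _ x
  obtain ⟨n, hn⟩ := mem_powTors_iff.1 hx
  rw [Submodule.mem_bot, Submodule.Quotient.mk_eq_zero]
  obtain ⟨r, hr⟩ : (I ^ n).FG := IsNoetherian.noetherian _
  classical
  have hfin : ∀ t : Finset R, (↑t : Set R) ⊆ (I ^ n : Ideal R) →
      ∃ m, ∀ c ∈ t, ∀ a ∈ I ^ m, a • c • x = 0 := by
    intro t
    induction t using Finset.induction_on with
    | empty => exact fun _ => ⟨0, fun c hc => by simp at hc⟩
    | @insert c t _ ih =>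
      intro ht
      obtain ⟨m, hm⟩ := ih ((Finset.coe_subset.2 (Finset.subset_insert c t)).trans ht)
      have hc := hn c (ht (Finset.mem_insert_self c t))
      rw [← Submodule.Quotient.mk_smul, Submodule.Quotient.mk_eq_zero] at hc
      obtain ⟨m', hm'⟩ := mem_powTors_iff.1 hc
      refine ⟨max m m', fun d hd a ha => ?_⟩
      rcases Finset.mem_insert.1 hd with rfl | hd
      · exact hm' a (Ideal.pow_le_pow_right (le_max_right m m') ha)
      · exact hm d hd a (Ideal.pow_le_pow_right (le_max_left m m') ha)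
  obtain ⟨m, hm⟩ := hfin r (hr ▸ Submodule.subset_span)
  refine mem_powTors_iff.2 ⟨m + n, fun a ha => ?_⟩
  rw [pow_add] at ha
  refine Submodule.mul_induction_on ha (fun u hu v hv => ?_) fun u v hu hv => by
    rw [add_smul, hu, hv, add_zero]
  rw [mul_smul]
  rw [← hr] at hv
  exact Submodule.span_induction (p := fun v _ => u • v • x = 0) (fun c hc => hm c hc u hu)
    (by simp) (fun v w _ _ h1 h2 => by rw [add_smul, smul_add, h1, h2, add_zero])
    (fun k v _ h1 => by rw [smul_eq_mul, mul_smul, smul_comm u k, h1, smul_zero]) hv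

variable (R' : Type u) [CommRing R'] [Algebra R R']

section Zero

variable (I : Ideal R) (T : Type u) [AddCommGroup T] [Module R T]

/-- Torsion commutes with flat base change. -/
theorem range_baseChange_powTors [Module.Flat R R'] :
    LinearMap.range ((powTors I T).subtype.baseChange R') =
      powTors (I.map (algebraMap R R')) (R' ⊗[R] T) := by
  classical
  refine le_antisymm ?_ ?_
  · rintro _ ⟨z, rfl⟩
    induction z with
    | zero => rw [map_zero]; exact zero_mem _
    | tmul r t =>
      obtain ⟨n, hn⟩ := mem_powTors_iff.1 t.2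
      refine mem_powTors_iff.2 ⟨n, fun b hb => ?_⟩
      rw [LinearMap.baseChange_tmul]
      rw [← Ideal.map_pow] at hb
      refine Submodule.span_induction (p := fun b _ => b • (r ⊗ₜ[R] (t : T)) = 0) ?_ (zero_smul _ _) ?_ ?_ hb
      · rintro _ ⟨a, ha, rfl⟩
        rw [algebraMap_smul, ← tmul_smul, hn a ha, tmul_zero]
      · intro c d _ _ hc hd
        rw [add_smul, hc, hd, add_zero]
      · intro c d _ hd
        rw [smul_eq_mul, mul_smul, hd, smul_zero]
    | add a b ha hb => rw [map_add]; exact add_mem ha hb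
  · intro z hz
    have hex : Function.Exact ((powTors I T).subtype.baseChange R') ((powTors I T).mkQ.baseChange R') :=
      lTensor_exact R' (LinearMap.exact_subtype_mkQ _) (Submodule.mkQ_surjective _)
    refine (hex z).1 ?_
    obtain ⟨n, hn⟩ := mem_powTors_iff.1 hz
    have hn' : ∀ r ∈ (I.map (algebraMap R R')) ^ n, r • (powTors I T).mkQ.baseChange R' z = 0 :=
      fun r hr => by rw [← map_smul, hn r hr, map_zero]
    clear hn hz hex
    generalize (powTors I T).mkQ.baseChange R' z = y at hn' ⊢
    obtain ⟨s, hs⟩ : I.FG := IsNoetherian.noetherian I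
    let ψ : (T ⧸ powTors I T) →ₗ[R] (↥s → T ⧸ powTors I T) :=
      LinearMap.pi fun a => (a : R) • LinearMap.id
    have hψ : Function.Injective ψ := by
      rw [injective_iff_map_eq_zero]
      intro x hx
      rw [← Submodule.mem_bot R, ← powTors_quotient_eq_bot I T]
      refine mem_powTors_iff.2 ⟨1, fun a ha => ?_⟩
      rw [pow_one, ← hs] at ha
      exact Submodule.span_induction (p := fun a _ => a • x = 0)
        (fun a ha => congrFun hx ⟨a, ha⟩) (zero_smul R _)
        (fun a b _ _ h1 h2 => by rw [add_smul, h1, h2, add_zero])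
        (fun c a _ h1 => by rw [smul_eq_mul, mul_smul, h1, smul_zero]) ha
    have hψ' : Function.Injective (ψ.baseChange R') := Module.Flat.lTensor_preserves_injective_linearMap ψ hψ
    induction n generalizing y with
    | zero => simpa using hn' 1 (by simp)
    | succ n ih =>
      refine hψ' ?_
      rw [map_zero]
      apply (TensorProduct.piRight R R' R' (fun _ : ↥s => T ⧸ powTors I T)).injective
      rw [map_zero]
      funext a
      have h1 : ∀ w : R' ⊗[R] (T ⧸ powTors I T),
          TensorProduct.piRight R R' R' (fun _ : ↥s => T ⧸ powTors I T) (ψ.baseChange R' w) a =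
            algebraMap R R' a • w := fun w => by
        induction w with
        | zero => simp
        | tmul r t => simp [ψ]
        | add u v hu hv => simp only [map_add, Pi.add_apply, hu, hv, smul_add]
      rw [h1]
      refine ih _ fun r hr => ?_
      rw [← mul_smul]
      exact hn' _ (by rw [pow_succ]; exact Ideal.mul_mem_mul hr (Ideal.mem_map_of_mem _ (hs ▸ Ideal.subset_span a.2)))

/-- The torsion of the base change. -/
def powTorsBaseChange [Module.Flat R R'] :
    R' ⊗[R] powTors I T ≃ₗ[R'] powTors (I.map (algebraMap R R')) (R' ⊗[R] T) :=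
  LinearEquiv.ofInjective ((powTors I T).subtype.baseChange R')
    (Module.Flat.lTensor_preserves_injective_linearMap _ (Submodule.injective_subtype _)) ≪≫ₗ
    LinearEquiv.ofEq _ _ (range_baseChange_powTors R' I T)

theorem powTorsBaseChange_coe [Module.Flat R R'] (z : R' ⊗[R] powTors I T) :
    (powTorsBaseChange R' I T z : R' ⊗[R] T) = (powTors I T).subtype.baseChange R' z := rfl

end Zero

variable [IsNoetherianRing R']

theorem exists_h1Map {S : Type u} [CommRing S] [IsNoetherianRing S] (J : Ideal S) {A B C : Type u}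
    [AddCommGroup A] [Module S A] [AddCommGroup B] [Module S B] [AddCommGroup C] [Module S C]
    {f : A →ₗ[S] B} {g : B →ₗ[S] C} (hf : Function.Injective f) (hg : Function.Surjective g)
    (hfg : Function.Exact f g) (hac : Subsingleton (LocCoh.H J 1 B)) :
    ∃ d : powTors J C →ₗ[S] LocCoh.H J 1 A, Function.Surjective d ∧
      ∀ c, d c = 0 ↔ ∃ b ∈ powTors J B, g b = c.1 := by
  obtain ⟨e⟩ := nonempty_h1Equiv J hf hg hfg hac
  refine ⟨e.toLinearMap ∘ₗ (torsImage J g).mkQ, e.surjective.comp (Submodule.mkQ_surjective _), fun c => ?_⟩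
  change e ((torsImage J g).mkQ c) = 0 ↔ _
  rw [map_eq_zero_iff e e.injective, Submodule.mkQ_apply, Submodule.Quotient.mk_eq_zero, mem_torsImage]

/-- The base change of an injective module is acyclic. -/
theorem subsingleton_baseChange_injective [Module.Flat R R'] (I : Ideal R) (E : Type u) [AddCommGroup E]
    [Module R E] (hE : Module.Injective R E) (i : ℕ) :
    Subsingleton (LocCoh.H (I.map (algebraMap R R')) (i + 1) (R' ⊗[R] E)) := by
  classical
  obtain ⟨s, hs⟩ : I.FG := IsNoetherian.noetherian I
  rw [show I.map (algebraMap R R') = Ideal.span ((s.image (algebraMap R R') : Finset R') : Set R') by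
    rw [← hs, Finset.coe_image]; exact Ideal.map_span _ _]
  refine acyclic_of_class (fun M => ∃ (T : Type u) (_ : AddCommGroup T) (_ : Module R T),
    Module.Injective R T ∧ Nonempty (M ≃ₗ[R'] R' ⊗[R] T)) _ ?_ (ModuleCat.of R' (R' ⊗[R] E))
    ⟨E, inferInstance, inferInstance, hE, ⟨LinearEquiv.refl R' _⟩⟩ i
  rintro b hb M ⟨T, _, _, hT, ⟨e⟩⟩
  obtain ⟨a, -, rfl⟩ := Finset.mem_image.1 hb
  have hspan : (Ideal.span {a}).map (algebraMap R R') = Ideal.span {algebraMap R R' a} := by
    rw [Ideal.map_span, Set.image_singleton]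
  have hmap : ∀ x : M, x ∈ powTors (Ideal.span {algebraMap R R' a}) M ↔
      e x ∈ powTors ((Ideal.span {a}).map (algebraMap R R')) (R' ⊗[R] T) := fun x => by
    rw [hspan]
    simp only [mem_powTors_iff, ← map_smul, map_eq_zero_iff e e.injective]
  refine ⟨⟨powTors (Ideal.span {a}) T, inferInstance, inferInstance, injective_powTors hT _,
    ⟨(?_ : _ ≃ₗ[R'] powTors ((Ideal.span {a}).map (algebraMap R R')) (R' ⊗[R] T)) ≪≫ₗ
      (powTorsBaseChange R' (Ideal.span {a}) T).symm⟩⟩, fun y => ?_⟩
  · exact { toFun := fun x => ⟨e x.1, (hmap _).1 x.2⟩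
            invFun := fun y => ⟨e.symm y.1, (hmap _).2 (by rw [e.apply_symm_apply]; exact y.2)⟩
            map_add' := fun x y => Subtype.ext (map_add e x.1 y.1)
            map_smul' := fun r x => Subtype.ext (map_smul e r x.1)
            left_inv := fun x => Subtype.ext (e.symm_apply_apply x.1)
            right_inv := fun y => Subtype.ext (e.apply_symm_apply y.1) }
  · suffices h : ∀ w : R' ⊗[R] T, ∃ z, algebraMap R R' a • z - w ∈
        powTors ((Ideal.span {a}).map (algebraMap R R')) (R' ⊗[R] T) by
      obtain ⟨z, hz⟩ := h (e y)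
      refine ⟨e.symm z, (hmap _).2 ?_⟩
      rwa [map_sub, map_smul, e.apply_symm_apply]
    intro w
    induction w with
    | zero => exact ⟨0, by simp⟩
    | tmul r t =>
      obtain ⟨z, hz⟩ := exists_smul_sub_mem_of_injective hT a t
      refine ⟨r ⊗ₜ z, ?_⟩
      rw [← range_baseChange_powTors]
      exact ⟨r ⊗ₜ ⟨_, hz⟩, by
        rw [LinearMap.baseChange_tmul, algebraMap_smul, ← tmul_smul, ← tmul_sub]; rfl⟩
    | add u v hu hv =>
      obtain ⟨z, hz⟩ := hu
      obtain ⟨z', hz'⟩ := hv
      exact ⟨z + z', by rw [smul_add, add_sub_add_comm]; exact add_mem hz hz'⟩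

/-- Base change of a linear equivalence. -/
def baseChangeCongr {A B : Type u} [AddCommGroup A] [Module R A] [AddCommGroup B] [Module R B]
    (e : A ≃ₗ[R] B) : R' ⊗[R] A ≃ₗ[R'] R' ⊗[R] B :=
  e.baseChange R R'

theorem nonempty_baseChange_H_one [Module.Flat R R'] (I : Ideal R) {M E C : Type u} [AddCommGroup M]
    [Module R M] [AddCommGroup E] [Module R E] [AddCommGroup C] [Module R C] {f : M →ₗ[R] E}
    {g : E →ₗ[R] C} (hf : Function.Injective f) (hg : Function.Surjective g)
    (hfg : Function.Exact f g) (hac : Subsingleton (LocCoh.H I (0 + 1) E))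
    (hac' : Subsingleton (LocCoh.H (I.map (algebraMap R R')) (0 + 1) (R' ⊗[R] E))) :
    Nonempty (R' ⊗[R] LocCoh.H I 1 M ≃ₗ[R'] LocCoh.H (I.map (algebraMap R R')) 1 (R' ⊗[R] M)) := by
  have hf' : Function.Injective (f.baseChange R') := Module.Flat.lTensor_preserves_injective_linearMap _ hf
  have hg' : Function.Surjective (g.baseChange R') := LinearMap.lTensor_surjective R' hg
  have hfg' : Function.Exact (f.baseChange R') (g.baseChange R') := lTensor_exact R' hfg hg
  obtain ⟨d, hd, hdk⟩ := exists_h1Map I hf hg hfg hac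
  obtain ⟨T₂, hT₂, hT₂k⟩ := exists_h1Map (I.map (algebraMap R R')) hf' hg' hfg' hac'
  have hmem : ∀ x : powTors I E, g x.1 ∈ powTors I C := fun x =>
    mem_powTors_iff.2 ((mem_powTors_iff.1 x.2).imp fun n hn r hr => by
      rw [← map_smul, hn r hr, map_zero])
  let γ : powTors I E →ₗ[R] powTors I C :=
    LinearMap.codRestrict _ (g ∘ₗ (powTors I E).subtype) hmem
  have hγd : Function.Exact γ d := fun c => by
    rw [hdk]
    exact ⟨fun ⟨b, hb, hbc⟩ => ⟨⟨b, hb⟩, Subtype.ext hbc⟩,
      fun ⟨b, hb⟩ => ⟨b.1, b.2, congrArg Subtype.val hb⟩⟩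
  let D₁ : R' ⊗[R] powTors I C →ₗ[R'] R' ⊗[R] LocCoh.H I 1 M := d.baseChange R'
  let D₂ : R' ⊗[R] powTors I C →ₗ[R'] LocCoh.H (I.map (algebraMap R R')) 1 (R' ⊗[R] M) :=
    T₂.comp (powTorsBaseChange R' I C).toLinearMap
  have hD₁ : Function.Surjective D₁ := LinearMap.lTensor_surjective R' hd
  have hD₂ : Function.Surjective D₂ :=
    hT₂.comp (powTorsBaseChange R' I C).surjective
  have hex1 : Function.Exact (γ.baseChange R') D₁ := lTensor_exact R' hγd hd
  have hcomm : ∀ z : R' ⊗[R] powTors I E,
      g.baseChange R' ((powTors I E).subtype.baseChange R' z) =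
        (powTors I C).subtype.baseChange R' (γ.baseChange R' z) := fun z => by
    rw [← LinearMap.comp_apply, ← LinearMap.comp_apply, ← LinearMap.baseChange_comp,
      ← LinearMap.baseChange_comp]
    rfl
  have hker : LinearMap.ker D₁ = LinearMap.ker D₂ := by
    ext z
    rw [LinearMap.mem_ker, hex1 z, LinearMap.mem_ker]
    change _ ↔ T₂ (powTorsBaseChange R' I C z) = 0
    rw [hT₂k]
    constructor
    · rintro ⟨y, rfl⟩
      refine ⟨(powTors I E).subtype.baseChange R' y, ?_, ?_⟩
      swap
      · rw [powTorsBaseChange_coe]; exact hcomm y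
      rw [← range_baseChange_powTors]
      exact ⟨y, rfl⟩
    · rintro ⟨b, hb, hbc⟩
      rw [← range_baseChange_powTors] at hb
      obtain ⟨y, rfl⟩ := hb
      rw [hcomm] at hbc
      exact ⟨y, Module.Flat.lTensor_preserves_injective_linearMap _
        (Submodule.injective_subtype (powTors I C)) hbc⟩
  exact ⟨(D₁.quotKerEquivOfSurjective hD₁).symm ≪≫ₗ Submodule.quotEquivOfEq _ _ hker ≪≫ₗ
    D₂.quotKerEquivOfSurjective hD₂⟩

/-- Flat base change for local cohomology. -/
theorem nonempty_baseChange_H [Module.Flat R R'] (I : Ideal R) (i : ℕ) :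
    ∀ (M : Type u) [AddCommGroup M] [Module R M], Nonempty (R' ⊗[R] LocCoh.H I i M ≃ₗ[R']
      LocCoh.H (I.map (algebraMap R R')) i (R' ⊗[R] M)) := by
  induction i with
  | zero =>
    intro M _ _
    exact ⟨(zeroEquiv I M).baseChange R R' ≪≫ₗ powTorsBaseChange R' I M ≪≫ₗ (zeroEquiv _ _).symm⟩
  | succ i ih =>
    intro M _ _
    obtain ⟨E, _, _, f, hE, hf, hac⟩ := exists_injective_extension (R := R) M
    let g : E →ₗ[R] E ⧸ LinearMap.range f := Submodule.mkQ _
    have hg : Function.Surjective g := Submodule.mkQ_surjective _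
    have hfg : Function.Exact f g := f.exact_map_mkQ_range
    have hf' : Function.Injective (f.baseChange R') := Module.Flat.lTensor_preserves_injective_linearMap _ hf
    have hg' : Function.Surjective (g.baseChange R') := LinearMap.lTensor_surjective R' hg
    have hfg' : Function.Exact (f.baseChange R') (g.baseChange R') := lTensor_exact R' hfg hg
    have hac' := subsingleton_baseChange_injective R' I E hE
    cases i with
    | succ i =>
      obtain ⟨e⟩ := ih (E ⧸ LinearMap.range f)
      let e₁ : LocCoh.H I (i + 1 + 1) M ≃ₗ[R] LocCoh.H I (i + 1) (E ⧸ LinearMap.range f) :=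
        (δEquiv I hf hg hfg (i + 1) (hac I i) (hac I (i + 1))).symm
      let e₂ : LocCoh.H (I.map (algebraMap R R')) (i + 1) (R' ⊗[R] (E ⧸ LinearMap.range f)) ≃ₗ[R']
          LocCoh.H (I.map (algebraMap R R')) (i + 1 + 1) (R' ⊗[R] M) :=
        δEquiv _ hf' hg' hfg' (i + 1) (hac' i) (hac' (i + 1))
      exact ⟨(baseChangeCongr R' e₁).trans (e.trans e₂)⟩
    | zero => exact nonempty_baseChange_H_one R' I hf hg hfg (hac I 0) (hac' 0)

end Groth.Agent.LocCohLib
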