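import Groth.Agent.Lib.LocCoh.Faltings27
import Groth.Agent.Lib.LocCoh.AdjDepth27
import Groth.Prelude.Def_SGA2

/-!
# Faltings' annihilator and finiteness theorems for quotients of regular rings
-/

set_option autoImplicit false
universe u

open CategoryTheory Groth.Agent.InjHullLib IsLocalRing

noncomputable section

namespace Groth.Agent.LocCohLib

theorem depth_eq_top_of_not_mem_support {R : Type u} [CommRing R] {M : Type u} [AddCommGroup M] [Module R M]
    (p : PrimeSpectrum R) (h : p ∉ Module.support R M) :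
    LocCoh.depth (Localization.AtPrime p.asIdeal) (LocalizedModule p.asIdeal.primeCompl M) = ⊤ := by
  haveI : Subsingleton (LocalizedModule p.asIdeal.primeCompl M) := Module.notMem_support_iff.1 h
  exact DepthLib.idealDepth_of_smul_top_eq_top (Subsingleton.elim _ _)

/-- Transfer of a lower bound for the adjusted depths along a surjection. -/
theorem lt_adjDepth_of_surjective {S A : Type u} [CommRing S] [CommRing A] [IsNoetherianRing S]
    [IsNoetherianRing A] [Algebra S A] (hπ : Function.Surjective (algebraMap S A)) (a : Ideal A) {M : Type u}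
    [AddCommGroup M] [Module A M] [Module S M] [IsScalarTower S A M] [Module.Finite A M] (s : A) (s' : S)
    (hs : algebraMap S A s' = s) (i : ℕ) (h : ∀ P : PrimeSpectrum A, s ∉ P.asIdeal → (i : ℕ∞) < LocCoh.adjDepth a M P)
    (p : PrimeSpectrum S) (hp : s' ∉ p.asIdeal) :
    (i : ℕ∞) < LocCoh.adjDepth (a.comap (algebraMap S A)) M p := by
  by_cases hker : RingHom.ker (algebraMap S A) ≤ p.asIdeal
  · let P : PrimeSpectrum A :=
      ⟨p.asIdeal.map (algebraMap S A), Ideal.map_isPrime_of_surjective hπ hker⟩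
    have hP : PrimeSpectrum.comap (algebraMap S A) P = p := PrimeSpectrum.ext (by
      show (p.asIdeal.map (algebraMap S A)).comap _ = _
      rw [Ideal.comap_map_of_surjective _ hπ, ← RingHom.ker_eq_comap_bot, sup_of_le_left hker])
    have hlift : ∀ x : PrimeSpectrum S, RingHom.ker (algebraMap S A) ≤ x.asIdeal →
        ∃ X : PrimeSpectrum A, PrimeSpectrum.comap (algebraMap S A) X = x := fun x hx =>
      ⟨⟨x.asIdeal.map (algebraMap S A), Ideal.map_isPrime_of_surjective hπ hx⟩, PrimeSpectrum.ext (by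
        show (x.asIdeal.map (algebraMap S A)).comap _ = _
        rw [Ideal.comap_map_of_surjective _ hπ, ← RingHom.ker_eq_comap_bot, sup_of_le_left hx])⟩
    have hout : ∀ Q : PrimeSpectrum A, algebraMap S A 1 ∉ Q.asIdeal := fun Q => by
      rw [map_one]; exact fun h => Q.isPrime.ne_top ((Ideal.eq_top_iff_one _).2 h)
    obtain ⟨-, heq⟩ := minAdjDepth_le_change (S := A) (a.comap (algebraMap S A)) (LinearMap.id : M →ₗ[S] M)
      (fun I => Ideal.map_comap_of_surjective _ hπ I)
      (fun Q x _ ⟨P', hP'⟩ => hlift x (le_trans (fun z hz => by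
        show algebraMap S A z ∈ P'.asIdeal
        rw [RingHom.mem_ker.1 hz]; exact zero_mem _) hP'))
      (fun Q x => ⟨1, hout Q, by
        obtain ⟨b, rfl⟩ := hπ x
        exact ⟨b, by rw [map_one, one_mul]⟩⟩)
      (fun Q n => ⟨1, hout Q, n, one_smul _ _⟩) (fun Q m hm => ⟨1, hout Q, by rw [one_smul]; exact hm⟩) P
    rw [← hP, heq fun x hx => hlift x ((hker.trans hP.ge).trans hx),
      Ideal.map_comap_of_surjective _ hπ]
    refine h P fun hsP => hp ?_
    have : s' ∈ (PrimeSpectrum.comap (algebraMap S A) P).asIdeal := by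
      show algebraMap S A s' ∈ P.asIdeal
      rw [hs]; exact hsP
    rwa [hP] at this
  · have hsupp : p ∉ Module.support S M := fun h => hker fun z hz => Module.annihilator_le_of_mem_support h
      (Module.mem_annihilator.2 fun m => by rw [← algebraMap_smul A z m, RingHom.mem_ker.1 hz, zero_smul])
    rw [LocCoh.adjDepth, depth_eq_top_of_not_mem_support p hsupp, top_add]
    exact ENat.natCast_lt_top i

/-- **Faltings' annihilator theorem** over a quotient of a regular ring. -/
theorem exists_pow_smul_H_eq_zero_quot (S : Type u) [CommRing S] [IsRegularRing S] (A : Type u) [CommRing A]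
    [IsNoetherianRing A] (π : S →+* A) (hπ : Function.Surjective π) (a : Ideal A) (M : Type u) [AddCommGroup M]
    [Module A M] [Module.Finite A M] (s : A) (i : ℕ)
    (h : ∀ P : PrimeSpectrum A, s ∉ P.asIdeal → (i : ℕ∞) < LocCoh.adjDepth a M P) :
    ∃ n : ℕ, ∀ y : LocCoh.H a i M, s ^ n • y = 0 := by
  letI : Algebra S A := π.toAlgebra
  letI : Module S M := Module.compHom M π
  haveI : IsScalarTower S A M := ⟨fun r x m => by
    show (π r * x) • m = π r • x • m
    rw [mul_smul]⟩
  haveI : Module.Finite S A := Module.Finite.of_surjective (Algebra.linearMap S A) hπ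
  haveI : Module.Finite S M := Module.Finite.trans A M
  obtain ⟨s', hs'⟩ := hπ s
  obtain ⟨n, hn⟩ := exists_pow_smul_H_eq_zero (a.comap (algebraMap S A)) M s' i
    fun p hp => lt_adjDepth_of_surjective hπ a s s' hs' i h p hp
  refine ⟨n, fun y => ?_⟩
  have hmap : (a.comap (algebraMap S A)).map (algebraMap S A) = a := Ideal.map_comap_of_surjective _ hπ a
  obtain ⟨φ, hφ⟩ := exists_restrictScalars_addEquiv A (a.comap (algebraMap S A)) i M
  have key : ∀ z : LocCoh.H ((a.comap (algebraMap S A)).map (algebraMap S A)) i M, s ^ n • z = 0 := fun z => by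
    refine φ.injective ?_
    rw [map_zero, ← hs', ← map_pow]
    exact (hφ (s' ^ n) z).trans (hn _)
  rw [hmap] at key
  exact key y

theorem exists_pred_prime {R : Type u} [CommRing R] [IsNoetherianRing R] (I : Ideal R) (p : PrimeSpectrum R)
    (hI : ¬ I ≤ p.asIdeal) {h : ℕ} (hh : ((I ⊔ p.asIdeal).map (Ideal.Quotient.mk p.asIdeal)).height = h) :
    ∃ p' q : PrimeSpectrum R, p ≤ p' ∧ ¬ I ≤ p'.asIdeal ∧ I ≤ q.asIdeal ∧ p' ⋖ q ∧
      (p'.asIdeal.map (Ideal.Quotient.mk p.asIdeal)).height < h := by
  obtain ⟨q', hq', hIq, hqht⟩ := Ideal.exists_isPrime_height_eq (n := h) hh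
  let π := Ideal.Quotient.mk p.asIdeal
  let q : Ideal R := q'.comap π
  have : q.IsPrime := hq'.comap _
  have hle : I ⊔ p.asIdeal ≤ q := Ideal.map_le_iff_le_comap.1 hIq
  obtain ⟨c, hcI, hcp⟩ := SetLike.not_le_iff_exists.1 hI
  have hcq : c ∈ q := hle (Ideal.mem_sup_left hcI)
  obtain ⟨s, ⟨hs, hps, hsq, hcs⟩, hmax⟩ := exists_maximal_of_wellFoundedGT
    (fun s : Ideal R => s.IsPrime ∧ p.asIdeal ≤ s ∧ s < q ∧ c ∉ s)
    ⟨p.asIdeal, inferInstance, le_rfl, lt_of_le_of_ne (le_sup_right.trans hle) fun e => hcp (e.symm ▸ hcq), hcp⟩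
  refine ⟨⟨s, hs⟩, ⟨q, this⟩, hps, fun hIs => hcs (hIs hcI), le_sup_left.trans hle,
    ⟨hsq, fun {t} hst htq => ?_⟩, ?_⟩
  · obtain ⟨t', ht', hst', htq', hct'⟩ :=
      DepthLib.exists_prime_between_not_mem hsq ⟨t.asIdeal, t.isPrime, hst, htq⟩ hcq hcs
    exact hst'.not_ge (hmax ⟨ht', hps.trans hst'.le, htq', hct'⟩ hst'.le)
  · show (s.map π).height < h
    have : (s.map π).IsPrime :=
      Ideal.map_isPrime_of_surjective Ideal.Quotient.mk_surjective (Ideal.mk_ker.trans_le hps)
    have hqmap : q.map π = q' := Ideal.map_comap_of_surjective π Ideal.Quotient.mk_surjective q'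
    refine hqht ▸ Ideal.height_strict_mono_of_isPrime (lt_of_le_of_ne ((Ideal.map_mono hsq.le).trans hqmap.le)
      fun e => hsq.ne ?_)
    calc s = (s.map π).comap π := by
          rw [Ideal.comap_map_of_surjective π Ideal.Quotient.mk_surjective, ← RingHom.ker_eq_comap_bot,
            Ideal.mk_ker, sup_of_le_left hps]
      _ = q := by rw [e]

/-- **The finiteness theorem**: finiteness up to degree `n` in terms of depth in codimension one off `I`. -/
theorem finite_H_iff_depth (S : Type u) [CommRing S] [IsRegularRing S] (A : Type u) [CommRing A]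
    [IsNoetherianRing A] (π : S →+* A) (hπ : Function.Surjective π) (I : Ideal A) (M : Type u)
    [AddCommGroup M] [Module A M] [Module.Finite A M] (n : ℕ) :
    (∀ i : ℕ, i ≤ n → Module.Finite A (LocCoh.H I i M)) ↔
      ∀ p q : PrimeSpectrum A, ¬ I ≤ p.asIdeal → I ≤ q.asIdeal → p ⋖ q →
        (n : ℕ∞) ≤ LocCoh.depth (Localization.AtPrime p.asIdeal) (LocalizedModule p.asIdeal.primeCompl M) := by
  constructor
  · intro hfin p q hp hq hpq
    obtain ⟨J, hJ, hkill⟩ := (finite_iff_annihilated I M n).1 hfin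
    have hlow : ((n + 1 : ℕ) : ℕ∞) ≤ LocCoh.finDimRel I I M := le_iInf₂ fun i hi => by
      by_contra hlt
      refine hi (hJ.trans (Ideal.radical_mono fun a ha => Module.mem_annihilator.2 fun x => hkill i ?_ a ha x))
      have : i < n + 1 := by exact_mod_cast not_le.1 hlt
      omega
    have h1 := hlow.trans (finDimRel_le_adjDepth I I M p hp)
    have hht : ((I ⊔ p.asIdeal).map (Ideal.Quotient.mk p.asIdeal)).height ≤ 1 := by
      refine (Ideal.height_mono (Ideal.map_mono (sup_le hq hpq.le))).trans ?_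
      refine WithBot.coe_le_coe.1 ((height_map_quotient p q hpq.le).trans_le ?_)
      refine Order.krullDim_le_one_iff.2 fun x => ?_
      rcases hpq.eq_or_eq x.2.1 x.2.2 with hx | hx
      · exact Or.inl fun y _ => show x.1 ≤ y.1 from hx.le.trans y.2.1
      · exact Or.inr fun y _ => show y.1 ≤ x.1 from y.2.2.trans hx.ge
    have h2 := h1.trans (add_le_add le_rfl hht)
    rw [Nat.cast_succ] at h2
    exact (ENat.addLECancellable_of_ne_top ENat.one_ne_top).add_le_add_iff_right.1 h2
  · intro hdepth
    have hadj : ∀ p : PrimeSpectrum A, ¬ I ≤ p.asIdeal → (n : ℕ∞) < LocCoh.adjDepth I M p := fun p hp => by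
      unfold LocCoh.adjDepth
      cases hd : LocCoh.depth (Localization.AtPrime p.asIdeal) (LocalizedModule p.asIdeal.primeCompl M) with
      | top => rw [top_add]; exact ENat.natCast_lt_top n
      | coe d =>
      cases hh : ((I ⊔ p.asIdeal).map (Ideal.Quotient.mk p.asIdeal)).height with
      | top => rw [add_top]; exact ENat.natCast_lt_top n
      | coe h =>
      obtain ⟨p', q, hpp, hp', hq, hcov, hlt⟩ := exists_pred_prime I p hp hh
      obtain ⟨r, hr⟩ := ENat.ne_top_iff_exists.1 hlt.ne_top
      have h1 := (hdepth p' q hp' hq hcov).trans (depth_localization_le M p.asIdeal p'.asIdeal hpp)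
      rw [hd, ← hr] at h1
      rw [← hr] at hlt
      norm_cast at h1 hlt ⊢
      omega
    have hJ : ∀ x ∈ I, ∀ i ≤ n, ∃ m : ℕ, ∀ y : LocCoh.H I i M, x ^ m • y = 0 := fun x hx i hi =>
      exists_pow_smul_H_eq_zero_quot S A π hπ I M x i fun P hP =>
        lt_of_le_of_lt (by exact_mod_cast hi) (hadj P fun hle => hP (hle hx))
    let J : Ideal A := ⨅ i : Fin (n + 1), Module.annihilator A (LocCoh.H I i M)
    refine finite_of_annihilated I n M ⟨J, fun x hx => ?_, fun i hi a ha y => ?_⟩
    · choose m hm using hJ x hx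
      refine ⟨∑ i : Fin (n + 1), m i (by omega), (Submodule.mem_iInf _).2 fun i => Module.mem_annihilator.2 fun y => ?_⟩
      rw [← Finset.sum_erase_add _ _ (Finset.mem_univ i), pow_add, mul_smul, hm, smul_zero]
    · exact Module.mem_annihilator.1 ((Submodule.mem_iInf _).1 ha ⟨i, by omega⟩) y

end Groth.Agent.LocCohLib
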