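import Groth.Prelude.Def_W4bk5brsh7111920
import Mathlib.Topology.NoetherianSpace
import Mathlib.Topology.KrullDimension
import Mathlib.RingTheory.KrullDimension.NonZeroDivisors
import Mathlib.RingTheory.Spectrum.Prime.Topology

/-!
# Connectedness dimension
-/

set_option autoImplicit false

universe u

open Topology TopologicalSpace Set

namespace Groth.Agent.LocCohLib

variable {T : Type u} [TopologicalSpace T]

theorem dim_mono {Y Z : Set T} (h : Y ⊆ Z) : topologicalKrullDim Y ≤ topologicalKrullDim Z :=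
  (IsEmbedding.inclusion h).isInducing.topologicalKrullDim_le

theorem dim_univ : topologicalKrullDim ↥(univ : Set T) = topologicalKrullDim T :=
  IsHomeomorph.topologicalKrullDim_eq _ (Homeomorph.Set.univ T).isHomeomorph

theorem connDim_le {Z : Set T} (hZ : IsClosed Z) (h : ¬ IsConnected Zᶜ) :
    LocCoh.connDim T ≤ topologicalKrullDim Z :=
  iInf₂_le Z ⟨hZ, h⟩

variable [NoetherianSpace T]

theorem not_subset_sUnion {K : Set T} (hK : K ∈ irreducibleComponents T) {B : Set (Set T)}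
    (hB : B ⊆ irreducibleComponents T) (hKB : K ∉ B) : ¬ K ⊆ ⋃₀ B := fun h => by
  have hfin := NoetherianSpace.finite_irreducibleComponents.subset hB
  obtain ⟨L, hL, hKL⟩ := isIrreducible_iff_sUnion_isClosed.1 hK.1 hfin.toFinset
    (fun L hL => isClosed_of_mem_irreducibleComponents L (hB (hfin.mem_toFinset.1 hL))) (by simpa using h)
  rw [hfin.mem_toFinset] at hL
  exact hKB (Set.Subset.antisymm hKL ((hK.2 (hB hL).1 hKL)) ▸ hL)

theorem isClosed_sUnion {B : Set (Set T)} (hB : B ⊆ irreducibleComponents T) : IsClosed (⋃₀ B) := by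
  rw [sUnion_eq_biUnion]
  exact (NoetherianSpace.finite_irreducibleComponents.subset hB).isClosed_biUnion fun L hL =>
    isClosed_of_mem_irreducibleComponents L (hB hL)

theorem connDim_eq [Nonempty T] : LocCoh.connDim T =
    ⨅ (A : Set (Set T)) (B : Set (Set T)) (_ : A ⊆ irreducibleComponents T ∧ B ⊆ irreducibleComponents T ∧
      A.Nonempty ∧ B.Nonempty ∧ A ∪ B = irreducibleComponents T), topologicalKrullDim ↥(⋃₀ A ∩ ⋃₀ B) := by
  let C := irreducibleComponents T
  have hCne : C.Nonempty := ⟨_, irreducibleComponent_mem_irreducibleComponents (Classical.arbitrary T)⟩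
  have hCU : ⋃₀ C = univ := sUnion_irreducibleComponents
  refine le_antisymm (le_iInf fun A => le_iInf₂ fun B hAB => ?_) (le_iInf₂ fun Z hZ => ?_)
  · obtain ⟨hA, hB, hAne, hBne, hu⟩ := hAB
    by_cases hCA : (C \ A).Nonempty
    · have hsub : ⋃₀ (C \ A) ⊆ ⋃₀ B := sUnion_mono fun K hK =>
        ((hu.symm ▸ hK.1 : K ∈ A ∪ B)).resolve_left hK.2
      refine (connDim_le (Z := ⋃₀ A ∩ ⋃₀ (C \ A))
        ((isClosed_sUnion hA).inter (isClosed_sUnion diff_subset)) fun hc => ?_).trans
        (dim_mono (inter_subset_inter_right _ hsub))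
      have hcov : ∀ x : T, x ∈ ⋃₀ A ∨ x ∈ ⋃₀ (C \ A) := fun x => by
        obtain ⟨K, hK, hxK⟩ := (hCU.symm ▸ mem_univ x : x ∈ ⋃₀ C)
        by_cases hKA : K ∈ A
        · exact Or.inl ⟨K, hKA, hxK⟩
        · exact Or.inr ⟨K, ⟨hK, hKA⟩, hxK⟩
      obtain ⟨K, hK⟩ := hAne
      obtain ⟨a, haK, ha⟩ := not_subset.1 (not_subset_sUnion (hA hK) (diff_subset (s := C) (t := A)) fun h => h.2 hK)
      obtain ⟨L, hL⟩ := hCA
      obtain ⟨b, hbL, hb⟩ := not_subset.1 (not_subset_sUnion hL.1 hA hL.2)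
      obtain ⟨x, hx, hx1, hx2⟩ := isPreconnected_closed_iff.1 hc.isPreconnected (⋃₀ A) (⋃₀ (C \ A))
        (isClosed_sUnion hA) (isClosed_sUnion diff_subset) (fun x _ => hcov x)
        ⟨a, fun h => ha h.2, K, hK, haK⟩ ⟨b, fun h => hb h.1, L, hL, hbL⟩
      exact hx ⟨hx1, hx2⟩
    · have hA' : A = C := hA.antisymm fun K hK => by_contra fun h => hCA ⟨K, hK, h⟩
      subst hA'
      rw [hCU, univ_inter]
      by_cases hCB : (C \ B).Nonempty
      · refine (connDim_le (Z := ⋃₀ B ∩ ⋃₀ (C \ B))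
          ((isClosed_sUnion hB).inter (isClosed_sUnion diff_subset)) fun hc => ?_).trans
          (dim_mono inter_subset_left)
        obtain ⟨K, hK⟩ := hBne
        obtain ⟨a, haK, ha⟩ := not_subset.1 (not_subset_sUnion (hB hK) (diff_subset (s := C) (t := B)) fun h => h.2 hK)
        obtain ⟨L, hL⟩ := hCB
        obtain ⟨b, hbL, hb⟩ := not_subset.1 (not_subset_sUnion hL.1 hB hL.2)
        have hcov : ∀ x : T, x ∈ ⋃₀ B ∨ x ∈ ⋃₀ (C \ B) := fun x => by
          obtain ⟨M, hM, hxM⟩ := (hCU.symm ▸ mem_univ x : x ∈ ⋃₀ C)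
          by_cases hMB : M ∈ B
          · exact Or.inl ⟨M, hMB, hxM⟩
          · exact Or.inr ⟨M, ⟨hM, hMB⟩, hxM⟩
        obtain ⟨x, hx, hx1, hx2⟩ := isPreconnected_closed_iff.1 hc.isPreconnected (⋃₀ B) (⋃₀ (C \ B))
          (isClosed_sUnion hB) (isClosed_sUnion diff_subset) (fun x _ => hcov x)
          ⟨a, fun h => ha h.2, K, hK, haK⟩ ⟨b, fun h => hb h.1, L, hL, hbL⟩
        exact hx ⟨hx1, hx2⟩
      · have hB' : B = C := hB.antisymm fun K hK => by_contra fun h => hCB ⟨K, hK, h⟩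
        subst hB'
        rw [hCU]
        exact connDim_le isClosed_univ (by simp [IsConnected])
  · by_cases hne : (Zᶜ).Nonempty
    swap
    · have hZu : Z = univ := compl_empty_iff.1 (not_nonempty_iff_eq_empty.1 hne)
      subst hZu
      exact (iInf_le_of_le C (iInf₂_le C ⟨subset_rfl, subset_rfl, hCne, hCne, union_self _⟩)).trans
        (dim_mono (subset_univ _))
    have hnp : ¬ IsPreconnected Zᶜ := fun h => hZ.2 ⟨hne, h⟩
    simp only [IsPreconnected] at hnp
    push Not at hnp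
    obtain ⟨U, V, hU, hV, hcov, hUne, hVne, hdis⟩ := hnp
    have hdis' : ∀ x, x ∉ Z → x ∈ U → x ∈ V → False := fun x h1 h2 h3 =>
      (Set.eq_empty_iff_forall_notMem.1 hdis) x ⟨h1, h2, h3⟩
    have hboth : ∀ K ∈ C, (K ∩ (Zᶜ ∩ U)).Nonempty → ¬ (K ∩ (Zᶜ ∩ V)).Nonempty := fun K hK h1 h2 => by
      obtain ⟨x, hxK, ⟨hxZ, hxU⟩, -, hxV⟩ := hK.1.2 _ _ (hZ.1.isOpen_compl.inter hU) (hZ.1.isOpen_compl.inter hV) h1 h2
      exact hdis' x hxZ hxU hxV
    let A : Set (Set T) := {K ∈ C | (K ∩ (Zᶜ ∩ U)).Nonempty ∨ K ⊆ Z}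
    let B : Set (Set T) := {K ∈ C | (K ∩ (Zᶜ ∩ V)).Nonempty}
    have hmeet : ∀ x, x ∈ Zᶜ → ∀ W : Set T, x ∈ W → ∃ K ∈ C, (K ∩ (Zᶜ ∩ W)).Nonempty := fun x hx W hW =>
      ⟨_, irreducibleComponent_mem_irreducibleComponents x, x, mem_irreducibleComponent, hx, hW⟩
    obtain ⟨xu, hxu, hxu'⟩ := hUne
    obtain ⟨xv, hxv, hxv'⟩ := hVne
    obtain ⟨Ku, hKu, hKu'⟩ := hmeet xu hxu U hxu'
    obtain ⟨Kv, hKv, hKv'⟩ := hmeet xv hxv V hxv'
    have hAB : A ⊆ irreducibleComponents T ∧ B ⊆ irreducibleComponents T ∧ A.Nonempty ∧ B.Nonempty ∧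
        A ∪ B = irreducibleComponents T := by
      refine ⟨fun K h => h.1, fun K h => h.1, ⟨Ku, hKu, Or.inl hKu'⟩, ⟨Kv, hKv, hKv'⟩,
        subset_antisymm (union_subset (fun K h => h.1) fun K h => h.1) fun K hK => ?_⟩
      by_cases hKZ : K ⊆ Z
      · exact Or.inl ⟨hK, Or.inr hKZ⟩
      obtain ⟨x, hxK, hxZ⟩ := not_subset.1 hKZ
      rcases hcov hxZ with h | h
      · exact Or.inl ⟨hK, Or.inl ⟨x, hxK, hxZ, h⟩⟩
      · exact Or.inr ⟨hK, x, hxK, hxZ, h⟩
    refine (iInf_le_of_le A (iInf₂_le B hAB)).trans (dim_mono ?_)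
    · rintro x ⟨⟨K, ⟨hK, hKA⟩, hxK⟩, L, ⟨hL, hLB⟩, hxL⟩
      by_contra hxZ
      rcases hcov hxZ with h | h
      · exact hboth L hL ⟨x, hxL, hxZ, h⟩ hLB
      · rcases hKA with hKA | hKA
        · exact hboth K hK hKA ⟨x, hxK, hxZ, h⟩
        · exact hxZ (hKA hxK)

theorem dim_lt_of_ssubset {K Y : Set T} (hK : IsIrreducible K) (hKc : IsClosed K) (hY : IsClosed Y)
    (hYK : Y ⊆ K) (hne : Y ≠ K) (hfin : topologicalKrullDim K < ⊤) :
    topologicalKrullDim Y < topologicalKrullDim K := by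
  have : IrreducibleSpace K :=
    { toPreirreducibleSpace := Subtype.preirreducibleSpace hK.2, toNonempty := hK.1.to_subtype }
  let top : IrreducibleCloseds K := ⟨univ, IrreducibleSpace.isIrreducible_univ K, isClosed_univ⟩
  let j : Y → K := Set.inclusion hYK
  have hj : IsClosedEmbedding j :=
    ⟨IsEmbedding.inclusion hYK, by rw [Set.range_inclusion]; exact hY.preimage continuous_subtype_val⟩
  have hlt : ∀ s : IrreducibleCloseds Y, IrreducibleCloseds.map j hj.continuous s < top := fun s => by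
    refine lt_of_le_of_ne (fun x _ => trivial) fun e => hne (hYK.antisymm fun x hx => ?_)
    have : (⟨x, hx⟩ : K) ∈ (IrreducibleCloseds.map j hj.continuous s : Set K) := e ▸ trivial
    rw [IrreducibleCloseds.coe_map] at this
    obtain ⟨y, hy⟩ := (closure_minimal (image_subset_range _ _) hj.isClosed_range) this
    have hy' : (y : T) = x := congrArg Subtype.val hy
    rw [← hy']; exact y.2
  have hmono := IrreducibleCloseds.map_strictMono_of_isInducing hj.isInducing
  by_cases hb : topologicalKrullDim Y = ⊥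
  · rw [hb]
    exact lt_of_lt_of_le (WithBot.bot_lt_coe (0 : ℕ∞)) (have : Nonempty (IrreducibleCloseds K) := ⟨top⟩; Order.krullDim_nonneg)
  obtain ⟨d, hd⟩ := WithBot.ne_bot_iff_exists.1 hb
  have hYfin : topologicalKrullDim Y < ⊤ := ((dim_mono hYK)).trans_lt hfin
  cases d with
  | top => rw [← hd] at hYfin; exact absurd hYfin (lt_irrefl _)
  | coe n =>
    obtain ⟨l, hl⟩ := Order.le_krullDim_iff.1 (le_of_eq hd : ((n : ℕ∞) : WithBot ℕ∞) ≤ topologicalKrullDim Y)
    let l' := (l.map _ hmono).snoc top (hlt _)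
    have h1 : ((n + 1 : ℕ) : WithBot ℕ∞) ≤ topologicalKrullDim K :=
      Order.le_krullDim_iff.2 ⟨l', by simp [l', hl]⟩
    rw [← hd]
    exact lt_of_lt_of_le (WithBot.coe_lt_coe.2 (Nat.cast_lt.2 (Nat.lt_succ_self n))) h1

theorem connDim_le_subdim [Nonempty T] (hfin : topologicalKrullDim T < ⊤) :
    LocCoh.connDim T ≤ LocCoh.subdim T ∧ (LocCoh.connDim T = LocCoh.subdim T ↔ IrreducibleSpace T) := by
  have hCne : (irreducibleComponents T).Nonempty :=
    ⟨_, irreducibleComponent_mem_irreducibleComponents (Classical.arbitrary T)⟩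
  have hle : ∀ K ∈ irreducibleComponents T, LocCoh.connDim T ≤ topologicalKrullDim K := fun K hK => by
    rw [connDim_eq]
    refine (iInf_le_of_le {K} (iInf₂_le (irreducibleComponents T) ⟨singleton_subset_iff.2 hK, subset_rfl,
      singleton_nonempty _, hCne, union_eq_self_of_subset_left (singleton_subset_iff.2 hK)⟩)).trans (dim_mono ?_)
    rw [sUnion_singleton]; exact inter_subset_left
  refine ⟨le_iInf₂ hle, fun heq => ?_, fun hirr => ?_⟩
  · by_contra hni
    obtain ⟨K, hK, hKmin⟩ := Set.exists_min_image _ (fun K : Set T => topologicalKrullDim K)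
      NoetherianSpace.finite_irreducibleComponents hCne
    have hsub : LocCoh.subdim T = topologicalKrullDim K := le_antisymm (iInf₂_le K hK) (le_iInf₂ hKmin)
    have hne : (irreducibleComponents T \ {K}).Nonempty := by
      by_contra h
      have hu : irreducibleComponents T = {K} :=
        subset_antisymm (fun L hL => by_contra fun hLK => h ⟨L, hL, hLK⟩) (singleton_subset_iff.2 hK)
      have hKu : K = univ := by
        rw [← sUnion_irreducibleComponents (X := T), hu, sUnion_singleton]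
      have h1 := hK.1
      rw [hKu] at h1
      exact hni ((irreducibleSpace_def T).2 h1)
    have hlt : topologicalKrullDim ↥(K ∩ ⋃₀ (irreducibleComponents T \ {K})) < topologicalKrullDim K := by
      refine dim_lt_of_ssubset hK.1 (isClosed_of_mem_irreducibleComponents K hK)
        ((isClosed_of_mem_irreducibleComponents K hK).inter (isClosed_sUnion diff_subset)) inter_subset_left
        (fun e => not_subset_sUnion hK (diff_subset (s := irreducibleComponents T) (t := {K})) (fun h => h.2 rfl)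
          (fun x hx => (e.symm ▸ hx : x ∈ K ∩ ⋃₀ (irreducibleComponents T \ {K})).2)) ((dim_mono (subset_univ _)).trans_lt (dim_univ.trans_lt hfin))
    refine hlt.not_ge ?_
    rw [← hsub, ← heq, connDim_eq]
    exact iInf_le_of_le {K} (le_of_le_of_eq (iInf₂_le (irreducibleComponents T \ {K})
      ⟨singleton_subset_iff.2 hK, diff_subset, singleton_nonempty _, hne,
        union_diff_cancel (singleton_subset_iff.2 hK)⟩) (by rw [sUnion_singleton]))
  · refine le_antisymm (le_iInf₂ hle) (le_iInf₂ fun Z hZ => ?_)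
    have hu : Z = univ := by
      by_contra hne
      exact hZ.2 ((PreirreducibleSpace.isPreirreducible_univ (X := T)).open_subset hZ.1.isOpen_compl (subset_univ _)
        |> fun h => IsIrreducible.isConnected ⟨Set.nonempty_compl.2 hne, h⟩)
    rw [hu]
    exact iInf₂_le univ (by rw [irreducibleComponents_eq_singleton]; exact rfl)

end Groth.Agent.LocCohLib

namespace Groth.Agent.LocCohLib

theorem dim_zeroLocus {R : Type u} [CommRing R] (I : Ideal R) :
    topologicalKrullDim (PrimeSpectrum.zeroLocus (I : Set R)) = ringKrullDim (R ⧸ I) := by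
  rw [← PrimeSpectrum.topologicalKrullDim_eq_ringKrullDim]
  have he := PrimeSpectrum.isClosedEmbedding_comap_of_surjective _ (Ideal.Quotient.mk I) Ideal.Quotient.mk_surjective
  refine (IsHomeomorph.topologicalKrullDim_eq _ ((he.isEmbedding.toHomeomorph).trans (Homeomorph.setCongr ?_)).isHomeomorph).symm
  rw [range_comap_of_surjective _ _ Ideal.Quotient.mk_surjective, Ideal.mk_ker]

theorem connDim_eq_of_two {R : Type u} [CommRing R] [IsNoetherianRing R] [Nontrivial R] (p q : Ideal R) (hpq : p ≠ q)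
    (hmin : minimalPrimes R = {p, q}) : LocCoh.connDim (PrimeSpectrum R) = ringKrullDim (R ⧸ (p ⊔ q)) := by
  have hC : irreducibleComponents (PrimeSpectrum R) =
      {PrimeSpectrum.zeroLocus (p : Set R), PrimeSpectrum.zeroLocus (q : Set R)} := by
    rw [← PrimeSpectrum.zeroLocus_minimalPrimes, hmin, Set.image_pair]
    rfl
  have hpP : p.IsPrime := Ideal.IsMinimalPrime.isPrime (hmin ▸ Or.inl rfl : p ∈ minimalPrimes R)
  have hqP : q.IsPrime := Ideal.IsMinimalPrime.isPrime (hmin ▸ Or.inr rfl : q ∈ minimalPrimes R)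
  have hne : PrimeSpectrum.zeroLocus (p : Set R) ≠ PrimeSpectrum.zeroLocus (q : Set R) := fun e => hpq (by
    have h1 : (⟨p, hpP⟩ : PrimeSpectrum R) ∈ PrimeSpectrum.zeroLocus (q : Set R) := e ▸ (le_refl p)
    have h2 : (⟨q, hqP⟩ : PrimeSpectrum R) ∈ PrimeSpectrum.zeroLocus (p : Set R) := e.symm ▸ (le_refl q)
    exact le_antisymm h2 h1)
  have hinter : PrimeSpectrum.zeroLocus (p : Set R) ∩ PrimeSpectrum.zeroLocus (q : Set R) =
      PrimeSpectrum.zeroLocus ((p ⊔ q : Ideal R) : Set R) := (PrimeSpectrum.zeroLocus_sup p q).symm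
  rw [connDim_eq, ← dim_zeroLocus]
  refine le_antisymm (iInf_le_of_le {PrimeSpectrum.zeroLocus (p : Set R)} (le_of_le_of_eq
    (iInf₂_le {PrimeSpectrum.zeroLocus (q : Set R)} ⟨by simp [hC], by simp [hC], singleton_nonempty _,
      singleton_nonempty _, by rw [hC]; rfl⟩) (by rw [sUnion_singleton, sUnion_singleton, hinter])))
    (le_iInf fun A => le_iInf₂ fun B hAB => dim_mono ?_)
  rw [← hinter]
  obtain ⟨hA, hB, ⟨K, hK⟩, ⟨L, hL⟩, -⟩ := hAB
  rintro x ⟨hxp, hxq⟩
  have : ∀ K ∈ irreducibleComponents (PrimeSpectrum R), x ∈ K := fun K hK => by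
    rw [hC] at hK
    rcases hK with rfl | rfl
    exacts [hxp, hxq]
  exact ⟨⟨K, hK, this K (hA hK)⟩, L, hL, this L (hB hL)⟩

end Groth.Agent.LocCohLib
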