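import Groth.Agent.Lib.LocCoh.Basic
import Groth.Agent.Lib.InjHull.Torsion

/-!
# `H^0_I`, and local cohomology of power torsion modules
-/

universe u

open CategoryTheory Opposite Limits Groth.Agent.InjHullLib

noncomputable section

namespace Groth.Agent.LocCohLib

variable {R : Type u} [CommRing R] (I : Ideal R) (M : Type u) [AddCommGroup M] [Module R M]

theorem zeroMap_ι (n : ℕ) (a : Abelian.Ext (Q I n) (ModuleCat.of R M) 0) :
    zeroMap I M (ι I 0 _ n a) = evalOne I M n a :=
  evalOne_eq I M _ a (exists_ι I 0 (ModuleCat.of R M) (ι I 0 _ n a)).choose_spec.choose_spec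

theorem zeroMap_injective : Function.Injective (zeroMap I M) := by
  rw [injective_iff_map_eq_zero]
  intro x hx
  obtain ⟨n, y, rfl⟩ := exists_ι I 0 _ x
  rw [zeroMap_ι] at hx
  rw [evalOne_injective I M n (hx.trans (map_zero (evalOne I M n)).symm), map_zero]

theorem range_zeroMap : LinearMap.range (zeroMap I M) = powTors I M := by
  apply le_antisymm
  · rintro _ ⟨x, rfl⟩
    obtain ⟨n, y, rfl⟩ := exists_ι I 0 _ x
    refine mem_powTors_iff.2 ⟨n, fun r hr => ?_⟩
    rw [← map_smul, smul_ι_eq_zero I 0 _ y hr, map_zero]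
  · intro x hx
    obtain ⟨n, hn⟩ := mem_powTors_iff.1 hx
    let g : Q I n ⟶ ModuleCat.of R M :=
      ModuleCat.ofHom (Submodule.liftQ (I ^ n) (LinearMap.toSpanSingleton R M x) fun r hr => hn r hr)
    refine ⟨ι I 0 _ n (Abelian.Ext.mk₀ g), ?_⟩
    rw [zeroMap_ι]
    change (Abelian.Ext.addEquiv₀ (Abelian.Ext.mk₀ g) : Q I n ⟶ ModuleCat.of R M).hom _ = _
    rw [show Abelian.Ext.addEquiv₀ (Abelian.Ext.mk₀ g) = g from
      Abelian.Ext.addEquiv₀.apply_symm_apply g]
    exact one_smul R x

/-- `H^0_I(M)` is the `I`-power torsion. -/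
def zeroEquiv : LocCoh.H I 0 M ≃ₗ[R] powTors I M :=
  LinearEquiv.ofInjective _ (zeroMap_injective I M) ≪≫ₗ LinearEquiv.ofEq _ _ (range_zeroMap I M)

variable {M}

theorem zeroMap_bijective (hM : LocCoh.IsPowerTorsion I M) : Function.Bijective (zeroMap I M) :=
  ⟨zeroMap_injective I M, LinearMap.range_eq_top.1 ((range_zeroMap I M).trans (isPowerTorsion_iff.1 hM))⟩

theorem zeroMap_natural {N : Type u} [AddCommGroup N] [Module R N] (f : M →ₗ[R] N)
    (x : LocCoh.H I 0 M) :
    zeroMap I N (((localCohomology I 0).map (ModuleCat.ofHom f)).hom x) = f (zeroMap I M x) := by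
  obtain ⟨n, y, rfl⟩ := exists_ι I 0 _ x
  rw [map_ι, zeroMap_ι, zeroMap_ι]
  obtain ⟨g, rfl⟩ := (Abelian.Ext.mk₀_bijective _ _).2 y
  rw [Abelian.Ext.mk₀_comp_mk₀]
  change (Abelian.Ext.addEquiv₀ (Abelian.Ext.mk₀ (g ≫ ModuleCat.ofHom f)) : Q I n ⟶ ModuleCat.of R N).hom _
    = f ((Abelian.Ext.addEquiv₀ (Abelian.Ext.mk₀ g) : Q I n ⟶ ModuleCat.of R M).hom _)
  rw [show Abelian.Ext.addEquiv₀ (Abelian.Ext.mk₀ g) = g from
      Abelian.Ext.addEquiv₀.apply_symm_apply g,
    show Abelian.Ext.addEquiv₀ (Abelian.Ext.mk₀ (g ≫ ModuleCat.ofHom f)) = g ≫ ModuleCat.ofHom f from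
      Abelian.Ext.addEquiv₀.apply_symm_apply _]
  rfl

theorem isPowerTorsion_of_injective {N : Type u} [AddCommGroup N] [Module R N] (f : M →ₗ[R] N)
    (hf : Function.Injective f) (hN : LocCoh.IsPowerTorsion I N) : LocCoh.IsPowerTorsion I M :=
  fun x => (hN (f x)).imp fun n hn a ha => hf (by rw [map_smul, map_zero, hn a ha])

theorem isPowerTorsion_of_surjective {N : Type u} [AddCommGroup N] [Module R N] (f : M →ₗ[R] N)
    (hf : Function.Surjective f) (hM : LocCoh.IsPowerTorsion I M) : LocCoh.IsPowerTorsion I N :=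
  fun y => by
    obtain ⟨x, rfl⟩ := hf y
    exact (hM x).imp fun n hn a ha => by rw [← map_smul, hn a ha, map_zero]

/-- A short exact sequence of modules, from linear maps. -/
theorem shortExact_mk {A B C : Type u} [AddCommGroup A] [Module R A] [AddCommGroup B] [Module R B]
    [AddCommGroup C] [Module R C] (f : A →ₗ[R] B) (g : B →ₗ[R] C) (hf : Function.Injective f)
    (hg : Function.Surjective g) (hfg : Function.Exact f g) :
    (ShortComplex.moduleCatMk f g hfg.linearMap_comp_eq_zero).ShortExact :=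
  ModuleCat.shortComplex_shortExact _ hfg hf hg

/-- If `H^i` of the middle and `H^{i+1}` of an injective middle vanish, dimension shift. -/
theorem δ_bijective_of_injective (i : ℕ) {S : ShortComplex (ModuleCat.{u} R)} (hS : S.ShortExact)
    [Injective S.X₂] (h0 : ∀ x, ((localCohomology I i).map S.g).hom x = 0) :
    Function.Bijective (δ I i hS) := by
  constructor
  · rw [injective_iff_map_eq_zero]
    intro x hx
    obtain ⟨y, rfl⟩ := (exact_map_δ I i hS x).1 hx
    exact h0 y
  · intro y
    have := subsingleton_succ_of_injective I i S.X₂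
    exact (exact_δ_map I i hS y).1 (Subsingleton.elim _ _)

theorem exists_powerTorsion_embedding [IsNoetherianRing R] (hM : LocCoh.IsPowerTorsion I M) :
    ∃ (J : Type u) (_ : AddCommGroup J) (_ : Module R J) (f : M →ₗ[R] J),
      Module.Injective R J ∧ LocCoh.IsPowerTorsion I J ∧ Function.Injective f := by
  obtain ⟨E, _, _, f, hE, hf⟩ := exists_embedding_injective (R := R) M
  have hmem : ∀ x, f x ∈ powTors I E := fun x => mem_powTors_iff.2
    ((hM x).imp fun n hn r hr => by rw [← map_smul, hn r hr, map_zero])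
  refine ⟨powTors I E, inferInstance, inferInstance, f.codRestrict _ hmem, injective_powTors hE I,
    fun x => ?_, fun a b h => hf (congrArg Subtype.val h)⟩
  exact (mem_powTors_iff.1 x.2).imp fun n hn r hr => Subtype.ext (hn r hr)

theorem subsingleton_of_isPowerTorsion [IsNoetherianRing R] (p : ℕ) :
    ∀ (M : Type u) [AddCommGroup M] [Module R M], LocCoh.IsPowerTorsion I M →
      Subsingleton (LocCoh.H I (p + 1) M) := by
  induction p with
  | zero =>
    intro M _ _ hM
    obtain ⟨J, _, _, f, hJ, hJt, hf⟩ := exists_powerTorsion_embedding I hM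
    let g : J →ₗ[R] J ⧸ LinearMap.range f := Submodule.mkQ _
    have hS := shortExact_mk f g hf (Submodule.mkQ_surjective _) f.exact_map_mkQ_range
    have := Module.injective_object_of_injective_module R J
    refine subsingleton_of_forall_eq 0 fun x => ?_
    have hinj := subsingleton_succ_of_injective I 0 (ModuleCat.of R J)
    obtain ⟨y, rfl⟩ := (exact_δ_map I 0 hS x).1 (@Subsingleton.elim _ hinj _ _)
    obtain ⟨b, hb⟩ := Submodule.mkQ_surjective _ (zeroMap I _ y)
    obtain ⟨z, rfl⟩ := (zeroMap_bijective I hJt).2 b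
    have : y = ((localCohomology I 0).map (ModuleCat.ofHom g)).hom z :=
      zeroMap_injective I _ ((zeroMap_natural I g z).trans hb).symm
    rw [this]
    exact (exact_map_δ I 0 hS _).2 ⟨z, rfl⟩
  | succ p ih =>
    intro M _ _ hM
    obtain ⟨J, _, _, f, hJ, hJt, hf⟩ := exists_powerTorsion_embedding I hM
    let g : J →ₗ[R] J ⧸ LinearMap.range f := Submodule.mkQ _
    have hS := shortExact_mk f g hf (Submodule.mkQ_surjective _) f.exact_map_mkQ_range
    refine subsingleton_of_forall_eq 0 fun x => ?_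
    have := Module.injective_object_of_injective_module R J
    have hinj := subsingleton_succ_of_injective I (p + 1) (ModuleCat.of R J)
    have hC := ih (J ⧸ LinearMap.range f) (isPowerTorsion_of_surjective I g (Submodule.mkQ_surjective _) hJt)
    obtain ⟨y, rfl⟩ := (exact_δ_map I (p + 1) hS x).1 (@Subsingleton.elim _ hinj _ _)
    exact (congrArg (δ I (p + 1) hS) (@Subsingleton.elim _ hC y 0)).trans (map_zero _)

end Groth.Agent.LocCohLib
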