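import Groth.Agent.S0335
import Groth.Agent.Lib.Hironaka.Catenary
import Groth.Agent.Lib.Depth.CM

/-!
# Catenary local rings with depth at least two in codimension two are equidimensional
-/

set_option autoImplicit false

universe u

open IsLocalRing Order

namespace Groth.Agent.LocCohLib

variable {A : Type u} [CommRing A] [IsLocalRing A] [IsNoetherianRing A]

theorem coheight_eq_of_minimal (hc : CAlg.IsCatenary A)
    (h : ∀ p : PrimeSpectrum A, (2 : ℕ∞) ≤ p.asIdeal.height →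
      (2 : ℕ∞) ≤ LocCoh.depth (Localization.AtPrime p.asIdeal) (Localization.AtPrime p.asIdeal))
    (p₁ p₂ : PrimeSpectrum A) (h₁ : p₁.asIdeal ∈ minimalPrimes A) (h₂ : p₂.asIdeal ∈ minimalPrimes A) :
    coheight p₁ = coheight p₂ := by
  by_contra hne
  let Z₁ : Set (PrimeSpectrum A) := {p | p.asIdeal ∈ minimalPrimes A ∧ coheight p = coheight p₁}
  let Z₂ : Set (PrimeSpectrum A) := {p | p.asIdeal ∈ minimalPrimes A ∧ coheight p ≠ coheight p₁}
  let S : Set (PrimeSpectrum A) := {q | (∃ p ∈ Z₁, p ≤ q) ∧ ∃ p ∈ Z₂, p ≤ q}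
  have hS : S.Nonempty := ⟨closedPoint A, ⟨p₁, ⟨h₁, rfl⟩, le_maximalIdeal p₁.2.ne_top⟩,
    p₂, ⟨h₂, Ne.symm hne⟩, le_maximalIdeal p₂.2.ne_top⟩
  let ht : PrimeSpectrum A → ℕ∞ := fun q => q.asIdeal.height
  set q := Function.argminOn ht S hS with hqdef
  have hq : q ∈ S := Function.argminOn_mem ht S hS
  have hlt : ∀ x : PrimeSpectrum A, x < q → x ∉ S := fun x hx hxS => by
    have := Ideal.height_strict_mono_of_isPrime (I := x.asIdeal) (J := q.asIdeal) hx
    exact this.not_ge (Function.argminOn_le ht S hxS)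
  obtain ⟨⟨a, ha, haq⟩, b, hb, hbq⟩ := hq
  have hab : a ≠ b := fun e => hb.2 (e ▸ ha.2)
  have hmin : ∀ {x y : PrimeSpectrum A}, x.asIdeal ∈ minimalPrimes A → y ≤ x → y = x := fun {x y} hx hy =>
    PrimeSpectrum.ext (le_antisymm hy (hx.2 ⟨y.2, bot_le⟩ hy))
  have haq' : a < q := lt_of_le_of_ne haq fun e => hab (hmin ha.1 (e ▸ hbq)).symm
  have hbq' : b < q := lt_of_le_of_ne hbq fun e => hab (hmin hb.1 (e ▸ haq))
  by_cases h2 : (2 : ℕ∞) ≤ q.asIdeal.height
  · -- the punctured spectrum at `q` would be disconnected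
    let Rq := Localization.AtPrime q.asIdeal
    have := IsLocalization.isNoetherianRing q.asIdeal.primeCompl Rq inferInstance
    have hconn := Groth.Agent.S0335.result Rq (h q h2)
    let f := PrimeSpectrum.comap (algebraMap A Rq)
    have hclosed : ∀ (Z : Set (PrimeSpectrum A)), (∀ p ∈ Z, p.asIdeal ∈ minimalPrimes A) →
        IsClosed (f ⁻¹' {x | ∃ p ∈ Z, p ≤ x}) := fun Z hZ => by
      have hfin : Z.Finite := ((minimalPrimes.finite_of_isNoetherianRing A).preimage
        (fun x _ y _ e => PrimeSpectrum.ext e)).subset fun p hp => hZ p hp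
      refine IsClosed.preimage (PrimeSpectrum.continuous_comap _) ?_
      rw [show {x : PrimeSpectrum A | ∃ p ∈ Z, p ≤ x} =
          ⋃ p ∈ Z, PrimeSpectrum.zeroLocus (p.asIdeal : Set A) by ext x; simp]
      exact hfin.isClosed_biUnion fun p _ => PrimeSpectrum.isClosed_zeroLocus _
    have hcover : ∀ x : PrimeSpectrum A, (∃ p ∈ Z₁, p ≤ x) ∨ ∃ p ∈ Z₂, p ≤ x := fun x => by
      obtain ⟨p, hp, hpx⟩ := Ideal.exists_minimalPrimes_le (bot_le : (⊥ : Ideal A) ≤ x.asIdeal)
      by_cases e : coheight (⟨p, hp.isPrime⟩ : PrimeSpectrum A) = coheight p₁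
      · exact Or.inl ⟨_, ⟨hp, e⟩, hpx⟩
      · exact Or.inr ⟨_, ⟨hp, e⟩, hpx⟩
    have hlift : ∀ x : PrimeSpectrum A, x < q →
        ∃ X : PrimeSpectrum Rq, f X = x ∧ X.asIdeal ≠ maximalIdeal Rq := fun x hx => by
      have hd : Disjoint (q.asIdeal.primeCompl : Set A) (x.asIdeal : Set A) :=
        Set.disjoint_left.2 fun z hz hzx => hz (hx.le hzx)
      have hc := IsLocalization.under_map_of_isPrime_disjoint q.asIdeal.primeCompl Rq x.2 hd
      refine ⟨⟨_, IsLocalization.isPrime_of_isPrime_disjoint q.asIdeal.primeCompl Rq x.asIdeal x.2 hd⟩,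
        PrimeSpectrum.ext hc, fun e => hx.ne (PrimeSpectrum.ext ?_)⟩
      exact hc.symm.trans ((congrArg _ e).trans Localization.AtPrime.under_maximalIdeal)
    obtain ⟨A', hA', hA''⟩ := hlift a haq'
    obtain ⟨B', hB', hB''⟩ := hlift b hbq'
    obtain ⟨x, hx, hx1, hx2⟩ := isPreconnected_closed_iff.1 hconn.isPreconnected
      (f ⁻¹' {x | ∃ p ∈ Z₁, p ≤ x}) (f ⁻¹' {x | ∃ p ∈ Z₂, p ≤ x})
      (hclosed _ fun p hp => hp.1) (hclosed _ fun p hp => hp.1) (fun x _ => hcover (f x))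
      ⟨A', hA'', show ∃ p ∈ Z₁, p ≤ f A' from ⟨a, ha, hA'.ge⟩⟩
      ⟨B', hB'', show ∃ p ∈ Z₂, p ≤ f B' from ⟨b, hb, hB'.ge⟩⟩
    refine hlt (f x) (lt_of_le_of_ne ?_ fun e => hx ?_) ⟨hx1, hx2⟩
    · exact (Ideal.comap_mono (le_maximalIdeal x.2.ne_top)).trans Localization.AtPrime.under_maximalIdeal.le
    · have e' : x.asIdeal.comap (algebraMap A Rq) = q.asIdeal := congrArg PrimeSpectrum.asIdeal e
      rw [← IsLocalization.map_under q.asIdeal.primeCompl Rq x.asIdeal]
      show (x.asIdeal.comap (algebraMap A Rq)).map (algebraMap A Rq) = _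
      rw [e', Localization.AtPrime.map_eq_maximalIdeal]
  · -- `q` covers both
    have hcov : ∀ x : PrimeSpectrum A, x < q → x ⋖ q := fun x hx => ⟨hx, fun y hxy hyq => h2 (by
      have h1 := Ideal.height_strict_mono_of_isPrime (I := x.asIdeal) (J := y.asIdeal) hxy
      have h3 := Ideal.height_add_one_le_of_lt_of_isPrime (I := y.asIdeal) (J := q.asIdeal) hyq
      exact le_trans (by rw [← one_add_one_eq_two]; exact add_le_add_left (Order.one_le_iff_pos.2 (zero_le.trans_lt h1)) 1) h3)⟩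
    exact hb.2 (((Hironaka.coheight_eq_add_one hc (hcov b hbq')).trans
      (Hironaka.coheight_eq_add_one hc (hcov a haq')).symm).trans ha.2)

theorem ringKrullDim_quotient_minimalPrime (hc : CAlg.IsCatenary A)
    (h : ∀ p : PrimeSpectrum A, (2 : ℕ∞) ≤ p.asIdeal.height →
      (2 : ℕ∞) ≤ LocCoh.depth (Localization.AtPrime p.asIdeal) (Localization.AtPrime p.asIdeal))
    (p : Ideal A) (hp : p ∈ minimalPrimes A) : ringKrullDim (A ⧸ p) = ringKrullDim A := by
  have hpp : p.IsPrime := hp.isPrime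
  rw [← Hironaka.coheight_eq_ringKrullDim_quotient (⟨p, hpp⟩ : PrimeSpectrum A)]
  refine le_antisymm (Order.coheight_le_krullDim _) ?_
  rw [ringKrullDim, Order.krullDim_eq_iSup_coheight_of_nonempty]
  refine WithBot.coe_le_coe.2 (iSup_le fun x => ?_)
  obtain ⟨p', hp', hpx⟩ := Ideal.exists_minimalPrimes_le (bot_le : (⊥ : Ideal A) ≤ x.asIdeal)
  rw [coheight_eq_of_minimal hc h ⟨p, hpp⟩ ⟨p', hp'.isPrime⟩ hp hp']
  exact Order.coheight_anti (show (⟨p', hp'.isPrime⟩ : PrimeSpectrum A) ≤ x from hpx)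

end Groth.Agent.LocCohLib
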