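import Groth.Agent.Lib.LocCoh.AdjDepthBasics27
import Groth.Agent.Lib.LocCoh.CMOff27
import Groth.Agent.Lib.FlatDepth.Rings
import Groth.Agent.Lib.Hironaka.Catenary
import Groth.Agent.Lib.Ratliff.Corollaries
import Groth.Agent.Lib.Cohen.Structure
import Groth.Prelude.Def_EGA4b
import Groth.Prelude.Def_DualLC

/-!
# The cutoff and completion
-/

set_option autoImplicit false
universe u

open CategoryTheory IsLocalRing TensorProduct

noncomputable section

namespace Groth.Agent.LocCohLib

theorem height_Ici_eq_map {A : Type u} [CommRing A] {p q : PrimeSpectrum A} (h : p ≤ q) :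
    Order.height (⟨q, h⟩ : Set.Ici p) = (q.asIdeal.map (Ideal.Quotient.mk p.asIdeal)).height :=
  WithBot.coe_inj.1 ((height_Ici_eq h).trans (height_map_quotient p q h).symm)

theorem cutoff_le {A : Type u} [CommRing A] {I : Ideal A} {M : Type u} [AddCommGroup M] [Module A M]
    {p q : PrimeSpectrum A} (h : p ≤ q) (hp : ¬ I ≤ p.asIdeal) (hq : I ≤ q.asIdeal) :
    Dual2.cutoff A I M ≤ LocCoh.depth (Localization.AtPrime p.asIdeal) (LocalizedModule p.asIdeal.primeCompl M) +
      (q.asIdeal.map (Ideal.Quotient.mk p.asIdeal)).height := by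
  rw [← height_Ici_eq_map h]
  exact iInf_le_of_le p (iInf_le_of_le q (iInf_le_of_le h (iInf_le_of_le hp (iInf_le_of_le hq le_rfl))))

theorem le_cutoff {A : Type u} [CommRing A] {I : Ideal A} {M : Type u} [AddCommGroup M] [Module A M] {c : ℕ∞}
    (h : ∀ p q : PrimeSpectrum A, p ≤ q → ¬ I ≤ p.asIdeal → I ≤ q.asIdeal →
      c ≤ LocCoh.depth (Localization.AtPrime p.asIdeal) (LocalizedModule p.asIdeal.primeCompl M) +
        (q.asIdeal.map (Ideal.Quotient.mk p.asIdeal)).height) : c ≤ Dual2.cutoff A I M :=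
  le_iInf fun p => le_iInf fun q => le_iInf fun hpq => le_iInf fun hp => le_iInf fun hq => by
    rw [height_Ici_eq_map hpq]; exact h p q hpq hp hq

theorem cutoff_congr {A : Type u} [CommRing A] (I : Ideal A) {M N : Type u} [AddCommGroup M] [Module A M]
    [AddCommGroup N] [Module A N] (e : M ≃ₗ[A] N) : Dual2.cutoff A I M = Dual2.cutoff A I N := by
  refine iInf_congr fun p => iInf_congr fun q => iInf_congr fun h => iInf_congr fun hp => iInf_congr fun hq => ?_
  congr 1
  exact DepthLib.idealDepth_congr (IsLocalizedModule.mapEquiv p.asIdeal.primeCompl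
    (LocalizedModule.mkLinearMap p.asIdeal.primeCompl M) (LocalizedModule.mkLinearMap p.asIdeal.primeCompl N)
    (Localization.AtPrime p.asIdeal) e)

/-- `dim A/p = height (m/p)`. -/
theorem ringKrullDim_quotient_eq_height {A : Type u} [CommRing A] [IsLocalRing A] (p : PrimeSpectrum A) :
    ringKrullDim (A ⧸ p.asIdeal) = (((maximalIdeal A).map (Ideal.Quotient.mk p.asIdeal)).height : ℕ∞) := by
  have hle : p ≤ closedPoint A := le_maximalIdeal p.isPrime.ne_top
  rw [show maximalIdeal A = (closedPoint A).asIdeal from rfl, height_map_quotient p _ hle, ringKrullDim_quotient]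
  exact Order.krullDim_eq_of_orderIso
    { toFun := fun x => ⟨x.1, x.2, le_maximalIdeal x.1.isPrime.ne_top⟩
      invFun := fun x => ⟨x.1, x.2.1⟩
      left_inv := fun _ => rfl
      right_inv := fun _ => rfl
      map_rel_iff' := Iff.rfl }

/-- In a catenary local ring `height (q/p) + dim A/q ≥ dim A/p`. -/
theorem coheight_le_height_add {A : Type u} [CommRing A] [IsLocalRing A] [IsNoetherianRing A]
    (hc : CAlg.IsCatenary A) : ∀ (n : ℕ) (p q : PrimeSpectrum A), p ≤ q → Order.coheight p = n →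
      Order.coheight p ≤ (q.asIdeal.map (Ideal.Quotient.mk p.asIdeal)).height + Order.coheight q := by
  intro n
  induction n using Nat.strong_induction_on with
  | _ n ih =>
  intro p q hpq hn
  by_cases heq : p = q
  · subst heq; exact le_add_self
  obtain ⟨t, htq, htp⟩ := SetLike.not_le_iff_exists.1 fun h : q.asIdeal ≤ p.asIdeal =>
    heq (le_antisymm hpq h)
  obtain ⟨x', hx', hxq⟩ := Ideal.exists_minimalPrimes_le
    (sup_le hpq ((Ideal.span_singleton_le_iff_mem _).2 htq) : p.asIdeal ⊔ Ideal.span {t} ≤ q.asIdeal)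
  let x : PrimeSpectrum A := ⟨x', hx'.isPrime⟩
  have hcov : p ⋖ x := Hironaka.covBy_of_mem_minimalPrimes htp hx'
  have h1 := Hironaka.coheight_eq_add_one hc hcov
  obtain ⟨m, hm⟩ := ENat.ne_top_iff_exists.1 (Hironaka.coheight_ne_top x)
  have hmn : m < n := by
    rw [hn, ← hm] at h1
    have : n = m + 1 := by exact_mod_cast h1
    omega
  have h2 := ih m hmn x q hxq hm.symm
  have h3 := height_add_height_le p x q hcov.le hxq
  have h4 : 1 ≤ (x.asIdeal.map (Ideal.Quotient.mk p.asIdeal)).height := by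
    rw [← height_Ici_eq_map hcov.le]
    exact le_add_self.trans (Order.height_add_one_le (a := (⟨p, Set.self_mem_Ici⟩ : Set.Ici p)) hcov.lt)
  rw [h1]
  calc Order.coheight x + 1 ≤ ((q.asIdeal.map (Ideal.Quotient.mk x.asIdeal)).height + Order.coheight q) +
        (x.asIdeal.map (Ideal.Quotient.mk p.asIdeal)).height := add_le_add h2 h4
    _ = ((x.asIdeal.map (Ideal.Quotient.mk p.asIdeal)).height +
          (q.asIdeal.map (Ideal.Quotient.mk x.asIdeal)).height) + Order.coheight q := by ring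
    _ ≤ _ := add_le_add h3 le_rfl

theorem ringKrullDim_fibLocRing_eq_zero {A B : Type u} [CommRing A] [CommRing B] [Algebra A B] (Q : Ideal B)
    [Q.IsPrime] (hQ : Q ∈ ((Q.comap (algebraMap A B)).map (algebraMap A B)).minimalPrimes) :
    ringKrullDim (EGA4.FibLocRing A B Q) = 0 := by
  refine le_antisymm ?_ ringKrullDim_nonneg_of_nontrivial
  rw [ringKrullDim_quotient]
  have key : ∀ x : PrimeSpectrum.zeroLocus
      (((Q.comap (algebraMap A B)).map (algebraMap A (Localization.AtPrime Q)) : Ideal _) : Set (Localization.AtPrime Q)),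
      x.1.asIdeal.comap (algebraMap B (Localization.AtPrime Q)) = Q := fun x => by
    have hle : x.1.asIdeal.comap (algebraMap B (Localization.AtPrime Q)) ≤ Q :=
      (Ideal.comap_mono (le_maximalIdeal x.1.isPrime.ne_top)).trans Localization.AtPrime.under_maximalIdeal.le
    refine le_antisymm hle (hQ.2 ⟨inferInstance, ?_⟩ hle)
    rw [Ideal.map_le_iff_le_comap, Ideal.comap_comap, ← IsScalarTower.algebraMap_eq, ← Ideal.map_le_iff_le_comap]
    exact x.2
  haveI : Subsingleton (PrimeSpectrum.zeroLocus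
      (((Q.comap (algebraMap A B)).map (algebraMap A (Localization.AtPrime Q)) : Ideal _) : Set (Localization.AtPrime Q))) :=
    ⟨fun x y => Subtype.ext (PrimeSpectrum.localization_comap_injective _ Q.primeCompl
      (PrimeSpectrum.ext ((key x).trans (key y).symm)))⟩
  exact Order.krullDim_nonpos_of_subsingleton

section Completion

variable {A : Type u} [CommRing A] [IsNoetherianRing A] [IsLocalRing A] {M : Type u} [AddCommGroup M] [Module A M]
  [Module.Finite A M]

theorem isCatenary_of_isUniversallyCatenary {R : Type u} [CommRing R] (h : CAlg.IsUniversallyCatenary R) :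
    CAlg.IsCatenary R :=
  h.2 R inferInstance

theorem dim_minimal_cpl (hU : CAlg.IsUniversallyCatenary A) (p : Ideal A) [p.IsPrime] {P : Ideal (EGA4.Cpl A)}
    (hP : P ∈ (p.map (algebraMap A (EGA4.Cpl A))).minimalPrimes) :
    ringKrullDim (EGA4.Cpl A ⧸ P) = ringKrullDim (A ⧸ p) := by
  haveI : Nontrivial (A ⧸ p) := Ideal.Quotient.nontrivial_iff.mpr ‹p.IsPrime›.ne_top
  rw [(Ratliff.formallyEquidim_quotient_iff_equidimOver p).mp
    (Ratliff.isFormallyCatenary_of_isUniversallyCatenary A hU p) P hP, Ratliff.dim_quotient_map_cpl p ‹p.IsPrime›.ne_top]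

theorem depth_tensor_cpl (P : Ideal (EGA4.Cpl A)) [P.IsPrime] :
    LocCoh.depth (Localization.AtPrime P) (LocalizedModule P.primeCompl (EGA4.Cpl A ⊗[A] M)) =
      LocCoh.depth (Localization.AtPrime (P.comap (algebraMap A (EGA4.Cpl A))))
          (LocalizedModule (P.comap (algebraMap A (EGA4.Cpl A))).primeCompl M) +
        LocCoh.depth (EGA4.FibLocRing A (EGA4.Cpl A) P) (EGA4.FibLocRing A (EGA4.Cpl A) P) := by
  haveI := CplLocH7.isNoetherianRing_cpl A
  haveI := CplLocH7.faithfullyFlat_cpl A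
  rw [(FlatDepth.atPrime_invariants (A := A) (EGA4.Cpl A) M P).1, (FlatDepth.fib_self_invariants P).1]

theorem exists_surjection_cpl :
    ∃ (S : Type u) (_ : CommRing S) (_ : IsRegularRing S) (π : S →+* EGA4.Cpl A), Function.Surjective π := by
  haveI := CplLocH7.isNoetherianRing_cpl A
  haveI : IsAdicComplete (maximalIdeal (EGA4.Cpl A)) (EGA4.Cpl A) := inferInstance
  obtain ⟨S, _, _, π, hπ⟩ := Cohen.exists_regular_surjection (EGA4.Cpl A)
  exact ⟨S, inferInstance, isRegularRing_iff.2 fun p _ => RegLoc.isRegularLocalRing_localization S p, π, hπ⟩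

theorem cutoff_tensor_le (hU : CAlg.IsUniversallyCatenary A) (I : Ideal A) :
    Dual2.cutoff (EGA4.Cpl A) (I.map (algebraMap A (EGA4.Cpl A))) (EGA4.Cpl A ⊗[A] M) ≤ Dual2.cutoff A I M := by
  haveI := CplLocH7.isNoetherianRing_cpl A
  haveI := CplLocH7.faithfullyFlat_cpl A
  refine le_cutoff fun p q hpq hp hq => ?_
  obtain ⟨Q₀, hQ₀⟩ := PrimeSpectrum.comap_surjective_of_faithfullyFlat (A := A) (B := EGA4.Cpl A) q
  have hQ₀' : Q₀.asIdeal.comap (algebraMap A (EGA4.Cpl A)) = q.asIdeal := congrArg PrimeSpectrum.asIdeal hQ₀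
  obtain ⟨Q, hQmin, hQle⟩ := Ideal.exists_minimalPrimes_le
    (Ideal.map_le_iff_le_comap.2 hQ₀'.ge : q.asIdeal.map (algebraMap A (EGA4.Cpl A)) ≤ Q₀.asIdeal)
  haveI := hQmin.isPrime
  have hQc : Q.comap (algebraMap A (EGA4.Cpl A)) = q.asIdeal :=
    le_antisymm ((Ideal.comap_mono hQle).trans hQ₀'.le) (Ideal.map_le_iff_le_comap.1 hQmin.1.2)
  haveI : Q.LiesOver q.asIdeal := ⟨hQc.symm⟩
  obtain ⟨P₀, hP₀Q, _, hP₀⟩ := Ideal.exists_ideal_le_liesOver_of_le (p := p.asIdeal) (q := q.asIdeal) Q hpq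
  have hP₀' : P₀.comap (algebraMap A (EGA4.Cpl A)) = p.asIdeal := hP₀.over.symm
  obtain ⟨P, hPmin, hPle⟩ := Ideal.exists_minimalPrimes_le
    (Ideal.map_le_iff_le_comap.2 hP₀'.ge : p.asIdeal.map (algebraMap A (EGA4.Cpl A)) ≤ P₀)
  haveI := hPmin.isPrime
  have hPc : P.comap (algebraMap A (EGA4.Cpl A)) = p.asIdeal :=
    le_antisymm ((Ideal.comap_mono hPle).trans hP₀'.le) (Ideal.map_le_iff_le_comap.1 hPmin.1.2)
  have hPQ : (⟨P, inferInstance⟩ : PrimeSpectrum (EGA4.Cpl A)) ≤ ⟨Q, inferInstance⟩ := hPle.trans hP₀Q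
  refine (cutoff_le hPQ (fun h => hp (hPc ▸ Ideal.map_le_iff_le_comap.1 h))
    (Ideal.map_le_iff_le_comap.2 (hq.trans hQc.ge))).trans ?_
  haveI : Module.Finite (EGA4.FibLocRing A (EGA4.Cpl A) P) (EGA4.FibLocRing A (EGA4.Cpl A) P) := inferInstance
  have hd0 : LocCoh.depth (EGA4.FibLocRing A (EGA4.Cpl A) P) (EGA4.FibLocRing A (EGA4.Cpl A) P) = 0 := by
    have h := DepthLib.depth_le_supportDim (R := EGA4.FibLocRing A (EGA4.Cpl A) P) (M := EGA4.FibLocRing A (EGA4.Cpl A) P)
    rw [Module.supportDim_self_eq_ringKrullDim, ringKrullDim_fibLocRing_eq_zero P (by rw [hPc]; exact hPmin)] at h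
    exact nonpos_iff_eq_zero.1 (WithBot.coe_le_coe.1 h)
  have hdepth := depth_tensor_cpl (M := M) P
  rw [hd0, add_zero] at hdepth
  have hdP : ∀ (p' : Ideal A) [p'.IsPrime], p' = p.asIdeal →
      LocCoh.depth (Localization.AtPrime p') (LocalizedModule p'.primeCompl M) =
        LocCoh.depth (Localization.AtPrime p.asIdeal) (LocalizedModule p.asIdeal.primeCompl M) := by
    intro p' _ e; subst e; rfl
  refine add_le_add (hdepth.trans (hdP _ hPc)).le ?_
  show (Q.map (Ideal.Quotient.mk P)).height ≤ _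
  obtain ⟨S, _, _, π, hπ⟩ := exists_surjection_cpl (A := A)
  have h1 := height_quotient_add π hπ ⟨P, inferInstance⟩ ⟨Q, inferInstance⟩ (closedPoint _) hPQ
    (le_maximalIdeal (Ideal.IsPrime.ne_top inferInstance))
  have h2 := coheight_le_height_add (isCatenary_of_isUniversallyCatenary hU) _ p q hpq
    (ENat.natCast_toNat (Hironaka.coheight_ne_top p)).symm
  have eP : ((maximalIdeal (EGA4.Cpl A)).map (Ideal.Quotient.mk P)).height = Order.coheight p := by
    apply WithBot.coe_injective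
    rw [← ringKrullDim_quotient_eq_height ⟨P, inferInstance⟩, dim_minimal_cpl hU p.asIdeal hPmin,
      Hironaka.coheight_eq_ringKrullDim_quotient]
  have eQ : ((maximalIdeal (EGA4.Cpl A)).map (Ideal.Quotient.mk Q)).height = Order.coheight q := by
    apply WithBot.coe_injective
    rw [← ringKrullDim_quotient_eq_height ⟨Q, inferInstance⟩, dim_minimal_cpl hU q.asIdeal hQmin,
      Hironaka.coheight_eq_ringKrullDim_quotient]
  rw [show (closedPoint (EGA4.Cpl A)).asIdeal = maximalIdeal (EGA4.Cpl A) from rfl, eP, eQ] at h1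
  rw [h1] at h2
  exact (ENat.add_le_add_iff_right (Hironaka.coheight_ne_top q)).1 h2

theorem le_cutoff_tensor (hU : CAlg.IsUniversallyCatenary A) (I : Ideal A) {n : ℕ}
    (hS : EGA4.HasSnFormalFibres n A) :
    min ((n : ℕ∞) + 1) (Dual2.cutoff A I M) ≤
      Dual2.cutoff (EGA4.Cpl A) (I.map (algebraMap A (EGA4.Cpl A))) (EGA4.Cpl A ⊗[A] M) := by
  haveI := CplLocH7.isNoetherianRing_cpl A
  haveI := CplLocH7.faithfullyFlat_cpl A
  refine le_cutoff fun P Q hPQ hP hQ => ?_
  let p : PrimeSpectrum A := PrimeSpectrum.comap (algebraMap A (EGA4.Cpl A)) P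
  let q : PrimeSpectrum A := PrimeSpectrum.comap (algebraMap A (EGA4.Cpl A)) Q
  have hpq : p ≤ q := Ideal.comap_mono hPQ
  have hp : ¬ I ≤ p.asIdeal := fun h => hP (Ideal.map_le_iff_le_comap.2 h)
  have hq : I ≤ q.asIdeal := Ideal.map_le_iff_le_comap.1 hQ
  rw [depth_tensor_cpl (M := M) P.asIdeal]
  obtain ⟨f, hf⟩ := DepthLib.exists_depth_eq_natCast (R := EGA4.FibLocRing A (EGA4.Cpl A) P.asIdeal)
    (M := EGA4.FibLocRing A (EGA4.Cpl A) P.asIdeal)
  have hsk := FlatDepth.skIneq_fibLocRing (k := n) (fun p' _ => hS p') P.asIdeal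
  rw [FlatDepth.SkIneq, hf] at hsk
  rw [hf]
  rcases min_le_iff.1 hsk with hn | hdim
  · refine (min_le_left _ _).trans ?_
    refine add_le_add (le_add_left (WithBot.coe_le_coe.1 hn)) ?_
    rw [← height_Ici_eq_map hPQ]
    exact le_add_self.trans (Order.height_add_one_le (a := (⟨P, Set.self_mem_Ici⟩ : Set.Ici P))
      (lt_of_le_of_ne hPQ fun e => hP (by
        have : P = Q := congrArg Subtype.val e
        rw [this]; exact hQ)))
  refine (min_le_right _ _).trans ((cutoff_le hpq hp hq).trans ?_)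
  rw [add_assoc]
  refine add_le_add le_rfl ?_
  obtain ⟨P₀', hP₀, hP₀le⟩ := Ideal.exists_minimalPrimes_le
    (Ideal.map_comap_le : p.asIdeal.map (algebraMap A (EGA4.Cpl A)) ≤ P.asIdeal)
  let P₀ : PrimeSpectrum (EGA4.Cpl A) := ⟨P₀', hP₀.isPrime⟩
  have hfib : (P.asIdeal.map (Ideal.Quotient.mk P₀.asIdeal)).height ≤ (f : ℕ∞) := by
    refine WithBot.coe_le_coe.1 (le_trans ?_ hdim)
    rw [height_map_quotient P₀ P hP₀le, ← ringKrullDim_quotient_atPrime hP₀le]
    refine ringKrullDim_le_of_surjective (Ideal.Quotient.factor ?_) (Ideal.Quotient.factor_surjective ?_) <;>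
    · rw [IsScalarTower.algebraMap_eq A (EGA4.Cpl A) (Localization.AtPrime P.asIdeal), ← Ideal.map_map]
      exact Ideal.map_mono hP₀.1.2
  obtain ⟨S, _, _, π, hπ⟩ := exists_surjection_cpl (A := A)
  have h1 := height_quotient_add π hπ P₀ P Q hP₀le hPQ
  refine le_trans ?_ ((h1.le).trans (add_le_add hfib le_rfl))
  have h2 := height_quotient_add π hπ P₀ Q (closedPoint _) (le_trans hP₀le hPQ : P₀.asIdeal ≤ Q.asIdeal)
    (le_maximalIdeal Q.isPrime.ne_top)
  have eP : ((maximalIdeal (EGA4.Cpl A)).map (Ideal.Quotient.mk P₀.asIdeal)).height = Order.coheight p := by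
    apply WithBot.coe_injective
    rw [← ringKrullDim_quotient_eq_height P₀, dim_minimal_cpl hU p.asIdeal hP₀,
      Hironaka.coheight_eq_ringKrullDim_quotient]
  have eQ : ((maximalIdeal (EGA4.Cpl A)).map (Ideal.Quotient.mk Q.asIdeal)).height ≤ Order.coheight q := by
    apply WithBot.coe_le_coe.1
    rw [← ringKrullDim_quotient_eq_height Q, Hironaka.coheight_eq_ringKrullDim_quotient,
      ← Ratliff.dim_quotient_map_cpl q.asIdeal q.isPrime.ne_top]
    exact ringKrullDim_le_of_surjective (Ideal.Quotient.factor Ideal.map_comap_le)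
      (Ideal.Quotient.factor_surjective Ideal.map_comap_le)
  rw [show (closedPoint (EGA4.Cpl A)).asIdeal = maximalIdeal (EGA4.Cpl A) from rfl, eP] at h2
  have h3 : (q.asIdeal.map (Ideal.Quotient.mk p.asIdeal)).height + Order.coheight q ≤ Order.coheight p := by
    have := height_add_height_le p q (closedPoint A) hpq (le_maximalIdeal q.isPrime.ne_top)
    have e : ∀ x : PrimeSpectrum A, ((closedPoint A).asIdeal.map (Ideal.Quotient.mk x.asIdeal)).height = Order.coheight x :=
      fun x => WithBot.coe_injective (by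
        rw [Hironaka.coheight_eq_ringKrullDim_quotient, ringKrullDim_quotient_eq_height]; rfl)
    rwa [e, e] at this
  exact (ENat.add_le_add_iff_right (Hironaka.coheight_ne_top q)).1 (h3.trans (h2.le.trans (add_le_add le_rfl eQ)))

end Completion

end Groth.Agent.LocCohLib
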