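import Groth.Agent.Lib.LocCoh.AddElem27
import Mathlib.RingTheory.Filtration

/-!
# The Mayer–Vietoris sequence
-/

set_option autoImplicit false

universe u

open CategoryTheory Groth.Agent.InjHullLib

noncomputable section

namespace Groth.Agent.LocCohLib

variable {R : Type u} [CommRing R] (I J : Ideal R)

/-- `H_{I+J} → H_I ⊕ H_J`. -/
abbrev mvPair (i : ℕ) (M : Type u) [AddCommGroup M] [Module R M] :
    LocCoh.H (I ⊔ J) i M →ₗ[R] LocCoh.H I i M × LocCoh.H J i M :=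
  LinearMap.prod (cmpLE (le_sup_left : I ≤ I ⊔ J) i M) (cmpLE (le_sup_right : J ≤ I ⊔ J) i M)

/-- `H_I ⊕ H_J → H_{I∩J}`. -/
abbrev mvDiff (i : ℕ) (M : Type u) [AddCommGroup M] [Module R M] :
    LocCoh.H I i M × LocCoh.H J i M →ₗ[R] LocCoh.H (I ⊓ J) i M :=
  cmpLE (inf_le_left : I ⊓ J ≤ I) i M ∘ₗ LinearMap.fst R _ _ - cmpLE (inf_le_right : I ⊓ J ≤ J) i M ∘ₗ LinearMap.snd R _ _

variable {I J}

theorem mvDiff_apply (i : ℕ) {M : Type u} [AddCommGroup M] [Module R M] (a : LocCoh.H I i M) (b : LocCoh.H J i M) :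
    mvDiff I J i M (a, b) = cmpLE (inf_le_left : I ⊓ J ≤ I) i M a - cmpLE (inf_le_right : I ⊓ J ≤ J) i M b := rfl

theorem zeroMap_mem (K : Ideal R) {M : Type u} [AddCommGroup M] [Module R M] (x : LocCoh.H K 0 M) :
    zeroMap K M x ∈ powTors K M := range_zeroMap K M ▸ LinearMap.mem_range_self _ x

theorem exists_zeroMap_eq (K : Ideal R) {M : Type u} [AddCommGroup M] [Module R M] {x : M} (hx : x ∈ powTors K M) :
    ∃ x' : LocCoh.H K 0 M, zeroMap K M x' = x := by rwa [← range_zeroMap] at hx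

theorem mem_powTors_sup {M : Type u} [AddCommGroup M] [Module R M] {x : M} (hI : x ∈ powTors I M)
    (hJ : x ∈ powTors J M) : x ∈ powTors (I ⊔ J) M := by
  obtain ⟨n, hn⟩ := mem_powTors_iff.1 hI
  obtain ⟨m, hm⟩ := mem_powTors_iff.1 hJ
  refine mem_powTors_iff.2 ⟨n + m, fun a ha => ?_⟩
  obtain ⟨p, hp, q, hq, rfl⟩ := Submodule.mem_sup.1 (Ideal.sup_pow_add_le_pow_sup_pow ha)
  rw [add_smul, hn p hp, hm q hq, add_zero]

theorem powTors_anti {K L : Ideal R} (h : K ≤ L) (M : Type u) [AddCommGroup M] [Module R M] :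
    powTors L M ≤ powTors K M := fun x hx => by
  obtain ⟨n, hn⟩ := mem_powTors_iff.1 hx
  exact mem_powTors_iff.2 ⟨n, fun a ha => hn a (Ideal.pow_right_mono h n ha)⟩

variable [IsNoetherianRing R]

theorem exists_inter_pow_le (n : ℕ) : ∃ m : ℕ, I ^ m ⊓ J ^ m ≤ (I ⊓ J) ^ n := by
  obtain ⟨k, hk⟩ := I.exists_pow_inf_eq_pow_smul (J ^ n : Submodule R R)
  refine ⟨k + n, fun x hx => ?_⟩
  have h1 : x ∈ I ^ (k + n) • (⊤ : Submodule R R) ⊓ (J ^ n : Submodule R R) :=
    ⟨by simpa using hx.1, Ideal.pow_le_pow_right (Nat.le_add_left n k) hx.2⟩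
  rw [hk (k + n) (Nat.le_add_right k n), Nat.add_sub_cancel_left] at h1
  have h2 : x ∈ I ^ n * J ^ n := Submodule.smul_mono le_rfl inf_le_right h1
  rw [← mul_pow] at h2
  exact Ideal.pow_right_mono Ideal.mul_le_inf n h2

theorem exists_decomp {E : Type u} [AddCommGroup E] [Module R E] (hE : Module.Injective R E) {x : E}
    (hx : x ∈ powTors (I ⊓ J) E) : ∃ y ∈ powTors I E, x - y ∈ powTors J E := by
  obtain ⟨n, hn⟩ := mem_powTors_iff.1 hx
  obtain ⟨m, hm⟩ := exists_inter_pow_le (I := I) (J := J) n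
  let μ : (↥(I ^ m) × ↥(J ^ m)) →ₗ[R] R := LinearMap.coprod (I ^ m).subtype (J ^ m).subtype
  let ν : (↥(I ^ m) × ↥(J ^ m)) →ₗ[R] E := LinearMap.toSpanSingleton R E x ∘ₗ (J ^ m).subtype ∘ₗ LinearMap.snd R _ _
  have hker : LinearMap.ker μ ≤ LinearMap.ker ν := by
    rintro ⟨a, b⟩ h
    have h0 : (a : R) + b = 0 := h
    have hb : (b : R) ∈ I ^ m := by rw [eq_neg_of_add_eq_zero_right h0]; exact neg_mem a.2
    exact hn _ (hm ⟨hb, b.2⟩)
  obtain ⟨h, hh⟩ := Module.Injective.extension_property R E _ _ ((LinearMap.ker μ).liftQ μ le_rfl)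
    (LinearMap.ker_eq_bot.1 (Submodule.ker_liftQ_eq_bot _ _ _ le_rfl))
    ((LinearMap.ker μ).liftQ ν hker) (inj := hE)
  have hval : ∀ (a : ↥(I ^ m)) (b : ↥(J ^ m)), h ((a : R) + b) = (b : R) • x := fun a b =>
    LinearMap.congr_fun hh (Submodule.Quotient.mk (a, b))
  have hsm : ∀ r : R, r • h 1 = h r := fun r => by rw [← map_smul, smul_eq_mul, mul_one]
  refine ⟨h 1, mem_powTors_iff.2 ⟨m, fun a ha => ?_⟩, mem_powTors_iff.2 ⟨m, fun b hb => ?_⟩⟩
  · rw [hsm]
    simpa using hval ⟨a, ha⟩ 0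
  · rw [smul_sub, hsm, sub_eq_zero]
    simpa using (hval 0 ⟨b, hb⟩).symm

theorem mvDiff_zero_surjective {E : Type u} [AddCommGroup E] [Module R E] (hE : Module.Injective R E) :
    Function.Surjective (mvDiff I J 0 E) := fun x => by
  obtain ⟨y, hy, hxy⟩ := exists_decomp (I := I) (J := J) hE (zeroMap_mem _ x)
  obtain ⟨a, ha⟩ := exists_zeroMap_eq I hy
  obtain ⟨b, hb⟩ := exists_zeroMap_eq J (neg_mem hxy)
  refine ⟨(a, b), zeroMap_injective _ _ ?_⟩
  rw [mvDiff_apply, map_sub, zeroMap_cmpLE, zeroMap_cmpLE, ha, hb]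
  abel

variable (I J)

omit [IsNoetherianRing R] in
theorem mvPair_zero_injective (M : Type u) [AddCommGroup M] [Module R M] : Function.Injective (mvPair I J 0 M) :=
  fun _ _ e => cmpLE_zero_injective _ M (congrArg Prod.fst e)

/-- The two exactness properties in degree `i`. -/
def MVStep (i : ℕ) (M : Type u) [AddCommGroup M] [Module R M] : Prop :=
  (LinearMap.ker (mvDiff I J i M) = LinearMap.range (mvPair I J i M)) ∧
    ∃ δ : LocCoh.H (I ⊓ J) i M →ₗ[R] LocCoh.H (I ⊔ J) (i + 1) M,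
      LinearMap.ker δ = LinearMap.range (mvDiff I J i M) ∧ LinearMap.ker (mvPair I J (i + 1) M) = LinearMap.range δ

omit [IsNoetherianRing R] in
theorem mvPair_hmap (i : ℕ) {M N : Type u} [AddCommGroup M] [Module R M] [AddCommGroup N] [Module R N]
    (f : M →ₗ[R] N) (x : LocCoh.H (I ⊔ J) i M) :
    mvPair I J i N (hmap _ i f x) = Prod.map (hmap I i f) (hmap J i f) (mvPair I J i M x) :=
  Prod.ext (cmpLE_hmap _ i f x) (cmpLE_hmap _ i f x)

omit [IsNoetherianRing R] in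
theorem mvDiff_hmap (i : ℕ) {M N : Type u} [AddCommGroup M] [Module R M] [AddCommGroup N] [Module R N]
    (f : M →ₗ[R] N) (x : LocCoh.H I i M × LocCoh.H J i M) :
    mvDiff I J i N (Prod.map (hmap I i f) (hmap J i f) x) = hmap _ i f (mvDiff I J i M x) := by
  obtain ⟨a, b⟩ := x
  rw [Prod.map_apply, mvDiff_apply, mvDiff_apply, map_sub, cmpLE_hmap, cmpLE_hmap]

theorem mvStep_zero (M : Type u) [AddCommGroup M] [Module R M] : MVStep I J 0 M := by
  obtain ⟨E, _, _, f, hE, hf, hac⟩ := exists_injective_extension (R := R) M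
  set g := (LinearMap.range f).mkQ
  have hS := shortExact_mk f g hf (Submodule.mkQ_surjective _) f.exact_map_mkQ_range
  have hgf : ∀ m, g (f m) = 0 := fun m => (Submodule.Quotient.mk_eq_zero _).2 ⟨m, rfl⟩
  constructor
  · ext ⟨a, b⟩
    rw [LinearMap.mem_ker, LinearMap.mem_range]
    constructor
    · intro h
      have h' : zeroMap I M a = zeroMap J M b := by
        have h1 := congrArg (zeroMap (I ⊓ J) M) h
        rwa [map_zero, mvDiff_apply, map_sub, zeroMap_cmpLE, zeroMap_cmpLE, sub_eq_zero] at h1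
      obtain ⟨c, hc⟩ := exists_zeroMap_eq (I ⊔ J) (mem_powTors_sup (zeroMap_mem I a) (h' ▸ zeroMap_mem J b))
      exact ⟨c, Prod.ext (zeroMap_injective _ _ ((zeroMap_cmpLE _ _ c).trans hc))
        (zeroMap_injective _ _ ((zeroMap_cmpLE _ _ c).trans (hc.trans h')))⟩
    · rintro ⟨c, hc⟩
      obtain ⟨rfl, rfl⟩ := Prod.ext_iff.1 hc
      refine zeroMap_injective _ _ ?_
      rw [map_zero, mvDiff_apply, map_sub, sub_eq_zero]
      exact (((zeroMap_cmpLE _ M _).trans (zeroMap_cmpLE _ M _)).trans (zeroMap_cmpLE _ M _).symm).trans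
        (zeroMap_cmpLE _ M _).symm
  -- the connecting map
  let W : Submodule R (LocCoh.H I 0 E × LocCoh.H J 0 E) :=
    LinearMap.ker (g ∘ₗ zeroMap (I ⊓ J) E ∘ₗ mvDiff I J 0 E)
  have hW : ∀ w : W, g (zeroMap I E w.1.1) = g (zeroMap J E w.1.2) := fun w => by
    have h1 : g (zeroMap (I ⊓ J) E (mvDiff I J 0 E w.1)) = 0 := LinearMap.mem_ker.1 w.2
    rwa [mvDiff_apply, map_sub, zeroMap_cmpLE, zeroMap_cmpLE, map_sub, sub_eq_zero] at h1
  have hW' : ∀ w : W, ∃ m : M, f m = zeroMap I E w.1.1 - zeroMap J E w.1.2 := fun w =>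
    (Submodule.Quotient.eq _).1 (hW w)
  choose μ hμ using hW'
  have hμP : ∀ w, μ w ∈ powTors (I ⊓ J) M := fun w => by
    obtain ⟨n, hn⟩ := mem_powTors_iff.1 (sub_mem (powTors_anti (inf_le_left : I ⊓ J ≤ I) E (zeroMap_mem I w.1.1))
      (powTors_anti (inf_le_right : I ⊓ J ≤ J) E (zeroMap_mem J w.1.2)))
    exact mem_powTors_iff.2 ⟨n, fun r hr => hf (by rw [map_smul, hμ, hn r hr, map_zero])⟩
  have hq : ∀ w : W, g (zeroMap I E w.1.1) ∈ powTors (I ⊔ J) (E ⧸ LinearMap.range f) := fun w => by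
    refine mem_powTors_sup ?_ ?_
    · obtain ⟨n, hn⟩ := mem_powTors_iff.1 (zeroMap_mem I w.1.1)
      exact mem_powTors_iff.2 ⟨n, fun r hr => by rw [← map_smul, hn r hr, map_zero]⟩
    · obtain ⟨n, hn⟩ := mem_powTors_iff.1 (zeroMap_mem J w.1.2)
      exact mem_powTors_iff.2 ⟨n, fun r hr => by rw [hW w, ← map_smul, hn r hr, map_zero]⟩
  let α : W →ₗ[R] LocCoh.H (I ⊓ J) 0 M := (zeroEquiv (I ⊓ J) M).symm.toLinearMap ∘ₗ
    { toFun := fun w => (⟨μ w, hμP w⟩ : powTors (I ⊓ J) M)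
      map_add' := fun w w' => Subtype.ext (hf (by
        simp only [Submodule.coe_add, map_add, hμ, Prod.fst_add, Prod.snd_add]; abel))
      map_smul' := fun r w => Subtype.ext (hf (by
        simp only [SetLike.val_smul, RingHom.id_apply, map_smul, hμ, Prod.smul_fst, Prod.smul_snd, smul_sub])) }
  let β : W →ₗ[R] LocCoh.H (I ⊔ J) 1 M := δ (I ⊔ J) 0 hS ∘ₗ (zeroEquiv (I ⊔ J) _).symm.toLinearMap ∘ₗ
    LinearMap.codRestrict (powTors (I ⊔ J) (E ⧸ LinearMap.range f))
      (g ∘ₗ zeroMap I E ∘ₗ LinearMap.fst R _ _ ∘ₗ W.subtype) hq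
  have hzq : ∀ (K : Ideal R) {X : Type u} [AddCommGroup X] [Module R X] (c : powTors K X),
      zeroMap K X ((zeroEquiv K X).symm c) = (c : X) :=
    fun K X _ _ c => congrArg Subtype.val ((zeroEquiv K X).apply_symm_apply c)
  have hαz : ∀ w, zeroMap (I ⊓ J) M (α w) = μ w := fun w => hzq _ _
  have hβz : ∀ w, zeroMap (I ⊔ J) _ ((zeroEquiv (I ⊔ J) _).symm ⟨_, hq w⟩) = g (zeroMap I E w.1.1) :=
    fun w => hzq _ _
  have hβδ : ∀ w, β w = δ (I ⊔ J) 0 hS ((zeroEquiv (I ⊔ J) _).symm ⟨_, hq w⟩) := fun w => rfl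
  have hαs : Function.Surjective α := fun x => by
    have hfx : f (zeroMap (I ⊓ J) M x) ∈ powTors (I ⊓ J) E := by
      obtain ⟨n, hn⟩ := mem_powTors_iff.1 (zeroMap_mem (I ⊓ J) x)
      exact mem_powTors_iff.2 ⟨n, fun r hr => by rw [← map_smul, hn r hr, map_zero]⟩
    obtain ⟨z, hz⟩ := exists_zeroMap_eq _ hfx
    obtain ⟨p, hp⟩ := mvDiff_zero_surjective (I := I) (J := J) hE z
    have hpW : p ∈ W := by
      show g (zeroMap _ E (mvDiff I J 0 E p)) = 0
      rw [hp, hz, hgf]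
    refine ⟨⟨p, hpW⟩, zeroMap_injective _ _ (hf ?_)⟩
    rw [hαz, hμ, ← hz, ← hp]
    show _ = zeroMap _ E (mvDiff I J 0 E (p.1, p.2))
    rw [mvDiff_apply, map_sub, zeroMap_cmpLE, zeroMap_cmpLE]
  have hker : LinearMap.ker α ≤ LinearMap.ker β := fun w hw => by
    have h0 : zeroMap I E w.1.1 = zeroMap J E w.1.2 := by
      rw [← sub_eq_zero, ← hμ, ← hαz, LinearMap.mem_ker.1 hw, map_zero, map_zero]
    obtain ⟨t, ht⟩ := exists_zeroMap_eq (I ⊔ J) (mem_powTors_sup (zeroMap_mem I w.1.1) (h0 ▸ zeroMap_mem J w.1.2))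
    refine (exact_map_δ (I ⊔ J) 0 hS _).2 ⟨t, zeroMap_injective _ _ ?_⟩
    exact ((zeroMap_natural _ g t).trans (congrArg g ht)).trans (hβz w).symm
  let d : LocCoh.H (I ⊓ J) 0 M →ₗ[R] LocCoh.H (I ⊔ J) 1 M :=
    (LinearMap.ker α).liftQ β hker ∘ₗ (α.quotKerEquivOfSurjective hαs).symm.toLinearMap
  have hd : ∀ w, d (α w) = β w := fun w => by
    show (LinearMap.ker α).liftQ β hker ((α.quotKerEquivOfSurjective hαs).symm (α w)) = β w
    rw [show (α.quotKerEquivOfSurjective hαs).symm (α w) = Submodule.Quotient.mk w from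
      (LinearEquiv.symm_apply_eq _).2 (by simp)]
    rfl
  refine ⟨d, ?_, ?_⟩
  · ext x
    obtain ⟨w, rfl⟩ := hαs x
    rw [LinearMap.mem_ker, hd, LinearMap.mem_range]
    constructor
    · intro h
      obtain ⟨t, ht⟩ := (exact_map_δ (I ⊔ J) 0 hS _).1 h
      have h1 : g (zeroMap I E w.1.1) = g (zeroMap (I ⊔ J) E t) :=
        ((hβz w).symm.trans (congrArg (zeroMap _ _) ht).symm).trans (zeroMap_natural _ g t)
      obtain ⟨m1, hm1⟩ := (Submodule.Quotient.eq _).1 h1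
      obtain ⟨m2, hm2⟩ := (Submodule.Quotient.eq _).1 ((hW w).symm.trans h1)
      have htt := zeroMap_mem (I ⊔ J) t
      have hm1I : m1 ∈ powTors I M := by
        obtain ⟨n, hn⟩ := mem_powTors_iff.1 (sub_mem (zeroMap_mem I w.1.1) (powTors_anti le_sup_left E htt))
        exact mem_powTors_iff.2 ⟨n, fun r hr => hf (by rw [map_smul, hm1, hn r hr, map_zero])⟩
      have hm2J : m2 ∈ powTors J M := by
        obtain ⟨n, hn⟩ := mem_powTors_iff.1 (sub_mem (zeroMap_mem J w.1.2) (powTors_anti le_sup_right E htt))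
        exact mem_powTors_iff.2 ⟨n, fun r hr => hf (by rw [map_smul, hm2, hn r hr, map_zero])⟩
      obtain ⟨a, ha⟩ := exists_zeroMap_eq I hm1I
      obtain ⟨b, hb⟩ := exists_zeroMap_eq J hm2J
      refine ⟨(a, b), zeroMap_injective _ _ (hf ?_)⟩
      rw [hαz, hμ, mvDiff_apply, map_sub, zeroMap_cmpLE, zeroMap_cmpLE, ha, hb, map_sub, hm1, hm2]
      abel
    · rintro ⟨⟨a, b⟩, hab⟩
      have h1 : zeroMap I E w.1.1 - zeroMap J E w.1.2 = f (zeroMap I M a) - f (zeroMap J M b) := by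
        rw [← hμ, ← hαz, ← hab, mvDiff_apply, map_sub, zeroMap_cmpLE, zeroMap_cmpLE, map_sub]
      have hfa : f (zeroMap I M a) ∈ powTors I E := zeroMap_natural I f a ▸ zeroMap_mem I _
      have hfb : f (zeroMap J M b) ∈ powTors J E := zeroMap_natural J f b ▸ zeroMap_mem J _
      have ht : zeroMap I E w.1.1 - f (zeroMap I M a) ∈ powTors (I ⊔ J) E := by
        refine mem_powTors_sup (sub_mem (zeroMap_mem I _) hfa) ?_
        rw [show zeroMap I E w.1.1 - f (zeroMap I M a) = zeroMap J E w.1.2 - f (zeroMap J M b) from by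
          rw [sub_eq_sub_iff_sub_eq_sub]; exact h1]
        exact sub_mem (zeroMap_mem J _) hfb
      obtain ⟨t, ht'⟩ := exists_zeroMap_eq _ ht
      refine (exact_map_δ (I ⊔ J) 0 hS _).2 ⟨t, zeroMap_injective _ _ ?_⟩
      refine (zeroMap_natural _ g t).trans ?_
      rw [ht', map_sub, hgf, sub_zero]
      exact (hβz w).symm
  · ext x
    rw [LinearMap.mem_ker, LinearMap.mem_range]
    constructor
    · intro h
      obtain ⟨q, rfl⟩ : ∃ q : LocCoh.H (I ⊔ J) 0 (E ⧸ LinearMap.range f), δ (I ⊔ J) 0 hS q = x :=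
        (exact_δ_map (I ⊔ J) 0 hS x).1 ((hac (I ⊔ J) 0).elim _ _)
      have hlift : ∀ (K : Ideal R) (hK : K ≤ I ⊔ J), cmpLE hK 1 M (δ (I ⊔ J) 0 hS q) = 0 →
          ∃ e : LocCoh.H K 0 E, g (zeroMap K E e) = zeroMap (I ⊔ J) _ q := fun K hK h0 => by
        obtain ⟨e, he⟩ := (exact_map_δ K 0 hS _).1 ((cmpLE_δ hK 0 hS q).symm.trans h0)
        exact ⟨e, (zeroMap_natural K g e).symm.trans ((congrArg (zeroMap K _) he).trans (zeroMap_cmpLE hK _ q))⟩
      obtain ⟨ea, hea⟩ := hlift I le_sup_left (congrArg Prod.fst h)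
      obtain ⟨eb, heb⟩ := hlift J le_sup_right (congrArg Prod.snd h)
      have hpW : (ea, eb) ∈ W := by
        show g (zeroMap _ E (mvDiff I J 0 E (ea, eb))) = 0
        rw [mvDiff_apply, map_sub, zeroMap_cmpLE, zeroMap_cmpLE, map_sub, hea, heb, sub_self]
      refine ⟨α ⟨(ea, eb), hpW⟩, ?_⟩
      rw [hd, hβδ]
      exact congrArg (δ (I ⊔ J) 0 hS)
        (zeroMap_injective (I ⊔ J) (E ⧸ LinearMap.range f) ((hβz ⟨(ea, eb), hpW⟩).trans hea))
    · rintro ⟨y, rfl⟩
      obtain ⟨w, rfl⟩ := hαs y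
      rw [hd]
      refine Prod.ext ((cmpLE_δ _ 0 hS _).trans ((exact_map_δ I 0 hS _).2 ⟨w.1.1, zeroMap_injective _ _ ?_⟩))
        ((cmpLE_δ _ 0 hS _).trans ((exact_map_δ J 0 hS _).2 ⟨w.1.2, zeroMap_injective _ _ ?_⟩))
      · exact (zeroMap_natural I g _).trans (((zeroMap_cmpLE _ _ _).trans (hβz w)).symm)
      · exact ((zeroMap_natural J g _).trans (hW w).symm).trans (((zeroMap_cmpLE _ _ _).trans (hβz w)).symm)

theorem mvStep (i : ℕ) : ∀ (M : Type u) [AddCommGroup M] [Module R M], MVStep I J i M := by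
  induction i with
  | zero => exact mvStep_zero I J
  | succ i ih =>
    intro M _ _
    obtain ⟨E, _, _, f, hE, hf, hac⟩ := exists_injective_extension (R := R) M
    set g := (LinearMap.range f).mkQ
    have hg : Function.Surjective g := Submodule.mkQ_surjective _
    have hS := shortExact_mk f g hf hg f.exact_map_mkQ_range
    obtain ⟨hQ, dQ, hdker, hdrange⟩ := ih (E ⧸ LinearMap.range f)
    let eL := δEquiv (I ⊔ J) hf hg f.exact_map_mkQ_range (i + 1) (hac _ i) (hac _ (i + 1))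
    let dP : LocCoh.H (I ⊓ J) i (E ⧸ LinearMap.range f) →ₗ[R] LocCoh.H (I ⊓ J) (i + 1) M := δ (I ⊓ J) i hS
    have hdP : Function.Surjective dP := fun x => (exact_δ_map (I ⊓ J) i hS x).1 ((hac _ i).elim _ _)
    have hd : ∀ (K : Ideal R) (x : LocCoh.H K (i + 1) M), ∃ q : LocCoh.H K i (E ⧸ LinearMap.range f), δ K i hS q = x :=
      fun K x => (exact_δ_map K i hS x).1 ((hac _ i).elim _ _)
    have hdiff : ∀ (a : LocCoh.H I i (E ⧸ LinearMap.range f)) (b : LocCoh.H J i (E ⧸ LinearMap.range f)),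
        mvDiff I J (i + 1) M (δ I i hS a, δ J i hS b) = dP (mvDiff I J i _ (a, b)) := fun a b => by
      rw [mvDiff_apply, mvDiff_apply, map_sub]
      exact congrArg₂ (· - ·) (cmpLE_δ _ i hS a) (cmpLE_δ _ i hS b)
    have hpair : ∀ c : LocCoh.H (I ⊔ J) i (E ⧸ LinearMap.range f), mvPair I J (i + 1) M (δ (I ⊔ J) i hS c) =
        (δ I i hS (mvPair I J i _ c).1, δ J i hS (mvPair I J i _ c).2) := fun c =>
      Prod.ext (cmpLE_δ _ i hS c) (cmpLE_δ _ i hS c)
    -- the kernel of `dP` consists of differences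
    have hkerP : LinearMap.ker dP ≤ LinearMap.ker dQ := fun x hx => by
      rw [hdker]
      obtain ⟨e, he⟩ := (exact_map_δ (I ⊓ J) i hS x).1 hx
      cases i with
      | zero =>
        obtain ⟨p, hp⟩ := mvDiff_zero_surjective (I := I) (J := J) hE e
        exact ⟨Prod.map (hmap I 0 g) (hmap J 0 g) p, by rw [mvDiff_hmap, hp]; exact he⟩
      | succ i =>
        have h0 : x = 0 := he.symm.trans ((congrArg _ ((hac _ i).elim e 0)).trans (map_zero _))
        exact h0 ▸ zero_mem _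
    refine ⟨le_antisymm (fun p hp => ?_) ?_,
      eL.toLinearMap ∘ₗ (LinearMap.ker dP).liftQ dQ hkerP ∘ₗ (dP.quotKerEquivOfSurjective hdP).symm.toLinearMap, ?_, ?_⟩
    · obtain ⟨a, b⟩ := p
      obtain ⟨a', rfl⟩ := hd I a
      obtain ⟨b', rfl⟩ := hd J b
      obtain ⟨e, he⟩ := (exact_map_δ (I ⊓ J) i hS _).1 ((hdiff a' b').symm.trans (LinearMap.mem_ker.1 hp))
      obtain ⟨ea, eb, hab⟩ : ∃ (ea : LocCoh.H I i E) (eb : LocCoh.H J i E),
          mvDiff I J i _ (a' - hmap I i g ea, b' - hmap J i g eb) = 0 := by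
        cases i with
        | zero =>
          obtain ⟨p, hp⟩ := mvDiff_zero_surjective (I := I) (J := J) hE e
          refine ⟨p.1, p.2, ?_⟩
          rw [show (a' - hmap I 0 g p.1, b' - hmap J 0 g p.2) = (a', b') - Prod.map (hmap I 0 g) (hmap J 0 g) p from rfl,
            map_sub, mvDiff_hmap, hp, sub_eq_zero]
          exact he.symm
        | succ i =>
          have h0 := he.symm.trans ((congrArg _ ((hac _ i).elim e 0)).trans (map_zero _))
          exact ⟨0, 0, by rw [map_zero, map_zero, sub_zero, sub_zero]; exact h0⟩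
      obtain ⟨c, hc⟩ := LinearMap.mem_range.1 (hQ ▸ LinearMap.mem_ker.2 hab)
      refine ⟨δ (I ⊔ J) i hS c, ?_⟩
      rw [hpair, hc]
      refine Prod.ext ((map_sub (δ I i hS) a' _).trans ?_) ((map_sub (δ J i hS) b' _).trans ?_)
      · exact (congrArg (δ I i hS a' - ·) ((exact_map_δ I i hS _).2 ⟨ea, rfl⟩)).trans (sub_zero _)
      · exact (congrArg (δ J i hS b' - ·) ((exact_map_δ J i hS _).2 ⟨eb, rfl⟩)).trans (sub_zero _)
    · rintro _ ⟨c, rfl⟩
      obtain ⟨c', rfl⟩ := hd (I ⊔ J) c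
      rw [LinearMap.mem_ker, hpair]
      exact (hdiff _ _).trans ((congrArg dP (LinearMap.mem_ker.1 (hQ ▸ LinearMap.mem_range_self _ c') :
        mvDiff I J i _ ((mvPair I J i _ c').1, (mvPair I J i _ c').2) = 0)).trans (map_zero dP))
    all_goals
      have happly : ∀ q, (eL.toLinearMap ∘ₗ (LinearMap.ker dP).liftQ dQ hkerP ∘ₗ
          (dP.quotKerEquivOfSurjective hdP).symm.toLinearMap) (dP q) = eL (dQ q) := fun q => by
        show eL ((LinearMap.ker dP).liftQ dQ hkerP ((dP.quotKerEquivOfSurjective hdP).symm (dP q))) = _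
        rw [show (dP.quotKerEquivOfSurjective hdP).symm (dP q) = Submodule.Quotient.mk q from
          (LinearEquiv.symm_apply_eq _).2 (by simp)]
        rfl
      ext x
      rw [LinearMap.mem_ker, LinearMap.mem_range]
    · obtain ⟨q, rfl⟩ := hdP x
      rw [happly, LinearEquiv.map_eq_zero_iff, ← LinearMap.mem_ker, hdker]
      constructor
      · rintro ⟨⟨a, b⟩, rfl⟩
        exact ⟨_, hdiff a b⟩
      · rintro ⟨⟨a, b⟩, hab⟩
        obtain ⟨a', rfl⟩ := hd I a
        obtain ⟨b', rfl⟩ := hd J b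
        rw [hdiff] at hab
        have h1 : mvDiff I J i _ (a', b') - q ∈ LinearMap.range (mvDiff I J i _) :=
          hdker ▸ hkerP (LinearMap.mem_ker.2 (by rw [map_sub, hab, sub_self]))
        simpa using sub_mem (LinearMap.mem_range_self _ (a', b')) h1
    · obtain ⟨c, rfl⟩ := eL.surjective x
      have hc : mvPair I J (i + 1 + 1) M (eL c) =
          (δ I (i + 1) hS (mvPair I J (i + 1) _ c).1, δ J (i + 1) hS (mvPair I J (i + 1) _ c).2) :=
        Prod.ext (cmpLE_δ _ (i + 1) hS c) (cmpLE_δ _ (i + 1) hS c)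
      rw [hc]
      constructor
      · intro h
        have h1 : mvPair I J (i + 1) _ c = 0 := Prod.ext
          ((δEquiv I hf hg f.exact_map_mkQ_range (i + 1) (hac _ i) (hac _ (i + 1))).injective
            ((congrArg Prod.fst h).trans (map_zero _).symm))
          ((δEquiv J hf hg f.exact_map_mkQ_range (i + 1) (hac _ i) (hac _ (i + 1))).injective
            ((congrArg Prod.snd h).trans (map_zero _).symm))
        obtain ⟨q, hq⟩ := LinearMap.mem_range.1 (hdrange ▸ LinearMap.mem_ker.2 h1)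
        exact ⟨dP q, by rw [happly, hq]⟩
      · rintro ⟨y, hy⟩
        obtain ⟨q, rfl⟩ := hdP y
        rw [happly] at hy
        have hcq : mvPair I J (i + 1) _ c = 0 := by
          rw [← eL.injective hy]
          exact LinearMap.mem_ker.1 (hdrange ▸ LinearMap.mem_range_self _ q)
        rw [hcq]
        exact Prod.ext (map_zero _) (map_zero _)

theorem mayer_vietoris (M : Type u) [AddCommGroup M] [Module R M] :
    ∃ δ : ∀ i : ℕ, LocCoh.H (I ⊓ J) i M →ₗ[R] LocCoh.H (I ⊔ J) (i + 1) M,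
      Function.Injective (mvPair I J 0 M) ∧ (∀ i, LinearMap.ker (mvPair I J (i + 1) M) = LinearMap.range (δ i)) ∧
        (∀ i, LinearMap.ker (mvDiff I J i M) = LinearMap.range (mvPair I J i M)) ∧
        (∀ i, LinearMap.ker (δ i) = LinearMap.range (mvDiff I J i M)) := by
  choose δ h1 h2 using fun i => (mvStep I J i M).2
  exact ⟨δ, mvPair_zero_injective I J M, h2, fun i => (mvStep I J i M).1, h1⟩

end Groth.Agent.LocCohLib
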