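import Groth.Agent.Lib.LocCoh.PunctSec27
import Groth.Agent.Lib.CurveCoh17.Skyscraper
import Groth.Agent.Lib.PunctFree27.Annihilated

/-!
# Cohomology of `M~` on a punctured affine scheme is local cohomology
-/

set_option autoImplicit false
set_option linter.style.haveILetI false

universe u

open CategoryTheory Limits AlgebraicGeometry TopologicalSpace Opposite

noncomputable section

namespace Groth.Agent.LocCohSheafLib

open Groth.Agent.M1 Groth.Agent.CurveCoh17 Groth.Agent.LocCohLib Groth.Agent.InjHullLib

variable {R : Type u} [CommRing R] [IsNoetherianRing R] (a : Ideal R)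

/-- Restriction maps of the sheaf of an injective module are surjective. -/
theorem rho_surjective_of_injective {E : Type u} [AddCommGroup E] [Module R E] [Module.Injective R E]
    {V W : (Spec (CommRingCat.of R)).Opens} (h : V ≤ W) : Function.Surjective (rho E h) := by
  obtain ⟨b, rfl⟩ : ∃ b : Ideal R, V = LocCoh.puncturedOpen R b := by
    obtain ⟨b, hb⟩ := (PrimeSpectrum.isClosed_iff_zeroLocus_ideal (R := R) _).1 V.isOpen.isClosed_compl
    exact ⟨b, SetLike.coe_injective (by rw [← compl_compl (V : Set (Spec (CommRingCat.of R)))]; exact congrArg compl hb)⟩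
  intro t
  obtain ⟨e, rfl⟩ := toS_surjective_of_injective b t
  exact ⟨toS E W e, rho_toS E h e⟩

/-- The sheaf of `M` on the punctured spectrum. -/
abbrev punct (M : Type u) [AddCommGroup M] [Module R M] : (↑(LocCoh.puncturedOpen R a) : Scheme.{u}).Modules :=
  (tilde (R := CommRingCat.of R) (ModuleCat.of R M)).restrict (LocCoh.puncturedOpen R a).ι

theorem subsingleton_HH_punct_injective (E : Type u) [AddCommGroup E] [Module R E] [Module.Injective R E] (n : ℕ) :
    Subsingleton (Coh.HH (↑(LocCoh.puncturedOpen R a)) (punct a E) (n + 1)) := by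
  rw [CohFound.subsingleton_HH_iff]
  haveI : TopCat.Sheaf.IsFlasque ((CohFound.abF _).obj (punct a E)) :=
    CohFound.isFlasque_mk _ fun _ _ h s =>
      rho_surjective_of_injective (E := E) ((LocCoh.puncturedOpen R a).ι.image_mono h) s
  exact CohFound.subsingleton_hc_of_isFlasque _ n ⊤

/-- The short exact sequence on the punctured spectrum. -/
theorem shortExact_punct {A : CommRingCat.{u}} {S : ShortComplex (ModuleCat.{u} A)} (hS : S.ShortExact)
    (U : (Spec A).Opens) :
    ((S.map (tilde.functor A)).map (Scheme.Modules.restrictFunctor U.ι)).ShortExact := by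
  haveI : PreservesFiniteLimits (Scheme.Modules.restrictFunctor U.ι) := inferInstance
  exact (hS.map_of_exact (tilde.functor A)).map_of_exact (Scheme.Modules.restrictFunctor U.ι)

/-- Global sections of the restricted sheaf. -/
def secTop (M : Type u) [AddCommGroup M] [Module R M] :
    Γ(punct a M, ⊤) ≃+ Sec M (LocCoh.puncturedOpen R a) :=
  ((tilde (R := CommRingCat.of R) (ModuleCat.of R M)).presheaf.mapIso
    (eqToIso (LocCoh.puncturedOpen R a).ι_image_top).op).addCommGroupIsoToAddEquiv.symm

variable {M N : Type u} [AddCommGroup M] [Module R M] [AddCommGroup N] [Module R N]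

theorem secTop_natural (φ : M →ₗ[R] N) (s : Γ(punct a M, ⊤)) :
    secTop a N (((Scheme.Modules.restrictFunctor (LocCoh.puncturedOpen R a).ι).map
      (tilde.map (R := CommRingCat.of R) (ModuleCat.ofHom φ))).app ⊤ s) = secMap φ _ (secTop a M s) :=
  (map_app_eq (tilde.map (R := CommRingCat.of R) (ModuleCat.ofHom φ)) (LocCoh.puncturedOpen R a).ι_image_top.ge s).symm

theorem secMap_smul_id (c : R) (W : (Spec (CommRingCat.of R)).Opens) (s : Sec M W) :
    secMap (c • (LinearMap.id : M →ₗ[R] M)) W s = c • s := by
  have h := PunctFree27.tilde_map_smul (R := CommRingCat.of R) (ModuleCat.of R M) c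
  refine (congrArg (fun φ => Scheme.Modules.Hom.app φ W s) h).trans ?_
  exact (KLin.smulModΓ_app_apply _ _ W s).trans (Scheme.Modules.smul_Spec_def (R := CommRingCat.of R) (M := tilde (ModuleCat.of R M)) c s).symm

/-- Global sections of `M~` on the punctured spectrum, linearly. -/
def secTopH (M : Type u) [AddCommGroup M] [Module R M] :
    Coh.HH (↑(LocCoh.puncturedOpen R a)) (punct a M) 0 ≃ₗ[R] Sec M (LocCoh.puncturedOpen R a) :=
  { (hh0 (punct a M)).trans (secTop a M) with
    map_smul' := fun c x => by
      show secTop a M (hh0 (punct a M) (c • x)) = c • secTop a M (hh0 (punct a M) x)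
      rw [← secMap_smul_id c, ← secTop_natural, ← hh0_hmap R]
      exact congrArg (secTop a M) (congrArg (hh0 (punct a M))
        (PunctFree27.hmap_punctF_smul a (ModuleCat.of (CommRingCat.of R) M) c 0 x).symm) }

/-- `H^p(U, M~) ≅ H^{p+1}_a(M)` for `p ≥ 1`. -/
theorem nonempty_HH_punct_equiv : ∀ (p : ℕ) (M : Type u) [AddCommGroup M] [Module R M],
    Nonempty (Coh.HH (↑(LocCoh.puncturedOpen R a)) (punct a M) (p + 1) ≃ₗ[R] LocCoh.H a (p + 2) M) := by
  intro p
  induction p with
  | zero =>
    intro M _ _
    obtain ⟨E, _, _, f, hE, hf, hac⟩ := exists_injective_extension (R := R) M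
    let g := (LinearMap.range f).mkQ
    have hg : Function.Surjective g := Submodule.mkQ_surjective _
    have hS := shortExact_punct (A := CommRingCat.of R) (shortExact_mk f g hf hg f.exact_map_mkQ_range)
      (LocCoh.puncturedOpen R a)
    let C := E ⧸ LinearMap.range f
    obtain ⟨e1⟩ := nonempty_coker_toS_equiv a C
    let δ₀ := hdelta R hS 0
    haveI := subsingleton_HH_punct_injective a E 0
    have hδ : Function.Surjective δ₀ := fun x => (exact_hdelta_hmap R hS 0 x).1 (Subsingleton.elim (α := Coh.HH _ (punct a E) 1) _ _)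
    let Φ : Coh.HH (↑(LocCoh.puncturedOpen R a)) (punct a C) 0 →ₗ[R]
        (Sec C (LocCoh.puncturedOpen R a) ⧸ LinearMap.range (toS C (LocCoh.puncturedOpen R a))) :=
      (LinearMap.range (toS C (LocCoh.puncturedOpen R a))).mkQ ∘ₗ (secTopH a C).toLinearMap
    have hΦ : Function.Surjective Φ := (Submodule.mkQ_surjective _).comp (secTopH a C).surjective
    have hker : LinearMap.ker δ₀ = LinearMap.ker Φ := by
      ext x
      show δ₀ x = 0 ↔ (LinearMap.range (toS C (LocCoh.puncturedOpen R a))).mkQ (secTop a C (hh0 (punct a C) x)) = 0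
      rw [Submodule.mkQ_apply, Submodule.Quotient.mk_eq_zero, LinearMap.mem_range]
      constructor
      · intro hx
        obtain ⟨y, rfl⟩ := (exact_hmap_hdelta R hS 0 x).1 hx
        obtain ⟨e, he⟩ := toS_surjective_of_injective a (E := E) (secTop a E (hh0 (punct a E) y))
        refine ⟨g e, ?_⟩
        rw [← secMap_toS, he, ← secTop_natural]
        exact congrArg (secTop a C) (hh0_hmap R _ y).symm
      · rintro ⟨c, hc⟩
        obtain ⟨e, rfl⟩ := hg c
        refine (exact_hmap_hdelta R hS 0 x).2 ⟨((hh0 (punct a E)).trans (secTop a E)).symm (toS E (LocCoh.puncturedOpen R a) e), ?_⟩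
        apply ((hh0 (punct a C)).trans (secTop a C)).injective
        refine Eq.trans ?_ hc
        show secTop a C (hh0 (punct a C) _) = toS C (LocCoh.puncturedOpen R a) (g e)
        refine ((congrArg (secTop a C) (hh0_hmap R _ _)).trans (secTop_natural a g _)).trans ?_
        rw [← AddEquiv.trans_apply, AddEquiv.apply_symm_apply, secMap_toS]
    exact ⟨((δ₀.quotKerEquivOfSurjective hδ).symm.trans
      ((Submodule.quotEquivOfEq _ _ hker).trans (Φ.quotKerEquivOfSurjective hΦ))).trans
      (e1.trans (δEquiv a hf hg f.exact_map_mkQ_range 1 (hac a 0) (hac a 1)))⟩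
  | succ p ih =>
    intro M _ _
    obtain ⟨E, _, _, f, hE, hf, hac⟩ := exists_injective_extension (R := R) M
    let g := (LinearMap.range f).mkQ
    have hg : Function.Surjective g := Submodule.mkQ_surjective _
    have hS := shortExact_punct (A := CommRingCat.of R) (shortExact_mk f g hf hg f.exact_map_mkQ_range)
      (LocCoh.puncturedOpen R a)
    haveI := subsingleton_HH_punct_injective a E p
    haveI := subsingleton_HH_punct_injective a E (p + 1)
    obtain ⟨e⟩ := ih (E ⧸ LinearMap.range f)
    let δ₁ : Coh.HH (↑(LocCoh.puncturedOpen R a)) (punct a (E ⧸ LinearMap.range f)) (p + 1) →ₗ[R]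
        Coh.HH (↑(LocCoh.puncturedOpen R a)) (punct a M) (p + 1 + 1) := hdelta R hS (p + 1)
    have hb : Function.Bijective δ₁ := by
      refine ⟨(injective_iff_map_eq_zero _).2 fun x hx => ?_, fun x =>
        (exact_hdelta_hmap R hS (p + 1) x).1 (Subsingleton.elim (α := Coh.HH _ (punct a E) (p + 1 + 1)) _ _)⟩
      obtain ⟨y, rfl⟩ := (exact_hmap_hdelta R hS (p + 1) x).1 hx
      rw [Subsingleton.elim (α := Coh.HH _ (punct a E) (p + 1)) y 0]
      exact map_zero _
    exact ⟨((LinearEquiv.ofBijective δ₁ hb).symm.trans e).trans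
      (δEquiv a hf hg f.exact_map_mkQ_range (p + 2) (hac a (p + 1)) (hac a (p + 2)))⟩

end Groth.Agent.LocCohSheafLib
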