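import Groth.Agent.Lib.LocCoh.Restrict
import Groth.Agent.Lib.LocCoh.Finiteness
import Groth.Agent.Lib.LocCoh.Nonvanish
import Groth.Agent.Lib.Depth.CM
import Mathlib.RingTheory.Localization.LocalizationLocalization
import Mathlib.LinearAlgebra.TensorProduct.Tower

/-!
# Local cohomology and depth under localization
-/

universe u

open CategoryTheory Groth.Agent.InjHullLib IsLocalRing TensorProduct

noncomputable section

namespace Groth.Agent.LocCohLib

variable {R : Type u} [CommRing R] [IsNoetherianRing R]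

/-- An element outside the prime killing `H^i_I(M)` kills the local cohomology of the localization. -/
theorem subsingleton_localization_of_smul (p : Ideal R) [p.IsPrime] {M M' : Type u} [AddCommGroup M]
    [Module R M] [AddCommGroup M'] [Module R M'] (φ : M →ₗ[R] M') [IsLocalizedModule p.primeCompl φ]
    (I : Ideal R) (i : ℕ) {c : R} (hc : c ∉ p) (hkill : ∀ z : LocCoh.H I i M, c • z = 0) :
    Subsingleton (LocCoh.H I i M') := by
  refine subsingleton_of_forall_eq 0 fun x => ?_
  obtain ⟨n, w, rfl⟩ := exists_ι I i _ x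
  obtain ⟨s, hs, z, hz⟩ := (ext_localization p.primeCompl φ i (R ⧸ I ^ n)).2 w
  have h0 : (c * s) • ι I i (ModuleCat.of R M') n w = 0 := by
    rw [mul_smul, ← map_smul (ι I i _ n) s, ← hz, ← map_ι, ← map_smul, hkill, map_zero]
  let e : M' ≃ₗ[R] M' := LinearEquiv.ofBijective ((c * s) • LinearMap.id)
    ((Module.End.isUnit_iff _).1 (IsLocalizedModule.map_units φ ⟨c * s, p.primeCompl.mul_mem hc hs⟩))
  refine (hcongr I i e).injective ?_
  rw [map_zero]
  change hmap I i ((c * s) • (LinearMap.id : M' →ₗ[R] M')) _ = 0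
  rw [hmap_smul, hmap_id]
  exact h0

/-- The grade of the localization gives a non-vanishing local cohomology module. -/
theorem not_le_radical_annihilator_idealDepth (a b : Ideal R) (M : Type u) [AddCommGroup M] [Module R M]
    [Module.Finite R M] (p : Ideal R) [p.IsPrime] (hb : ¬ b ≤ p) (t : ℕ)
    (ht : LocCoh.idealDepth (a.map (algebraMap R (Localization.AtPrime p)))
      (LocalizedModule p.primeCompl M) = t) :
    ¬ b ≤ (Module.annihilator R (LocCoh.H a t M)).radical := by
  intro hle
  obtain ⟨c, hcb, hcp⟩ := SetLike.not_le_iff_exists.1 hb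
  obtain ⟨N, hN⟩ := hle hcb
  have hcN : c ^ N ∉ p := fun h => hcp (Ideal.IsPrime.mem_of_pow_mem inferInstance N h)
  let Rp := Localization.AtPrime p
  have := IsLocalization.isNoetherianRing p.primeCompl Rp inferInstance
  have h1 : Subsingleton (LocCoh.H a t (LocalizedModule p.primeCompl M)) :=
    subsingleton_localization_of_smul p (LocalizedModule.mkLinearMap p.primeCompl M) a t hcN
      (Module.mem_annihilator.1 hN)
  have h2 := (subsingleton_restrictScalars_iff Rp a (LocalizedModule p.primeCompl M) t).2 h1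
  obtain ⟨hlow, hnt⟩ := (DepthLib.idealDepth_eq_iff t).1 ht
  refine not_subsingleton_iff_nontrivial.2 hnt ?_
  refine ((vanishing_below_iff_of_support_eq (I := a.map (algebraMap R Rp))
    (G := ModuleCat.of Rp (LocalizedModule p.primeCompl M)) (Rp ⧸ a.map (algebraMap R Rp))
    (DepthLib.support_quotient _) (t + 1)).1 fun j hj => ?_) t (Nat.lt_succ_self t)
  rcases Nat.lt_succ_iff_lt_or_eq.1 hj with hj | rfl
  · exact (vanishing_below_iff_of_support_eq (I := a.map (algebraMap R Rp))
      (G := ModuleCat.of Rp (LocalizedModule p.primeCompl M)) (Rp ⧸ a.map (algebraMap R Rp))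
      (DepthLib.support_quotient _) t).2 hlow j hj
  · exact h2

/-- Ischebeck's inequality between depths of localizations. -/
theorem depth_localization_le (M : Type u) [AddCommGroup M] [Module R M] [Module.Finite R M]
    (p s : Ideal R) [hp : p.IsPrime] [hs : s.IsPrime] (hps : p ≤ s) :
    LocCoh.depth (Localization.AtPrime s) (LocalizedModule s.primeCompl M) ≤
      LocCoh.depth (Localization.AtPrime p) (LocalizedModule p.primeCompl M) +
        (s.map (Ideal.Quotient.mk p)).height := by
  let Rs := Localization.AtPrime s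
  let Rp := Localization.AtPrime p
  have := IsLocalization.isNoetherianRing s.primeCompl Rs inferInstance
  have := IsLocalization.isNoetherianRing p.primeCompl Rp inferInstance
  have hle : s.primeCompl ≤ p.primeCompl := fun x hx hxp => hx (hps hxp)
  let _ : Algebra Rs Rp := IsLocalization.localizationAlgebraOfSubmonoidLe Rs Rp s.primeCompl p.primeCompl hle
  have : IsScalarTower R Rs Rp :=
    IsLocalization.localization_isScalarTower_of_submonoid_le Rs Rp s.primeCompl p.primeCompl hle
  have : IsLocalization (p.primeCompl.map (algebraMap R Rs)) Rp :=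
    IsLocalization.isLocalization_of_submonoid_le Rs Rp s.primeCompl p.primeCompl hle
  have : Module.Flat Rs Rp := IsLocalization.flat Rp (p.primeCompl.map (algebraMap R Rs))
  let P : Ideal Rs := p.map (algebraMap R Rs)
  have hPm : P.map (algebraMap Rs Rp) = maximalIdeal Rp := by
    rw [Ideal.map_map, ← IsScalarTower.algebraMap_eq, Localization.AtPrime.map_eq_maximalIdeal]
  let Ms := LocalizedModule s.primeCompl M
  let es := (IsLocalizedModule.isBaseChange s.primeCompl Rs (LocalizedModule.mkLinearMap s.primeCompl M)).equiv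
  let ep := (IsLocalizedModule.isBaseChange p.primeCompl Rp (LocalizedModule.mkLinearMap p.primeCompl M)).equiv
  let e : Rp ⊗[Rs] Ms ≃ₗ[Rp] LocalizedModule p.primeCompl M :=
    ((TensorProduct.AlgebraTensorModule.congr (LinearEquiv.refl Rp Rp) es).symm ≪≫ₗ
      TensorProduct.AlgebraTensorModule.cancelBaseChange R Rs Rp Rp M) ≪≫ₗ ep
  have h1 : LocCoh.idealDepth P Ms ≤ LocCoh.depth Rp (LocalizedModule p.primeCompl M) := by
    refine (DepthLib.idealDepth_le_baseChange (A := Rs) (B := Rp)).trans ?_
    rw [hPm, DepthLib.idealDepth_congr e]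
    exact le_rfl
  refine le_trans ?_ (add_le_add_left h1 _)
  -- reduce to numbers
  cases hh : (s.map (Ideal.Quotient.mk p)).height with
  | top => simp
  | coe r =>
    cases ht : LocCoh.idealDepth P Ms with
    | top => simp
    | coe t =>
      refine le_of_not_gt fun hlt => ?_
      have hd : ((t + r + 1 : ℕ) : ℕ∞) ≤ LocCoh.idealDepth (maximalIdeal Rs) Ms := by
        rw [Nat.cast_succ, Nat.cast_add]
        exact Order.add_one_le_of_lt hlt
      have hdim : Module.supportDim Rs (Rs ⧸ P) ≤ (r : WithBot ℕ∞) := by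
        rw [Module.supportDim_quotient_eq_ringKrullDim, ringKrullDim_quotient]
        have hsprime : (s.map (Ideal.Quotient.mk p)).IsPrime :=
          Ideal.map_isPrime_of_surjective Ideal.Quotient.mk_surjective (by rw [Ideal.mk_ker]; exact hps)
        have hqle : ∀ q : PrimeSpectrum.zeroLocus (P : Set Rs),
            p ≤ q.1.asIdeal.comap (algebraMap R Rs) ∧ q.1.asIdeal.comap (algebraMap R Rs) ≤ s := fun q =>
          ⟨Ideal.map_le_iff_le_comap.1 q.2,
            (Ideal.comap_mono (le_maximalIdeal q.1.isPrime.ne_top)).trans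
              Localization.AtPrime.under_maximalIdeal.le⟩
        have hsH : ((s.map (Ideal.Quotient.mk p)).height : WithBot ℕ∞) =
            Order.krullDim (Set.Iic (⟨_, hsprime⟩ : PrimeSpectrum (R ⧸ p))) := by
          rw [← Order.height_eq_krullDim_Iic, PrimeSpectrum.height_eq_orderHeight ⟨_, hsprime⟩]
        refine le_of_le_of_eq ?_ (show ((s.map (Ideal.Quotient.mk p)).height : WithBot ℕ∞) = (r : WithBot ℕ∞) by
          rw [hh]; rfl)
        rw [hsH]
        refine Order.krullDim_le_of_strictMono (fun q =>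
          ⟨⟨(q.1.asIdeal.comap (algebraMap R Rs)).map (Ideal.Quotient.mk p),
            Ideal.map_isPrime_of_surjective Ideal.Quotient.mk_surjective
              (by rw [Ideal.mk_ker]; exact (hqle q).1)⟩,
            Ideal.map_mono (hqle q).2⟩) fun a b hab => ?_
        refine lt_of_le_of_ne (Ideal.map_mono (Ideal.comap_mono hab.le)) fun e' => hab.ne (Subtype.ext ?_)
        have e'' := congrArg (fun z : Set.Iic (⟨_, hsprime⟩ : PrimeSpectrum (R ⧸ p)) =>
          z.1.asIdeal.comap (Ideal.Quotient.mk p)) e'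
        simp only [Ideal.comap_map_of_surjective _ Ideal.Quotient.mk_surjective, ← RingHom.ker_eq_comap_bot,
          Ideal.mk_ker, sup_of_le_left (hqle a).1, sup_of_le_left (hqle b).1] at e''
        exact PrimeSpectrum.localization_comap_injective _ s.primeCompl (PrimeSpectrum.ext e'')
      have hlow : ∀ i, i < t + 1 → Subsingleton (Abelian.Ext (ModuleCat.of Rs (Rs ⧸ P)) (ModuleCat.of Rs Ms) i) :=
        fun i hi => DepthLib.subsingleton_ext_of_supportDim_le (Rs ⧸ P) hd hdim (by omega)
      have := (DepthLib.natCast_le_idealDepth_iff (t + 1)).2 hlow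
      rw [ht, Nat.cast_le] at this
      omega

section HeightOne

variable {A : Type u} [CommRing A] [IsLocalRing A] [IsNoetherianRing A]

theorem not_killed_of_dim_one (a : Ideal A) (M : Type u) [AddCommGroup M] [Module A M] [Module.Finite A M]
    (P : Ideal A) [P.IsPrime] (ι₀ : (A ⧸ P) →ₗ[A] M) (hι : Function.Injective ι₀)
    (hdim : ringKrullDim (A ⧸ P) = 1) (hrad : maximalIdeal A ≤ (a ⊔ P).radical) (ha : a ≤ maximalIdeal A)
    {c : A} (hc : c ∉ P) : ∃ z : LocCoh.H a 1 M, c • z ≠ 0 := by
  by_contra! hkill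
  have htors : LocCoh.IsPowerTorsion P (A ⧸ P) := fun z => ⟨1, fun r hr => by
    obtain ⟨b, rfl⟩ := Ideal.Quotient.mk_surjective z
    rw [pow_one] at hr
    exact Ideal.Quotient.eq_zero_iff_mem.2 (P.mul_mem_right _ hr)⟩
  obtain ⟨e₁⟩ := nonempty_congr_sup a P 1 (A ⧸ P) htors
  obtain ⟨e₂⟩ := nonempty_congr_radical (I := maximalIdeal A) (J := a ⊔ P) hrad
    ((sup_le ha (le_maximalIdeal (Ideal.IsPrime.ne_top inferInstance))).trans Ideal.le_radical) 1 (A ⧸ P)
  have hnf : ¬ Module.Finite A (LocCoh.H a 1 (A ⧸ P)) := fun h =>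
    (nontrivial_and_not_finite 1 (A ⧸ P)
      (by rw [Module.supportDim_quotient_eq_ringKrullDim, hdim]; rfl)).2 le_rfl
      (Module.Finite.equiv (e₂.trans e₁).symm)
  -- `c` acts surjectively
  let mc : (A ⧸ P) →ₗ[A] A ⧸ P := c • LinearMap.id
  have hmc : Function.Injective mc := smul_regular_quotient_prime (p := ⟨P, inferInstance⟩) hc
  have hQ : Subsingleton (LocCoh.H a 1 ((A ⧸ P) ⧸ LinearMap.range mc)) := by
    by_cases hu : IsUnit c
    · have : Subsingleton ((A ⧸ P) ⧸ LinearMap.range mc) := by
        rw [Submodule.Quotient.subsingleton_iff]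
        rw [eq_top_iff]
        intro z _
        exact ⟨(↑hu.unit⁻¹ : A) • z, by simp [mc, ← mul_smul]⟩
      exact subsingleton_of_isPowerTorsion a 0 _ fun z => ⟨0, fun r _ => Subsingleton.elim _ _⟩
    · have hcm : c ∈ maximalIdeal A := hu
      refine subsingleton_of_supportDim_lt a _ 1 ?_
      let eQ : QuotSMulTop c (A ⧸ P) ≃ₗ[A] (A ⧸ P) ⧸ LinearMap.range mc := Submodule.quotEquivOfEq _ _ (by
        ext z
        exact ⟨fun hz => by obtain ⟨w, -, rfl⟩ := Submodule.mem_map.1 hz; exact ⟨w, rfl⟩,
          fun ⟨w, hw⟩ => Submodule.mem_map.2 ⟨w, trivial, hw⟩⟩)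
      have h := Module.supportDim_quotSMulTop_succ_eq_supportDim (M := A ⧸ P)
        (smul_regular_quotient_prime (p := ⟨P, inferInstance⟩) hc) hcm
      rw [Module.supportDim_eq_of_equiv eQ, Module.supportDim_quotient_eq_ringKrullDim, hdim] at h
      by_contra hge
      rw [not_lt] at hge
      have h2 : ((1 : ℕ) : WithBot ℕ∞) + 1 ≤ 1 := (add_le_add_left hge 1).trans h.le
      have h3 : ((1 + 1 : ℕ) : WithBot ℕ∞) ≤ ((1 : ℕ) : WithBot ℕ∞) := by exact_mod_cast h2
      have h4 : ((1 + 1 : ℕ) : ℕ∞) ≤ ((1 : ℕ) : ℕ∞) := WithBot.coe_le_coe.1 h3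
      rw [Nat.cast_le] at h4
      omega
  have hsurj : Function.Surjective (hmap a 1 mc) :=
    hmap_f_surjective a hmc (Submodule.mkQ_surjective _) (exact_smul_mkQ c) 1 hQ
  -- the image in `H^1(M)` vanishes, so everything comes from a finite module
  have hzero : ∀ z, hmap a 1 ι₀ z = 0 := fun z => by
    obtain ⟨w, rfl⟩ := hsurj z
    change hmap a 1 ι₀ (hmap a 1 (c • LinearMap.id) w) = 0
    rw [hmap_smul, hmap_id, LinearMap.smul_apply, map_smul]
    exact hkill _
  have := finite_H_zero a (M ⧸ LinearMap.range ι₀)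
  have hS := shortExact_mk ι₀ (LinearMap.range ι₀).mkQ hι (Submodule.mkQ_surjective _)
    ι₀.exact_map_mkQ_range
  let d : LocCoh.H a 0 (M ⧸ LinearMap.range ι₀) →ₗ[A] LocCoh.H a 1 (A ⧸ P) := δ a 0 hS
  exact hnf (Module.Finite.of_surjective d fun z => (exact_δ_map a 0 hS z).1 (hzero z))

end HeightOne

theorem not_le_radical_annihilator_H_one (a b : Ideal R) (M : Type u) [AddCommGroup M] [Module R M]
    [Module.Finite R M] (p : Ideal R) [hp' : p.IsPrime] (hp : p ∈ associatedPrimes R M) (hb : ¬ b ≤ p)
    (hht : ((a ⊔ p).map (Ideal.Quotient.mk p)).height = 1) :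
    ¬ b ≤ (Module.annihilator R (LocCoh.H a 1 M)).radical := by
  intro hle
  obtain ⟨c, hcb, hcp⟩ := SetLike.not_le_iff_exists.1 hb
  obtain ⟨N, hN⟩ := hle hcb
  obtain ⟨q, hq, hIq, hqht⟩ := Ideal.exists_isPrime_height_eq (n := 1) hht
  let s : Ideal R := q.comap (Ideal.Quotient.mk p)
  have : s.IsPrime := hq.comap _
  have hps : p ≤ s := fun x hx => by
    change Ideal.Quotient.mk p x ∈ q
    rw [Ideal.Quotient.eq_zero_iff_mem.2 hx]
    exact q.zero_mem
  have has : a ⊔ p ≤ s := Ideal.map_le_iff_le_comap.1 hIq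
  let A := Localization.AtPrime s
  have := IsLocalization.isNoetherianRing s.primeCompl A inferInstance
  let Ms := LocalizedModule s.primeCompl M
  let P : Ideal A := p.map (algebraMap R A)
  have hdisj : Disjoint (s.primeCompl : Set R) (p : Set R) :=
    Set.disjoint_left.2 fun x hx hxp => hx (hps hxp)
  have hP : P.IsPrime := IsLocalization.isPrime_of_isPrime_disjoint s.primeCompl A p hp' hdisj
  have hPc : P.comap (algebraMap R A) = p := IsLocalization.under_map_of_isPrime_disjoint s.primeCompl A hp' hdisj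
  have hwf : ∀ x : Ideal A, x.IsPrime → (x.comap (algebraMap R A)).IsPrime := fun x hx => hx.comap _
  -- primes between
  have hbetween : ∀ x : Ideal A, x.IsPrime → P ≤ x → x ≠ P → x = maximalIdeal A := by
    intro x hx hPx hne
    have h1 : p ≤ x.comap (algebraMap R A) := hPc.symm.le.trans (Ideal.comap_mono hPx)
    have h2 : x.comap (algebraMap R A) ≤ s :=
      (Ideal.comap_mono (le_maximalIdeal hx.ne_top)).trans Localization.AtPrime.under_maximalIdeal.le
    have h3 : x.comap (algebraMap R A) ≠ p := fun e => hne (by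
      have h : (x.comap (algebraMap R A)).map (algebraMap R A) = x :=
        IsLocalization.map_under s.primeCompl A x
      rw [e] at h
      exact h.symm)
    have h4 : x.comap (algebraMap R A) = s := by
      by_contra h5
      have hpx := hx.comap (algebraMap R A)
      let x' : Ideal (R ⧸ p) := (x.comap (algebraMap R A)).map (Ideal.Quotient.mk p)
      have hx' : x'.IsPrime :=
        Ideal.map_isPrime_of_surjective Ideal.Quotient.mk_surjective (by rw [Ideal.mk_ker]; exact h1)
      have hx's : x' < q := by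
        refine lt_of_le_of_ne (Ideal.map_le_iff_le_comap.2 h2) fun e => h5 ?_
        change _ = q.comap (Ideal.Quotient.mk p)
        rw [← e, Ideal.comap_map_of_surjective _ Ideal.Quotient.mk_surjective, ← RingHom.ker_eq_comap_bot,
          Ideal.mk_ker, sup_of_le_left h1]
      have hx'0 : (⊥ : Ideal (R ⧸ p)) < x' := by
        refine bot_lt_iff_ne_bot.2 fun e => h3 (le_antisymm ?_ h1)
        intro y hy
        have : Ideal.Quotient.mk p y ∈ x' := Ideal.mem_map_of_mem _ hy
        rw [e, Ideal.mem_bot] at this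
        exact Ideal.Quotient.eq_zero_iff_mem.1 this
      have : q.FiniteHeight := ⟨Or.inr (by rw [hqht]; exact ENat.natCast_ne_top 1)⟩
      have : x'.FiniteHeight :=
        ⟨Or.inr (ne_top_of_le_ne_top (by rw [hqht]; exact ENat.natCast_ne_top 1) (Ideal.height_mono hx's.le))⟩
      have : (⊥ : Ideal (R ⧸ p)).FiniteHeight :=
        ⟨Or.inr (ne_top_of_le_ne_top (Ideal.height_ne_top_of_isPrime (I := x')) (Ideal.height_mono bot_le))⟩
      have h6 := Ideal.height_strict_mono_of_isPrime hx's
      have h7 := Ideal.height_strict_mono_of_isPrime hx'0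
      rw [hqht] at h6
      exact absurd ((lt_of_le_of_lt zero_le h7)) (not_lt.2 (Order.le_of_lt_add_one (by simpa using h6)))
    have h : (x.comap (algebraMap R A)).map (algebraMap R A) = x :=
      IsLocalization.map_under s.primeCompl A x
    rw [h4, Localization.AtPrime.map_eq_maximalIdeal] at h
    exact h.symm
  have hPm : P ≠ maximalIdeal A := fun e => by
    have h1 : p = s := hPc.symm.trans ((congrArg _ e).trans Localization.AtPrime.under_maximalIdeal)
    have hq0 : q = ⊥ := by
      rw [← Ideal.map_comap_of_surjective _ Ideal.Quotient.mk_surjective q]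
      change s.map _ = ⊥
      rw [← h1, Ideal.map_quotient_self]
    rw [hq0, Ideal.height_bot] at hqht
    exact zero_ne_one (hqht.trans Nat.cast_one)
  have hdim : ringKrullDim (A ⧸ P) = 1 := by
    rw [ringKrullDim_quotient]
    refine le_antisymm (iSup_le fun l => ?_) (Order.le_krullDim_iff.2 ⟨⟨1,
      ![⟨⟨P, hP⟩, le_refl P⟩, ⟨⟨maximalIdeal A, inferInstance⟩, le_maximalIdeal hP.ne_top⟩], fun i => ?_⟩, rfl⟩)
    · by_contra hlt
      have hlen : 2 ≤ l.length := by
        by_contra hl
        exact hlt (by exact_mod_cast (by omega : l.length ≤ 1))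
      have h01 := l.strictMono (show (⟨0, by omega⟩ : Fin (l.length + 1)) < ⟨1, by omega⟩ from Nat.zero_lt_one)
      have h12 := l.strictMono (show (⟨1, by omega⟩ : Fin (l.length + 1)) < ⟨2, by omega⟩ from Nat.one_lt_two)
      have h01' : (l ⟨0, by omega⟩).1.asIdeal < (l ⟨1, by omega⟩).1.asIdeal := h01
      have h12' : (l ⟨1, by omega⟩).1.asIdeal < (l ⟨2, by omega⟩).1.asIdeal := h12
      by_cases h : (l ⟨1, by omega⟩).1.asIdeal = P
      · rw [h] at h01'
        exact h01'.not_ge (l ⟨0, by omega⟩).2
      · rw [hbetween _ (l ⟨1, by omega⟩).1.isPrime (l ⟨1, by omega⟩).2 h] at h12'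
        exact h12'.not_ge (le_maximalIdeal (l ⟨2, by omega⟩).1.isPrime.ne_top)
    · fin_cases i
      exact lt_of_le_of_ne (show P ≤ maximalIdeal A from le_maximalIdeal hP.ne_top) hPm
  have hrad : maximalIdeal A ≤ (a.map (algebraMap R A) ⊔ P).radical := by
    rw [Ideal.radical_eq_sInf]
    refine le_sInf fun x ⟨hx, hxp⟩ => ?_
    by_cases hxP : x = P
    · exfalso
      have h1 : a ≤ p := hPc ▸ Ideal.map_le_iff_le_comap.1 ((le_sup_left.trans hx).trans hxP.le)
      rw [sup_of_le_right h1, Ideal.map_quotient_self, Ideal.height_bot] at hht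
      exact zero_ne_one hht
    · exact (hbetween x hxp (le_sup_right.trans hx) hxP).ge
  -- the map A/P → M_s
  obtain ⟨_, m, hm⟩ := isAssociatedPrime_iff.1 hp
  let v := LocalizedModule.mkLinearMap s.primeCompl M m
  have hker : LinearMap.ker (LinearMap.toSpanSingleton A Ms v) = P := by
    ext z
    obtain ⟨r, u, rfl⟩ := IsLocalization.exists_mk'_eq s.primeCompl z
    rw [LinearMap.mem_ker, LinearMap.toSpanSingleton_apply, ← Localization.mk_eq_mk',
      show v = LocalizedModule.mk m 1 from rfl, LocalizedModule.mk_smul_mk, mul_one, Localization.mk_eq_mk',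
      IsLocalization.mk'_mem_map_algebraMap_iff]
    constructor
    · intro h
      obtain ⟨w, hw⟩ := LocalizedModule.mk_eq.1 (h.trans (LocalizedModule.zero_mk 1).symm)
      simp only [Submonoid.smul_def, one_smul, smul_zero, ← mul_smul] at hw
      exact ⟨w, w.2, by rw [hm, Submodule.mem_colon_singleton, Submodule.mem_bot]; exact hw⟩
    · rintro ⟨w, hw, hwr⟩
      rw [hm, Submodule.mem_colon_singleton, Submodule.mem_bot] at hwr
      rw [← LocalizedModule.zero_mk 1, LocalizedModule.mk_eq]
      exact ⟨⟨w, hw⟩, by simpa [Submonoid.smul_def, ← mul_smul] using hwr⟩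
  let ι₀ : (A ⧸ P) →ₗ[A] Ms := P.liftQ (LinearMap.toSpanSingleton A Ms v) hker.ge
  have hι : Function.Injective ι₀ := LinearMap.ker_eq_bot.1 (Submodule.ker_liftQ_eq_bot _ _ _ hker.le)
  have hcP : algebraMap R A (c ^ N) ∉ P := fun h => hcp (hp'.mem_of_pow_mem N (hPc ▸ h))
  obtain ⟨z, hz⟩ := not_killed_of_dim_one (a.map (algebraMap R A)) Ms P ι₀ hι hdim hrad
    (by rw [← Localization.AtPrime.map_eq_maximalIdeal]; exact Ideal.map_mono (le_sup_left.trans has)) hcP
  refine hz ?_
  obtain ⟨φ, hφ⟩ := exists_restrictScalars_addEquiv A a 1 Ms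
  refine φ.injective ?_
  rw [map_zero, hφ]
  obtain ⟨n, w, hw⟩ := exists_ι a 1 _ (φ z)
  obtain ⟨t, ht, y, hy⟩ := (ext_localization s.primeCompl (LocalizedModule.mkLinearMap s.primeCompl M) 1
    (R ⧸ a ^ n)).2 w
  have h0 : t • c ^ N • φ z = 0 := by
    rw [smul_comm, ← hw, ← map_smul (ι a 1 _ n) t, ← hy, ← map_ι, ← map_smul,
      Module.mem_annihilator.1 hN, map_zero]
  let e : Ms ≃ₗ[R] Ms := LinearEquiv.ofBijective (t • LinearMap.id)
    ((Module.End.isUnit_iff _).1 (IsLocalizedModule.map_units
      (LocalizedModule.mkLinearMap s.primeCompl M) ⟨t, ht⟩))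
  refine (hcongr a 1 e).injective ?_
  rw [map_zero]
  change hmap a 1 (t • (LinearMap.id : Ms →ₗ[R] Ms)) _ = 0
  rw [hmap_smul, hmap_id]
  exact h0

end Groth.Agent.LocCohLib
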