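import Mathlib.RingTheory.MvPolynomial.Homogeneous
import Mathlib.RingTheory.Ideal.Operations

/-!
# The graded map to a polynomial ring from a partition of unity on `I^c`
-/

set_option autoImplicit false

universe u

open MvPolynomial

noncomputable section

namespace Groth.Agent.LocCohLib

variable {A : Type u} [CommRing A] {r : ℕ} {I : Ideal A} {c : ℕ} (φ : Fin r → (↥(I ^ c) →ₗ[A] A))

theorem le_pow_succ_mul (n : ℕ) : I ^ ((n + 1) * c) ≤ I ^ c :=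
  Ideal.pow_le_pow_right (Nat.le_mul_of_pos_left c n.succ_pos)

/-- The value at one element, extended by zero. -/
def ev (j : Fin r) (g : A) : A :=
  open scoped Classical in if h : g ∈ I ^ c then φ j ⟨g, h⟩ else 0

theorem ev_eq {j : Fin r} {g : A} (h : g ∈ I ^ c) : ev φ j g = φ j ⟨g, h⟩ := dif_pos h

theorem ev_add {j : Fin r} {g h : A} (hg : g ∈ I ^ c) (hh : h ∈ I ^ c) : ev φ j (g + h) = ev φ j g + ev φ j h := by
  rw [ev_eq φ hg, ev_eq φ hh, ev_eq φ (add_mem hg hh)]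
  exact map_add (φ j) ⟨g, hg⟩ ⟨h, hh⟩

theorem ev_mul {j : Fin r} (a : A) {g : A} (hg : g ∈ I ^ c) : ev φ j (a * g) = a * ev φ j g := by
  rw [ev_eq φ hg, ev_eq φ (Ideal.mul_mem_left _ a hg)]
  exact map_smul (φ j) a ⟨g, hg⟩

theorem ev_mem {j : Fin r} (n : ℕ) {g : A} (hg : g ∈ I ^ ((n + 1) * c)) : ev φ j g ∈ I ^ (n * c) := by
  have key : ∀ x ∈ I ^ (n * c) * I ^ c, x ∈ I ^ c ∧ ev φ j x ∈ I ^ (n * c) := fun x hx =>
    Submodule.mul_induction_on hx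
      (fun a ha b hb => ⟨Ideal.mul_mem_left _ a hb, by rw [ev_mul φ a hb]; exact Ideal.mul_mem_right _ _ ha⟩)
      fun a b ha hb => ⟨add_mem ha.1 hb.1, by rw [ev_add φ ha.1 hb.1]; exact add_mem ha.2 hb.2⟩
  exact (key g (by rwa [← pow_add, ← Nat.succ_mul])).2

/-- The graded map. -/
def Φ : ℕ → A → MvPolynomial (Fin r) A
  | 0, a => C a
  | n + 1, g => ∑ j, X j * Φ n (ev φ j g)

theorem Φ_add : ∀ (n : ℕ), ∀ g ∈ I ^ (n * c), ∀ h ∈ I ^ (n * c), Φ φ n (g + h) = Φ φ n g + Φ φ n h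
  | 0, g, _, h, _ => map_add C g h
  | n + 1, g, hg, h, hh => by
    simp only [Φ, ← Finset.sum_add_distrib]
    exact Finset.sum_congr rfl fun j _ => by
      rw [ev_add φ (le_pow_succ_mul n hg) (le_pow_succ_mul n hh), Φ_add n _ (ev_mem φ n hg) _ (ev_mem φ n hh), mul_add]

theorem Φ_smul : ∀ (n : ℕ) (a : A), ∀ g ∈ I ^ (n * c), Φ φ n (a * g) = a • Φ φ n g
  | 0, a, g, _ => by simp [Φ, MvPolynomial.smul_eq_C_mul]
  | n + 1, a, g, hg => by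
    simp only [Φ, Finset.smul_sum]
    exact Finset.sum_congr rfl fun j _ => by
      rw [ev_mul φ a (le_pow_succ_mul n hg), Φ_smul n a _ (ev_mem φ n hg), mul_smul_comm]

theorem Φ_homogeneous : ∀ (n : ℕ), ∀ g ∈ I ^ (n * c), (Φ φ n g).IsHomogeneous n
  | 0, g, _ => isHomogeneous_C _ g
  | n + 1, g, hg => IsHomogeneous.sum _ _ _ fun j _ => by
    rw [add_comm n 1]
    exact (isHomogeneous_X A j).mul (Φ_homogeneous n _ (ev_mem φ n hg))

theorem Φ_mul : ∀ (n m : ℕ), ∀ g ∈ I ^ (n * c), ∀ h ∈ I ^ (m * c), Φ φ (n + m) (g * h) = Φ φ n g * Φ φ m h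
  | 0, m, g, _, h, hh => by
    rw [Nat.zero_add, Φ_smul φ m g h hh, MvPolynomial.smul_eq_C_mul]
    rfl
  | n + 1, m, g, hg, h, hh => by
    rw [Nat.succ_add]
    simp only [Φ, Finset.sum_mul]
    exact Finset.sum_congr rfl fun j _ => by
      rw [mul_comm g h, ev_mul φ h (le_pow_succ_mul n hg), mul_comm h, Φ_mul n m _ (ev_mem φ n hg) h hh, mul_assoc]

theorem aeval_Φ (f : Fin r → A) (hφ : ∀ x : ↥(I ^ c), (x : A) = ∑ j, f j * φ j x) :
    ∀ (n : ℕ), ∀ g ∈ I ^ (n * c), aeval f (Φ φ n g) = g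
  | 0, g, _ => by simp [Φ]
  | n + 1, g, hg => by
    simp only [Φ, map_sum, map_mul, aeval_X]
    rw [Finset.sum_congr rfl fun j _ => by rw [aeval_Φ f hφ n _ (ev_mem φ n hg), ev_eq φ (le_pow_succ_mul n hg)]]
    exact (hφ ⟨g, le_pow_succ_mul n hg⟩).symm

theorem Φ_one (g : A) (hg : g ∈ I ^ c) : Φ φ 1 g = ∑ j, C (φ j ⟨g, hg⟩) * X j := by
  simp only [Φ]
  exact Finset.sum_congr rfl fun j _ => by rw [ev_eq φ hg, mul_comm]

theorem eq_Φ (Ψ : ℕ → A → MvPolynomial (Fin r) A)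
    (hadd : ∀ n : ℕ, ∀ g ∈ I ^ (n * c), ∀ h ∈ I ^ (n * c), Ψ n (g + h) = Ψ n g + Ψ n h)
    (hmul : ∀ n m : ℕ, ∀ g ∈ I ^ (n * c), ∀ h ∈ I ^ (m * c), Ψ (n + m) (g * h) = Ψ n g * Ψ m h)
    (h0 : ∀ a : A, Ψ 0 a = C a) (h1 : ∀ (g : A) (hg : g ∈ I ^ c), Ψ 1 g = ∑ j, C (φ j ⟨g, hg⟩) * X j) :
    ∀ (n : ℕ), ∀ g ∈ I ^ (n * c), Ψ n g = Φ φ n g
  | 0, g, _ => h0 g
  | n + 1, g, hg => by
    have key : ∀ x ∈ I ^ c * I ^ (n * c), x ∈ I ^ ((n + 1) * c) ∧ Ψ (n + 1) x = Φ φ (n + 1) x := fun x hx =>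
      Submodule.mul_induction_on hx
        (fun a ha b hb => ⟨by
            rw [Nat.succ_mul, add_comm, pow_add]; exact Ideal.mul_mem_mul ha hb, by
          have ha' : a ∈ I ^ (1 * c) := by rwa [one_mul]
          rw [add_comm n 1, hmul 1 n a ha' b hb, Φ_mul φ 1 n a ha' b hb, h1 a ha, Φ_one φ a ha,
            eq_Φ Ψ hadd hmul h0 h1 n b hb]⟩)
        fun a b ha hb => ⟨add_mem ha.1 hb.1, by
          rw [hadd _ a ha.1 b hb.1, Φ_add φ _ a ha.1 b hb.1, ha.2, hb.2]⟩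
    exact (key g (by rwa [← pow_add, add_comm, ← Nat.succ_mul])).2

end Groth.Agent.LocCohLib
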