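import Groth.Agent.Lib.LocCoh.AddElem27
import Groth.Agent.Lib.LocCoh.Flat
import Mathlib.RingTheory.Ideal.Height

/-!
# Local-to-global vanishing for the comparison maps of local cohomology
-/

set_option autoImplicit false
universe u

open CategoryTheory IsLocalRing TensorProduct Groth.Agent.InjHullLib Opposite

noncomputable section

namespace Groth.Agent.LocCohLib

variable {R : Type u} [CommRing R] {I J K : Ideal R}

theorem cmpLE_trans (h₁ : I ≤ J) (h₂ : J ≤ K) (i : ℕ) (M : Type u) [AddCommGroup M] [Module R M]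
    (x : LocCoh.H K i M) : cmpLE (h₁.trans h₂) i M x = cmpLE h₁ i M (cmpLE h₂ i M x) := by
  obtain ⟨n, y, rfl⟩ := exists_ι K i _ x
  rw [cmpLE, cmpLE, cmpLE, cmpLE_ι, cmpLE_ι, cmpLE_ι, ← Abelian.Ext.comp_assoc_of_second_deg_zero,
    Abelian.Ext.mk₀_comp_mk₀]
  congr 3
  ext z
  obtain ⟨z, rfl⟩ := Submodule.Quotient.mk_surjective _ z
  rfl

theorem cmpLE_self (h : I ≤ I) (i : ℕ) (M : Type u) [AddCommGroup M] [Module R M]
    (x : LocCoh.H I i M) : cmpLE h i M x = x := by
  obtain ⟨n, y, rfl⟩ := exists_ι I i _ x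
  rw [cmpLE, cmpLE_ι]
  conv_rhs => rw [← Abelian.Ext.mk₀_id_comp y]
  congr 3
  ext z
  obtain ⟨z, rfl⟩ := Submodule.Quotient.mk_surjective _ z
  rfl

variable [IsNoetherianRing R] (M : Type u) [AddCommGroup M] [Module R M] (i : ℕ)

/-- If `H^i` of the stalks vanishes at all generalisations of `p` in `V(a)`, then `H^i_a(M)` vanishes at `p`. -/
theorem exists_notMem_smul_H_eq_zero : ∀ (n : ℕ) (p : PrimeSpectrum R) (a : Ideal R), p.asIdeal.height = n →
    (∀ q : PrimeSpectrum R, q ≤ p → a ≤ q.asIdeal →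
      Subsingleton (LocCoh.H (maximalIdeal (Localization.AtPrime q.asIdeal)) i (LocalizedModule q.asIdeal.primeCompl M))) →
    ∀ x : LocCoh.H a i M, ∃ s ∉ p.asIdeal, s • x = 0 := by
  intro n
  induction n using Nat.strong_induction_on with
  | _ n ih =>
  intro p a hn h x
  by_cases hap : a ≤ p.asIdeal
  swap
  · obtain ⟨c, hc, hcp⟩ := SetLike.not_le_iff_exists.1 hap
    obtain ⟨m, hm⟩ := isPowerTorsion a i M x
    exact ⟨c ^ m, fun h' => hcp (p.isPrime.mem_of_pow_mem m h'), hm _ (Ideal.pow_mem_pow hc m)⟩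
  obtain ⟨gs, hgs⟩ := p.asIdeal.fg_of_isNoetherianRing
  suffices key : ∀ t : Finset R, (t : Set R) ⊆ p.asIdeal →
      ∀ a' : Ideal R, a ≤ a' → a' ⊔ Ideal.span (t : Set R) = p.asIdeal →
        ∀ x : LocCoh.H a' i M, ∃ s ∉ p.asIdeal, s • x = 0 by
    exact key gs (fun z hz => hgs ▸ Ideal.subset_span hz) a le_rfl
      (show a ⊔ Ideal.span (gs : Set R) = p.asIdeal from hgs.symm ▸ (sup_of_le_right hap)) x
  clear x
  intro t
  classical
  induction t using Finset.induction_on with
  | empty =>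
    intro _ a' _ ha' x
    rw [Finset.coe_empty, Ideal.span_empty, sup_bot_eq] at ha'
    subst ha'
    let L := Localization.AtPrime p.asIdeal
    haveI : Module.Flat R L := IsLocalization.flat L p.asIdeal.primeCompl
    obtain ⟨e⟩ := nonempty_baseChange_H (R' := L) p.asIdeal i M
    let eM : (L ⊗[R] M) ≃ₗ[L] LocalizedModule p.asIdeal.primeCompl M :=
      (IsLocalizedModule.isBaseChange p.asIdeal.primeCompl L (LocalizedModule.mkLinearMap p.asIdeal.primeCompl M)).equiv
    haveI : Subsingleton (LocCoh.H (p.asIdeal.map (algebraMap R L)) i (LocalizedModule p.asIdeal.primeCompl M)) := by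
      rw [Localization.AtPrime.map_eq_maximalIdeal]
      exact h p le_rfl hap
    haveI : Subsingleton (L ⊗[R] LocCoh.H p.asIdeal i M) :=
      (e.trans (hcongr _ i eM)).toEquiv.subsingleton
    haveI : Subsingleton (LocalizedModule p.asIdeal.primeCompl (LocCoh.H p.asIdeal i M)) :=
      (IsLocalizedModule.isBaseChange p.asIdeal.primeCompl L
        (LocalizedModule.mkLinearMap p.asIdeal.primeCompl (LocCoh.H p.asIdeal i M))).equiv.symm.toEquiv.subsingleton
    exact (LocalizedModule.subsingleton_iff (S := p.asIdeal.primeCompl)).1 inferInstance x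
  | @insert b t hb iht =>
    intro ht a' haa' ha' x
    rw [Finset.coe_insert] at ht ha'
    have hbp : b ∈ p.asIdeal := ht (Set.mem_insert _ _)
    -- `x` is killed by `s b^l` for some `s ∉ p`
    obtain ⟨s, hs, l, hsl⟩ : ∃ s ∉ p.asIdeal, ∃ l : ℕ, b ^ l • s • x = 0 := by
      by_contra! hcon
      have hdisj : Disjoint ((LinearMap.ker (LinearMap.toSpanSingleton R _ x) : Ideal R) : Set R)
          ((Submonoid.powers b ⊔ p.asIdeal.primeCompl : Submonoid R) : Set R) := by
        rw [Set.disjoint_left]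
        intro z hz hz'
        obtain ⟨_, ⟨l, rfl⟩, s, hs, rfl⟩ := Submonoid.mem_sup.1 hz'
        refine hcon s hs l ?_
        rw [smul_smul]
        simpa using hz
      obtain ⟨q, hq, hJq, hqd⟩ := Ideal.exists_le_prime_disjoint _ _ hdisj
      rw [Set.disjoint_left] at hqd
      have hqp : q < p.asIdeal := lt_of_le_not_ge
        (fun z hz => by_contra fun hzp => hqd hz (Submonoid.mem_sup_right hzp))
        (fun hle => hqd (hle hbp) (Submonoid.mem_sup_left (Submonoid.mem_powers b)))
      obtain ⟨m, hm⟩ := ENat.ne_top_iff_exists.1 (Ideal.height_lt_top hq.ne_top).ne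
      have hmn : m < n := by
        have := Ideal.height_strict_mono_of_isPrime hqp
        rw [← hm, hn] at this
        exact_mod_cast this
      obtain ⟨s, hs, hsx⟩ := ih m hmn ⟨q, hq⟩ a' hm.symm
        (fun q' hq' ha'q' => h q' (hq'.trans hqp.le) (haa'.trans ha'q')) x
      exact hs (hJq (by simpa using hsx))
    obtain ⟨w, hw⟩ := (mem_range_cmpLE_iff a' b M i (s • x)).2 ⟨l, hsl⟩
    obtain ⟨s', hs', hsw⟩ := iht ((Set.subset_insert _ _).trans ht) (a' ⊔ Ideal.span {b})
      (haa'.trans le_sup_left) (by rw [sup_assoc, ← Ideal.span_union, Set.singleton_union, ha']) w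
    refine ⟨s' * s, fun hmem => (p.isPrime.mem_or_mem hmem).elim hs' hs, ?_⟩
    rw [mul_smul, ← hw, ← map_smul, hsw, map_zero]

/-- If the stalks vanish on `V(a) ∖ V(b)`, every class is killed by a power of `b`. -/
theorem exists_pow_smul_H_eq_zero_of_local (a : Ideal R) (b : R)
    (h : ∀ q : PrimeSpectrum R, a ≤ q.asIdeal → b ∉ q.asIdeal →
      Subsingleton (LocCoh.H (maximalIdeal (Localization.AtPrime q.asIdeal)) i (LocalizedModule q.asIdeal.primeCompl M)))
    (x : LocCoh.H a i M) : ∃ l : ℕ, b ^ l • x = 0 := by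
  by_contra! hcon
  have hdisj : Disjoint ((LinearMap.ker (LinearMap.toSpanSingleton R _ x) : Ideal R) : Set R)
      ((Submonoid.powers b : Submonoid R) : Set R) := by
    rw [Set.disjoint_left]
    rintro _ hz ⟨l, rfl⟩
    exact hcon l (by simpa using hz)
  obtain ⟨q, hq, hJq, hqd⟩ := Ideal.exists_le_prime_disjoint _ _ hdisj
  rw [Set.disjoint_left] at hqd
  obtain ⟨n, hn⟩ := ENat.ne_top_iff_exists.1 (Ideal.height_lt_top hq.ne_top).ne
  obtain ⟨s, hs, hsx⟩ := exists_notMem_smul_H_eq_zero M i n ⟨q, hq⟩ a hn.symm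
    (fun q' hq' haq' => h q' haq' fun hb => hqd (hq' hb) (Submonoid.mem_powers b)) x
  exact hs (hJq (by simpa using hsx))

theorem surjective_cmpLE_of_local (hIJ : I ≤ J)
    (h : ∀ p : PrimeSpectrum R, I ≤ p.asIdeal → ¬ J ≤ p.asIdeal →
      Subsingleton (LocCoh.H (maximalIdeal (Localization.AtPrime p.asIdeal)) i (LocalizedModule p.asIdeal.primeCompl M))) :
    Function.Surjective (cmpLE hIJ i M) := by
  obtain ⟨gs, hgs⟩ := J.fg_of_isNoetherianRing
  suffices key : ∀ t : Finset R, ∀ (a : Ideal R) (_ : I ≤ a) (ha : a ≤ J), a ⊔ Ideal.span (t : Set R) = J →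
      Function.Surjective (cmpLE ha i M) by
    exact key gs I le_rfl hIJ (hgs.symm ▸ sup_of_le_right hIJ)
  intro t
  classical
  induction t using Finset.induction_on with
  | empty =>
    intro a _ ha hsup x
    rw [Finset.coe_empty, Ideal.span_empty, sup_bot_eq] at hsup
    subst hsup
    exact ⟨x, cmpLE_self _ i M x⟩
  | @insert b t hb iht =>
    intro a hIa ha hsup x
    rw [Finset.coe_insert, Ideal.span_insert, ← sup_assoc] at hsup
    have hbJ : b ∈ J := hsup ▸ le_sup_left (a := a ⊔ Ideal.span {b}) (le_sup_right (a := a) (Ideal.mem_span_singleton_self b))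
    obtain ⟨w, hw⟩ := (mem_range_cmpLE_iff a b M i x).2
      (exists_pow_smul_H_eq_zero_of_local M i a b (fun q hq hbq => h q (hIa.trans hq) fun hJ => hbq (hJ hbJ)) x)
    obtain ⟨z, hz⟩ := iht (a ⊔ Ideal.span {b}) (hIa.trans le_sup_left) (le_sup_left.trans hsup.le) hsup w
    exact ⟨z, by rw [← hw, ← hz, ← cmpLE_trans]⟩

theorem injective_cmpLE_of_local (hIJ : I ≤ J)
    (h : ∀ p : PrimeSpectrum R, I ≤ p.asIdeal → ¬ J ≤ p.asIdeal → ∀ j : ℕ, j + 1 = i →
      Subsingleton (LocCoh.H (maximalIdeal (Localization.AtPrime p.asIdeal)) j (LocalizedModule p.asIdeal.primeCompl M))) :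
    Function.Injective (cmpLE hIJ i M) := by
  cases i with
  | zero => exact cmpLE_zero_injective _ M
  | succ i =>
  obtain ⟨gs, hgs⟩ := J.fg_of_isNoetherianRing
  suffices key : ∀ t : Finset R, ∀ (a : Ideal R) (_ : I ≤ a) (ha : a ≤ J), a ⊔ Ideal.span (t : Set R) = J →
      Function.Injective (cmpLE ha (i + 1) M) by
    exact key gs I le_rfl hIJ (hgs.symm ▸ sup_of_le_right hIJ)
  intro t
  classical
  induction t using Finset.induction_on with
  | empty =>
    intro a _ ha hsup
    rw [Finset.coe_empty, Ideal.span_empty, sup_bot_eq] at hsup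
    subst hsup
    intro x y e
    rwa [cmpLE_self, cmpLE_self] at e
  | @insert b t hb iht =>
    intro a hIa ha hsup x y e
    rw [Finset.coe_insert, Ideal.span_insert, ← sup_assoc] at hsup
    have hbJ : b ∈ J := hsup ▸ le_sup_left (a := a ⊔ Ideal.span {b}) (le_sup_right (a := a) (Ideal.mem_span_singleton_self b))
    have h2 : a ⊔ Ideal.span {b} ≤ J := le_sup_left.trans hsup.le
    refine iht _ (hIa.trans le_sup_left) h2 hsup ?_
    -- the comparison adding `b` is injective
    obtain ⟨e'⟩ := nonempty_ker_cmpLE_equiv a b i M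
    have htor : LocCoh.IsPowerTorsion (Ideal.span {b}) (LocCoh.H a i M) := fun z =>
      (isPowerTorsion_span_iff z).2 (exists_pow_smul_H_eq_zero_of_local M i a b
        (fun q hq hbq => h q (hIa.trans hq) (fun hJ => hbq (hJ hbJ)) i rfl) z)
    haveI : Subsingleton (LinearMap.ker (cmpLE (le_sup_left : a ≤ a ⊔ Ideal.span {b}) (i + 1) M)) :=
      haveI := subsingleton_of_isPowerTorsion (Ideal.span {b}) 0 (LocCoh.H a i M) htor
      e'.toEquiv.subsingleton
    have hinj : Function.Injective (cmpLE (le_sup_left : a ≤ a ⊔ Ideal.span {b}) (i + 1) M) :=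
      LinearMap.ker_eq_bot.1 Submodule.eq_bot_of_subsingleton
    exact hinj ((cmpLE_trans _ h2 _ M x).symm.trans (e.trans (cmpLE_trans _ h2 _ M y)))

end Groth.Agent.LocCohLib
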