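import Groth.Agent.Lib.LocCoh.RemoveElem
import Groth.Agent.Lib.LocCoh.TopTensor
import Mathlib.RingTheory.KrullDimension.NonZeroDivisors
import Mathlib.RingTheory.KrullDimension.Module
import Mathlib.RingTheory.Ideal.AssociatedPrime.Localization

/-!
# Vanishing of top local cohomology
-/

universe u

open CategoryTheory IsLocalRing

noncomputable section

namespace Groth.Agent.LocCohLib

variable {R : Type u} [CommRing R]

theorem ringKrullDim_quotient_eq_coheight (p : PrimeSpectrum R) :
    ringKrullDim (R ⧸ p.asIdeal) = Order.coheight p := by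
  rw [ringKrullDim_quotient, Order.coheight_eq_krullDim_Ici]
  rfl

theorem supportDim_lt_coe_iff {M : Type u} [AddCommGroup M] [Module R M] {n : ℕ} :
    Module.supportDim R M < (n : WithBot ℕ∞) ↔
      ∀ p ∈ Module.support R M, Order.coheight p < (n : ℕ∞) := by
  refine ⟨fun h p hp => WithBot.coe_lt_coe.1 ((coheight_le_supportDim hp).trans_lt h), fun h => ?_⟩
  rw [Module.supportDim, Order.krullDim_lt_coe_iff]
  intro l
  have h1 := Order.length_le_coheight_head (p := l.map (fun q => (q : PrimeSpectrum R)) fun _ _ hab => hab)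
  rw [LTSeries.head_map] at h1
  exact_mod_cast lt_of_le_of_lt h1 (h _ l.head.2)

variable [IsNoetherianRing R] [IsLocalRing R]

theorem exists_prime_ge_dim_one {I : Ideal R} (hI : 0 < ringKrullDim (R ⧸ I)) :
    ∃ p : PrimeSpectrum R, I ≤ p.asIdeal ∧ ringKrullDim (R ⧸ p.asIdeal) = 1 := by
  let S : Set (PrimeSpectrum R) := {p | I ≤ p.asIdeal ∧ p.asIdeal ≠ maximalIdeal R}
  have hne : ((fun p : PrimeSpectrum R => p.asIdeal) '' S).Nonempty := by
    by_contra h
    rw [Set.not_nonempty_iff_eq_empty, Set.image_eq_empty] at h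
    refine hI.not_ge ?_
    have hmax : ∀ q : PrimeSpectrum R, I ≤ q.asIdeal → q.asIdeal = maximalIdeal R := fun q hq => by
      by_contra hq'
      exact (Set.eq_empty_iff_forall_notMem.1 h q) ⟨hq, hq'⟩
    rw [ringKrullDim_quotient]
    refine iSup_le fun l => ?_
    by_contra hl
    push Not at hl
    have hlen : 0 < l.length := by exact_mod_cast hl
    have := l.strictMono (show (0 : Fin (l.length + 1)) < Fin.last _ from by
      rw [Fin.lt_def]; exact hlen)
    exact this.ne (Subtype.ext (PrimeSpectrum.ext ((hmax _ (l 0).2).trans (hmax _ (l (Fin.last _)).2).symm)))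
  obtain ⟨_, ⟨p, hp, rfl⟩, hmaxp⟩ := set_has_maximal_iff_noetherian.2 inferInstance _ hne
  refine ⟨p, hp.1, ?_⟩
  rw [ringKrullDim_quotient_eq_coheight]
  have h1 : Order.coheight p ≤ (1 : ℕ) := Order.coheight_le_coe_iff.2 fun q hq => by
    have hq' : q.asIdeal = maximalIdeal R := by
      by_contra h
      exact hmaxp q.asIdeal ⟨q, ⟨hp.1.trans hq.le, h⟩, rfl⟩ hq
    rw [Order.coheight_eq_zero.2 fun r _ => ((le_maximalIdeal r.isPrime.ne_top).trans hq'.ge : r.asIdeal ≤ q.asIdeal)]
    norm_num
  have h2 : Order.coheight p ≠ 0 := fun h => hp.2 <| le_antisymm (le_maximalIdeal p.isPrime.ne_top)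
    ((Order.coheight_eq_zero.1 h) (show p ≤ (⟨maximalIdeal R, inferInstance⟩ : PrimeSpectrum R) from le_maximalIdeal p.isPrime.ne_top))
  rw [show Order.coheight p = 1 from le_antisymm (by exact_mod_cast h1) (Order.one_le_iff_pos.2 (pos_iff_ne_zero.2 h2))]
  rfl

theorem subsingleton_H_of_le {d : ℕ} (hd : ringKrullDim R ≤ d) (hd0 : 0 < d) {I I' : Ideal R}
    (hle : I ≤ I') (hI' : I' ≠ ⊤) (h : Subsingleton (LocCoh.H I' d R)) :
    Subsingleton (LocCoh.H I d R) := by
  refine vanishing_of_le_jacobson hd hd0 hle
    ((le_maximalIdeal hI').trans (jacobson_eq_maximalIdeal ⊥ bot_ne_top).ge) ?_ R d le_rfl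
  intro M _ _ i hi
  rcases hi.eq_or_lt with rfl | hlt
  · exact (tensorTo_surjective (cdLE_of_ringKrullDim_le I' hd) M).subsingleton
  · exact cdLE_of_ringKrullDim_le I' hd M i hlt

theorem forall_subsingleton_iff {d : ℕ} (hd : ringKrullDim R = d) :
    (∀ I : Ideal R, 0 < ringKrullDim (R ⧸ I) → Subsingleton (LocCoh.H I d R)) ↔
      (∀ (p : Ideal R) [p.IsPrime], ringKrullDim (R ⧸ p) = 1 → Subsingleton (LocCoh.H p d R)) := by
  refine ⟨fun h p _ hp => h p (hp ▸ zero_lt_one), fun h I hI => ?_⟩
  obtain ⟨p, hle, hp⟩ := exists_prime_ge_dim_one hI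
  have hd0 : 0 < d := by
    have := hI.trans_le (ringKrullDim_quotient_le I)
    rw [hd] at this
    exact_mod_cast this
  exact subsingleton_H_of_le hd.le hd0 hle p.isPrime.ne_top (h p.asIdeal hp)

theorem prime_of_maximal_nonvanishing {n : ℕ} (hn : ringKrullDim R = n) {p : Ideal R}
    (hp : Nontrivial (LocCoh.H p n R)) (hp' : 0 < ringKrullDim (R ⧸ p))
    (hmax : ∀ b : Ideal R, p < b → Nontrivial (LocCoh.H b n R) → ¬ 0 < ringKrullDim (R ⧸ b)) :
    p.IsPrime ∧ ringKrullDim (R ⧸ p) = 1 := by
  obtain ⟨q, hle, hq⟩ := exists_prime_ge_dim_one hp'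
  suffices p = q.asIdeal by subst this; exact ⟨q.isPrime, hq⟩
  by_contra hne
  have hd0 : 0 < n := by
    have := hp'.trans_le (ringKrullDim_quotient_le p)
    rw [hn] at this
    exact_mod_cast this
  have : Subsingleton (LocCoh.H q.asIdeal n R) := not_nontrivial_iff_subsingleton.1 fun h =>
    hmax _ (lt_of_le_of_ne hle hne) h (hq ▸ zero_lt_one)
  exact not_nontrivial_iff_subsingleton.2 (subsingleton_H_of_le hn.le hd0 hle q.isPrime.ne_top this) hp

theorem exists_largest_lt (M : Type u) [AddCommGroup M] [Module R M] [Module.Finite R M] [Nontrivial M]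
    (n : ℕ) (hn : Module.supportDim R M = n) :
    ∃ N : Submodule R M, Module.supportDim R N < n ∧
      (∀ N' : Submodule R M, Module.supportDim R N' < n → N' ≤ N) ∧
      Module.supportDim R (M ⧸ N) = n ∧
      (∀ L : Submodule R (M ⧸ N), L ≠ ⊥ → ¬ Module.supportDim R L < n) ∧
      associatedPrimes R (M ⧸ N) = {p ∈ associatedPrimes R M | ringKrullDim (R ⧸ p) = n} ∧
      Function.Bijective ⇑((localCohomology (maximalIdeal R) n).map (ModuleCat.ofHom N.mkQ)).hom := by
  have hunion : ∀ (A B C : Type u) [AddCommGroup A] [Module R A] [AddCommGroup B] [Module R B]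
      [AddCommGroup C] [Module R C] (f : A →ₗ[R] B) (g : B →ₗ[R] C), Function.Injective f →
      Function.Surjective g → Function.Exact f g → Module.supportDim R A < n → Module.supportDim R C < n →
      Module.supportDim R B < n := by
    intro A B C _ _ _ _ _ _ f g hf hg hfg hA hC
    rw [supportDim_lt_coe_iff] at hA hC ⊢
    intro p hp
    rw [Module.support_of_exact hfg hf hg] at hp
    exact hp.elim (hA p) (hC p)
  let S : Set (Submodule R M) := {N | Module.supportDim R N < n}
  have hne : S.Nonempty := ⟨⊥, by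
    change Module.supportDim R (⊥ : Submodule R M) < n
    rw [Module.supportDim_eq_bot_of_subsingleton]
    exact WithBot.bot_lt_coe _⟩
  obtain ⟨N, hN, hNmax⟩ := set_has_maximal_iff_noetherian.2 inferInstance S hne
  have hlift : ∀ L : Submodule R (M ⧸ N), Module.supportDim R L < n → L = ⊥ := by
    intro L hL
    let g : ↥(L.comap N.mkQ) →ₗ[R] L := N.mkQ.restrict fun x hx => hx
    have hNle : N ≤ L.comap N.mkQ := fun x hx => by
      rw [Submodule.mem_comap, Submodule.mkQ_apply, (Submodule.Quotient.mk_eq_zero N).2 hx]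
      exact zero_mem _
    have hmem : L.comap N.mkQ ∈ S := hunion _ _ _ (Submodule.inclusion hNle) g
      (Submodule.inclusion_injective hNle)
      (fun y => by
        obtain ⟨x, hx⟩ := Submodule.mkQ_surjective N y.1
        exact ⟨⟨x, by rw [Submodule.mem_comap, hx]; exact y.2⟩, Subtype.ext hx⟩)
      (fun y => ⟨fun hy => ⟨⟨y.1, (Submodule.Quotient.mk_eq_zero N).1 (congrArg Subtype.val hy)⟩, rfl⟩,
        by rintro ⟨x, rfl⟩; exact Subtype.ext ((Submodule.Quotient.mk_eq_zero N).2 x.2)⟩) hN hL
    have heq : L.comap N.mkQ = N := (eq_of_le_of_not_lt hNle (hNmax _ hmem)).symm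
    rw [eq_bot_iff]
    intro y hy
    obtain ⟨x, rfl⟩ := Submodule.mkQ_surjective N y
    exact (Submodule.mem_bot R).2 ((Submodule.Quotient.mk_eq_zero N).2 (heq ▸ hy))
  have hG : Module.supportDim R (M ⧸ N) = n := by
    refine le_antisymm ((Module.supportDim_le_of_surjective _ N.mkQ_surjective).trans hn.le)
      (not_lt.1 fun h => ?_)
    exact (hunion _ _ _ N.subtype N.mkQ N.injective_subtype N.mkQ_surjective
      (LinearMap.exact_subtype_mkQ N) hN h).ne hn
  refine ⟨N, hN, fun N' hN' => ?_, hG, fun L hL h => hL (hlift L h), ?_, ?_⟩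
  · have h1 := hlift (N'.map N.mkQ) (lt_of_le_of_lt
      (Module.supportDim_le_of_surjective _ (N.mkQ.submoduleMap_surjective N')) hN')
    intro x hx
    exact (Submodule.Quotient.mk_eq_zero N).1 ((Submodule.mem_bot R).1 (h1 ▸ Submodule.mem_map_of_mem hx))
  · ext p
    constructor
    · intro hp
      obtain ⟨hprime, x, hx⟩ := isAssociatedPrime_iff.mp hp
      let P : PrimeSpectrum R := ⟨p, hprime⟩
      have hsuppx : Module.support R (Submodule.span R {x}) ⊆ PrimeSpectrum.zeroLocus (p : Set R) := by
        intro q hq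
        rw [Module.mem_support_iff_of_span_eq_top (s := {⟨x, Submodule.mem_span_singleton_self x⟩})] at hq
        · obtain ⟨_, rfl, hm⟩ := hq
          intro a ha
          refine hm ?_
          rw [Submodule.mem_annihilator_span_singleton]
          rw [hx, SetLike.mem_coe, Submodule.mem_colon_singleton, Submodule.mem_bot] at ha
          exact Subtype.ext ha
        · rw [eq_top_iff]
          rintro ⟨y, hy⟩ -
          obtain ⟨c, rfl⟩ := Submodule.mem_span_singleton.1 hy
          exact Submodule.mem_span_singleton.2 ⟨c, rfl⟩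
      have hne : Submodule.span R {x} ≠ ⊥ := fun h => hprime.ne_top (by
        rw [hx, Submodule.span_singleton_eq_bot.1 h, Submodule.colon_eq_top_iff_subset]
        simp)
      have hdim : (n : WithBot ℕ∞) ≤ ringKrullDim (R ⧸ p) := by
        by_contra hlt
        push Not at hlt
        refine hne (hlift _ (supportDim_lt_coe_iff.2 fun q hq => ?_))
        have h1 := (Order.coheight_anti (show P ≤ q from hsuppx hq))
        rw [ringKrullDim_quotient_eq_coheight P] at hlt
        exact lt_of_le_of_lt h1 (by exact_mod_cast hlt)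
      have hPG : P ∈ Module.support R (M ⧸ N) := by
        rw [Module.support_eq_zeroLocus]
        exact le_of_eq_of_le Submodule.annihilator_top.symm (IsAssociatedPrime.annihilator_le hp)
      have hPM : P ∈ Module.support R M := Module.support_subset_of_surjective _ N.mkQ_surjective hPG
      have hle : ringKrullDim (R ⧸ p) ≤ n := by
        rw [ringKrullDim_quotient_eq_coheight P]
        exact (coheight_le_supportDim hPM).trans hn.le
      refine ⟨Module.associatedPrimes.minimalPrimes_annihilator_subset_associatedPrimes R M ?_, le_antisymm hle hdim⟩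
      refine ⟨⟨hprime, Module.annihilator_le_of_mem_support hPM⟩, fun q hq hqp => ?_⟩
      by_contra hne'
      let Q : PrimeSpectrum R := ⟨q, hq.1⟩
      have hQM : Q ∈ Module.support R M := by
        rw [Module.support_eq_zeroLocus]; exact hq.2
      have h1 : Order.coheight P + 1 ≤ Order.coheight Q :=
        Order.coheight_add_one_le (lt_of_le_of_ne hqp fun h => hne' h.ge)
      have h2 : Order.coheight Q ≤ (n : ℕ∞) := by exact_mod_cast (coheight_le_supportDim hQM).trans hn.le
      have h3 : (n : ℕ∞) ≤ Order.coheight P := by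
        rw [ringKrullDim_quotient_eq_coheight P] at hdim
        exact_mod_cast hdim
      have h4 := (h1.trans h2).trans h3
      lift Order.coheight P to ℕ using ne_top_of_le_ne_top (ENat.natCast_ne_top n) (le_self_add.trans (h1.trans h2)) with c
      norm_cast at h4
      omega
    · rintro ⟨hp, hdim⟩
      rcases associatedPrimes.subset_union_of_exact N.injective_subtype (LinearMap.exact_subtype_mkQ N) hp with h | h
      · exfalso
        have h1 := supportDim_lt_coe_iff.1 hN ⟨p, h.isPrime⟩ (by
          rw [Module.support_eq_zeroLocus]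
          exact le_of_eq_of_le Submodule.annihilator_top.symm (IsAssociatedPrime.annihilator_le h))
        rw [ringKrullDim_quotient_eq_coheight ⟨p, h.isPrime⟩] at hdim
        exact h1.ne (by exact_mod_cast hdim)
      · exact h
  · have hN' : Module.supportDim R N < ((n + 1 : ℕ) : WithBot ℕ∞) :=
      lt_of_lt_of_le hN (by exact_mod_cast Nat.le_succ n)
    refine ⟨?_, hmap_g_surjective _ N.injective_subtype N.mkQ_surjective (LinearMap.exact_subtype_mkQ N) n
      (subsingleton_of_supportDim_lt _ _ _ hN')⟩
    rw [injective_iff_map_eq_zero]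
    intro x hx
    obtain ⟨y, rfl⟩ := (exact_map_map _ n (shortExact_mk _ _ N.injective_subtype N.mkQ_surjective
      (LinearMap.exact_subtype_mkQ N)) x).1 hx
    exact (congrArg _ ((subsingleton_of_supportDim_lt _ _ _ hN).elim y 0)).trans (map_zero _)

end Groth.Agent.LocCohLib
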