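import Groth.Agent.Lib.LocCoh.CdOneSplit27
import Groth.Agent.Lib.LocCoh.AffinePunct27
import Mathlib.AlgebraicGeometry.Morphisms.Affine
import Mathlib.Topology.Sheaves.SheafCondition.UniqueGluing

/-!
Punctured opens of cohomological dimension one are affine.
-/

set_option autoImplicit false

universe u

open CategoryTheory AlgebraicGeometry TopologicalSpace Opposite

namespace Groth.Agent.LocCohSheafLib

variable {A : Type u} [CommRing A]

/-- The function of `a` on `U`. -/
noncomputable def toSecR (U : (Spec (CommRingCat.of A)).Opens) : A →+* Γ(Spec (CommRingCat.of A), U) :=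
  ((Spec (CommRingCat.of A)).presheaf.map (U.leTop).op).hom.comp (Scheme.ΓSpecIso (CommRingCat.of A)).inv.hom

theorem map_toSecR {U V : (Spec (CommRingCat.of A)).Opens} (h : V ≤ U) (a : A) :
    (Spec (CommRingCat.of A)).presheaf.map (homOfLE h).op (toSecR U a) = toSecR V a := by
  exact (ConcreteCategory.congr_hom ((Spec (CommRingCat.of A)).presheaf.map_comp (U.leTop).op (homOfLE h).op) _).symm

theorem basicOpen_toSecR (U : (Spec (CommRingCat.of A)).Opens) (a : A) :
    (Spec (CommRingCat.of A)).basicOpen (toSecR U a) = U ⊓ PrimeSpectrum.basicOpen a := by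
  show (Spec (CommRingCat.of A)).basicOpen ((Spec (CommRingCat.of A)).presheaf.map (U.leTop).op ((Scheme.ΓSpecIso (CommRingCat.of A)).inv a)) = _
  rw [Scheme.basicOpen_res, basicOpen_eq_of_affine]

theorem isUnit_toSecR {U : (Spec (CommRingCat.of A)).Opens} {a : A} (h : U ≤ PrimeSpectrum.basicOpen a) :
    IsUnit (toSecR U a) :=
  (Spec (CommRingCat.of A)).toLocallyRingedSpace.toRingedSpace.isUnit_of_isUnit_germ U _ fun x hx =>
    (Scheme.mem_basicOpen _ (toSecR U a) x hx).1 (by rw [basicOpen_toSecR]; exact ⟨hx, h hx⟩)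

theorem isAffineOpen_puncturedOpen_of_splitting {r : ℕ} (f : Fin r → A) (c : ℕ)
    (φ : Fin r → (↥(Ideal.span (Set.range f) ^ (c + 1)) →ₗ[A] A))
    (hφ : ∀ x : ↥(Ideal.span (Set.range f) ^ (c + 1)), (x : A) = ∑ j, f j * φ j x) :
    IsAffineOpen (LocCoh.puncturedOpen A (Ideal.span (Set.range f))) := by
  classical
  set X := Spec (CommRingCat.of A)
  set U : X.Opens := LocCoh.puncturedOpen A (Ideal.span (Set.range f))
  let ι := ↥(Ideal.span (Set.range f) ^ (c + 1))
  let D : ι → X.Opens := fun x => PrimeSpectrum.basicOpen (x : A)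
  have hDU : ∀ x, D x ≤ U := fun x p hp hp' =>
    hp (hp' (Ideal.pow_le_self (Nat.succ_ne_zero c) x.2))
  have hUD : U ≤ iSup D := fun p hp => by
    obtain ⟨a, ha, hap⟩ := Set.not_subset.1 hp
    exact Opens.mem_iSup.2 ⟨⟨a ^ (c + 1), Ideal.pow_mem_pow ha _⟩, fun h => hap (p.2.mem_of_pow_mem _ h)⟩
  have hu : ∀ x, IsUnit (toSecR (D x) (x : A)) := fun x => isUnit_toSecR le_rfl
  have hb' : ∀ j x, ∃ b : Γ(X, D x), b * toSecR (D x) (x : A) = toSecR (D x) (φ j x) := fun j x =>
    ⟨toSecR (D x) (φ j x) * ↑(hu x).unit⁻¹, by rw [mul_assoc, IsUnit.val_inv_mul, mul_one]⟩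
  choose b hb using hb'
  have hc : ∀ j, TopCat.Presheaf.IsCompatible X.sheaf.1 D (b j) := fun j x y => by
    have hux : IsUnit (toSecR (D x ⊓ D y) ((x : A) * y)) := by
      rw [map_mul]
      exact (isUnit_toSecR inf_le_left).mul (isUnit_toSecR inf_le_right)
    refine hux.mul_left_inj.1 ?_
    show (X.presheaf.map (homOfLE inf_le_left).op (b j x)) * _ = (X.presheaf.map (homOfLE inf_le_right).op (b j y)) * _
    have hx' := congrArg (X.presheaf.map (homOfLE (inf_le_left : D x ⊓ D y ≤ D x)).op) (hb j x)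
    have hy' := congrArg (X.presheaf.map (homOfLE (inf_le_right : D x ⊓ D y ≤ D y)).op) (hb j y)
    rw [map_mul, map_toSecR, map_toSecR] at hx' hy'
    rw [map_mul, ← mul_assoc, hx', mul_comm (toSecR _ (x : A)), ← mul_assoc, hy', ← map_mul, ← map_mul]
    have he : (y : A) • x = (x : A) • y := Subtype.ext (mul_comm _ _)
    have := congrArg (φ j) he
    rw [map_smul, map_smul, smul_eq_mul, smul_eq_mul] at this
    rw [mul_comm, this, mul_comm]
  have hglue : ∀ j, ∃ t : Γ(X, U), ∀ x, X.presheaf.map (homOfLE (hDU x)).op t = b j x := fun j =>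
    (X.sheaf.existsUnique_gluing' D U (fun x => homOfLE (hDU x)) hUD (b j) (hc j)).exists
  choose β hβ using hglue
  have hsum : ∑ j, toSecR U (f j) * β j = 1 := by
    refine X.sheaf.eq_of_locally_eq' D U (fun x => homOfLE (hDU x)) hUD _ _ fun x => ?_
    refine (hu x).mul_left_inj.1 ?_
    show X.presheaf.map (homOfLE (hDU x)).op (∑ j, toSecR U (f j) * β j) * _ = X.presheaf.map (homOfLE (hDU x)).op 1 * _
    rw [map_one, one_mul, map_sum, Finset.sum_mul]
    conv_rhs => rw [hφ x, map_sum]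
    refine Finset.sum_congr rfl fun j _ => ?_
    rw [map_mul, map_toSecR, mul_assoc, map_mul]
    exact congrArg _ ((congrArg (· * _) (hβ j x)).trans (hb j x))
  refine isAffineOpen_of_isAffineOpen_basicOpen U (Set.range fun j => toSecR U (f j)) ?_ ?_
  · refine (Ideal.eq_top_iff_one _).2 ?_
    rw [← hsum]
    exact Submodule.sum_mem _ fun j _ => Ideal.mul_mem_right _ _ (Ideal.subset_span ⟨j, rfl⟩)
  · rintro _ ⟨j, rfl⟩
    rw [basicOpen_toSecR, inf_eq_right.2 (fun p hp hp' => hp (hp' (Ideal.subset_span ⟨j, rfl⟩)) :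
      PrimeSpectrum.basicOpen (f j) ≤ U)]
    exact IsAffineOpen.Spec_basicOpen _

theorem isAffine_punctured_of_cd_one [IsNoetherianRing A] (I : Ideal A) (h₁ : LocCoh.CdLE A I 1) :
    IsAffineOpen (LocCoh.puncturedOpen A I) := by
  obtain ⟨s, rfl⟩ := IsNoetherian.noetherian I
  obtain ⟨r, f, hf⟩ : ∃ (r : ℕ) (f : Fin r → A), Ideal.span (Set.range f) = Submodule.span A (s : Set A) :=
    ⟨_, fun i => (s.equivFin.symm i : A), by rw [Set.range_comp' Subtype.val, s.equivFin.symm.range_eq_univ, Set.image_univ, Subtype.range_coe]⟩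
  rw [← hf] at h₁ ⊢
  obtain ⟨c, φ, hφ⟩ := LocCohLib.exists_splitting f h₁
  exact isAffineOpen_puncturedOpen_of_splitting f c φ hφ

theorem nonempty_punctured_of_not_cd_zero [IsNoetherianRing A] (I : Ideal A) (h₀ : ¬ LocCoh.CdLE A I 0) :
    Nonempty (↑(LocCoh.puncturedOpen A I) : Scheme.{u}) := by
  by_contra h
  have hI : I ≤ nilradical A := fun a ha => by
    rw [nilradical_eq_sInf, Submodule.mem_sInf]
    intro P hP
    by_contra haP
    exact h ⟨⟨⟨P, hP⟩, fun h' => haP (h' ha)⟩⟩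
  obtain ⟨n, hn⟩ := Ideal.exists_pow_le_of_le_radical_of_fg (show I ≤ (⊥ : Ideal A).radical from hI) (IsNoetherian.noetherian I)
  refine h₀ fun M _ _ i hi => ?_
  obtain ⟨j, rfl⟩ : ∃ j, i = j + 1 := ⟨i - 1, by omega⟩
  exact LocCohLib.subsingleton_of_isPowerTorsion I j M fun m =>
    ⟨n, fun a ha => by rw [(Submodule.mem_bot _).1 (hn ha), zero_smul]⟩

end Groth.Agent.LocCohSheafLib
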