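import Groth.Agent.Lib.LocCoh.DerivedCompare
import Groth.Agent.Lib.LocCoh.Basic
import Groth.Agent.Lib.ExtDerived.Basic
import Groth.Prelude.Def_DRing3

/-!
# Local cohomology is the right derived functor of `Γ_I`
-/

universe u

open CategoryTheory Limits

noncomputable section

namespace Groth.Agent.LocCohLib

variable {R : Type u} [CommRing R] (I : Ideal R) (i : ℕ) {Y : ModuleCat.{u} R} (P : InjectiveResolution Y)

theorem extMk_congr {X : ModuleCat.{u} R} {f f' : X ⟶ P.cocomplex.X i} (h : f = f')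
    (hf : f ≫ P.cocomplex.d i (i + 1) = 0) (hf' : f' ≫ P.cocomplex.d i (i + 1) = 0) :
    P.extMk f (i + 1) rfl hf = P.extMk f' (i + 1) rfl hf' := by
  subst h; rfl

/-- The element underlying a cocycle. -/
def gammaVal (z : (derCx (DRing.gammaI I) P).cycles i) : ↥(DRing.torsionSub I (P.cocomplex.X i)) :=
  ((derCx (DRing.gammaI I) P).iCycles i).hom z

theorem gammaVal_d (z : (derCx (DRing.gammaI I) P).cycles i) :
    (P.cocomplex.d i (i + 1)).hom (gammaVal I i P z).1 = 0 :=
  congrArg Subtype.val (LinearMap.congr_fun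
    (congrArg ModuleCat.Hom.hom ((derCx (DRing.gammaI I) P).iCycles_d i (i + 1))) z)

variable {I i P} in
/-- An element killed by `I ^ n`, as a map out of `R ⧸ I ^ n`. -/
def classHom {n : ℕ} (x : P.cocomplex.X i) (h : ∀ a ∈ I ^ n, a • x = 0) : Q I n ⟶ P.cocomplex.X i :=
  ModuleCat.ofHom ((I ^ n).liftQ (LinearMap.toSpanSingleton R _ x) fun a ha => h a ha)

variable {I i P} in
theorem classHom_d {n : ℕ} {x : P.cocomplex.X i} (h : ∀ a ∈ I ^ n, a • x = 0)
    (hd : (P.cocomplex.d i (i + 1)).hom x = 0) : classHom x h ≫ P.cocomplex.d i (i + 1) = 0 := by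
  ext
  change (P.cocomplex.d i (i + 1)).hom ((1 : R) • x) = 0
  rw [one_smul, hd]

variable {I i P} in
/-- The class of a torsion cocycle. -/
def classOf {n : ℕ} (x : P.cocomplex.X i) (h : ∀ a ∈ I ^ n, a • x = 0)
    (hd : (P.cocomplex.d i (i + 1)).hom x = 0) : (localCohomology I i).obj Y :=
  ι I i Y n (P.extMk (classHom x h) (i + 1) rfl (classHom_d h hd))

variable {I i P} in
theorem classOf_mono {n m : ℕ} (hnm : n ≤ m) {x : P.cocomplex.X i} (h : ∀ a ∈ I ^ n, a • x = 0)
    (h' : ∀ a ∈ I ^ m, a • x = 0) (hd : (P.cocomplex.d i (i + 1)).hom x = 0) :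
    classOf x h' hd = classOf x h hd := by
  rw [classOf, classOf, ← ι_proj I i Y hnm, P.mk₀_comp_extMk]
  refine congrArg _ (extMk_congr _ _ ?_ _ _)
  ext
  rfl

variable {I i P} in
theorem classOf_eq {n m : ℕ} {x y : P.cocomplex.X i} (hxy : x = y) (h : ∀ a ∈ I ^ n, a • x = 0)
    (h' : ∀ a ∈ I ^ m, a • y = 0) (hd : (P.cocomplex.d i (i + 1)).hom x = 0)
    (hd' : (P.cocomplex.d i (i + 1)).hom y = 0) :
    classOf x h hd = classOf y h' hd' := by
  subst hxy
  have hM : ∀ a ∈ I ^ max n m, a • x = 0 := fun a ha => h a (Ideal.pow_le_pow_right (le_max_left n m) ha)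
  rw [← classOf_mono (le_max_left n m) h hM hd, ← classOf_mono (le_max_right n m) h' hM hd]

/-- Cocycles to local cohomology. -/
def gammaΦ : (derCx (DRing.gammaI I) P).cycles i ⟶ (localCohomology I i).obj Y :=
  ModuleCat.ofHom
    { toFun := fun z => classOf (gammaVal I i P z).1 (gammaVal I i P z).2.choose_spec (gammaVal_d I i P z)
      map_add' := fun z w => by
        let a := (gammaVal I i P z).2.choose
        let b := (gammaVal I i P w).2.choose
        have hz : ∀ c ∈ I ^ max a b, c • (gammaVal I i P z).1 = 0 := fun c hc =>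
          (gammaVal I i P z).2.choose_spec c (Ideal.pow_le_pow_right (le_max_left _ _) hc)
        have hw : ∀ c ∈ I ^ max a b, c • (gammaVal I i P w).1 = 0 := fun c hc =>
          (gammaVal I i P w).2.choose_spec c (Ideal.pow_le_pow_right (le_max_right _ _) hc)
        have hv : (gammaVal I i P (z + w)).1 = (gammaVal I i P z).1 + (gammaVal I i P w).1 :=
          congrArg Subtype.val (map_add ((derCx (DRing.gammaI I) P).iCycles i).hom z w)
        have hs : ∀ c ∈ I ^ max a b, c • ((gammaVal I i P z).1 + (gammaVal I i P w).1) = 0 :=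
          fun c hc => by rw [smul_add, hz c hc, hw c hc, add_zero]
        rw [classOf_eq hv _ hs _ (by rw [map_add, gammaVal_d, gammaVal_d, add_zero]),
          classOf_eq rfl _ hz _ (gammaVal_d I i P z), classOf_eq rfl _ hw _ (gammaVal_d I i P w)]
        unfold classOf
        refine Eq.trans ?_ (map_add (ι I i Y (max a b)) _ _)
        rw [P.add_extMk]
        refine congrArg _ (extMk_congr _ _ ?_ _ _)
        ext
        exact smul_add (1 : R) _ _
      map_smul' := fun r z => by
        have hv : (gammaVal I i P (r • z)).1 = r • (gammaVal I i P z).1 :=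
          congrArg Subtype.val (map_smul ((derCx (DRing.gammaI I) P).iCycles i).hom r z)
        have hs : ∀ c ∈ I ^ (gammaVal I i P z).2.choose, c • (r • (gammaVal I i P z).1) = 0 :=
          fun c hc => by rw [smul_comm, (gammaVal I i P z).2.choose_spec c hc, smul_zero]
        rw [classOf_eq hv _ hs _ (by rw [map_smul, gammaVal_d, smul_zero]), RingHom.id_apply]
        unfold classOf
        refine Eq.trans ?_ (map_smul (ι I i Y _) r _)
        rw [smul_ext_eq_comp, P.mk₀_comp_extMk]
        refine congrArg _ (extMk_congr _ _ ?_ _ _)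
        rw [Linear.smul_comp, Category.id_comp]
        ext
        exact smul_comm (1 : R) r (gammaVal I i P z).1 }

theorem gammaΦ_surjective : Function.Surjective (gammaΦ I i P).hom := by
  intro x
  obtain ⟨n, y, rfl⟩ := exists_ι I i Y x
  obtain ⟨f, hf, rfl⟩ := P.extMk_surjective y (i + 1) rfl
  have hker : ∀ a ∈ I ^ n, a • f.hom (Submodule.Quotient.mk (1 : R)) = 0 := fun a ha => by
    rw [← map_smul, ← Submodule.Quotient.mk_smul, (Submodule.Quotient.mk_eq_zero _).2, map_zero]
    rwa [smul_eq_mul, mul_one]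
  have hd : (P.cocomplex.d i (i + 1)).hom (f.hom (Submodule.Quotient.mk (1 : R))) = 0 :=
    LinearMap.congr_fun (congrArg ModuleCat.Hom.hom hf) _
  let v : (derCx (DRing.gammaI I) P).X i :=
    (⟨f.hom (Submodule.Quotient.mk (1 : R)), n, hker⟩ : ↥(DRing.torsionSub I (P.cocomplex.X i)))
  refine ⟨(derCx (DRing.gammaI I) P).cyclesMk v (i + 1) (by simp) (Subtype.ext hd), ?_⟩
  have hv : (gammaVal I i P ((derCx (DRing.gammaI I) P).cyclesMk v (i + 1) (by simp) (Subtype.ext hd))).1 =
      f.hom (Submodule.Quotient.mk (1 : R)) :=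
    congrArg Subtype.val ((derCx (DRing.gammaI I) P).i_cyclesMk v (i + 1) (by simp) (Subtype.ext hd))
  refine (classOf_eq hv (gammaVal I i P _).2.choose_spec hker (gammaVal_d I i P _) hd).trans ?_
  unfold classOf
  refine congrArg _ (extMk_congr _ _ ?_ _ _)
  ext
  exact one_smul R _

theorem gammaΦ_eq_zero_iff (z : (derCx (DRing.gammaI I) P).cycles i) :
    (gammaΦ I i P).hom z = 0 ↔
      ∃ w, ((derCx (DRing.gammaI I) P).toCycles ((ComplexShape.up ℕ).prev i) i).hom w = z := by
  have hinj : Function.Injective ((derCx (DRing.gammaI I) P).iCycles i).hom :=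
    (ModuleCat.mono_iff_injective _).1 inferInstance
  let hn := (gammaVal I i P z).2.choose_spec
  have hcrit : (gammaΦ I i P).hom z = 0 ↔ ∃ (m : ℕ) (hm : ∀ a ∈ I ^ m, a • (gammaVal I i P z).1 = 0),
      P.extMk (classHom (gammaVal I i P z).1 hm) (i + 1) rfl (classHom_d hm (gammaVal_d I i P z)) = 0 := by
    constructor
    · intro h0
      obtain ⟨m, hm, hm0⟩ := (ι_eq_zero_iff I i Y _).1 h0
      refine ⟨m, fun a ha => hn a (Ideal.pow_le_pow_right hm ha), ?_⟩
      rw [← hm0, P.mk₀_comp_extMk]
      refine extMk_congr _ _ ?_ _ _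
      ext
      rfl
    · rintro ⟨m, hm, hm0⟩
      refine (classOf_eq rfl hn hm (gammaVal_d I i P z) (gammaVal_d I i P z)).trans ?_
      unfold classOf
      rw [hm0, map_zero]
  rw [hcrit]
  rcases Nat.eq_zero_or_pos i with rfl | hi
  · constructor
    · rintro ⟨m, hm, hm0⟩
      refine ⟨0, hinj ?_⟩
      rw [map_zero, map_zero]
      refine Subtype.ext ?_
      have h := (ExtDerived.extMk_zero_iff (Q I m) P _ _).1 hm0
      exact ((one_smul R _).symm.trans (LinearMap.congr_fun (congrArg ModuleCat.Hom.hom h)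
        (Submodule.Quotient.mk (1 : R)))).symm
    · rintro ⟨w, rfl⟩
      refine ⟨_, (gammaVal I 0 P _).2.choose_spec, ?_⟩
      rw [ExtDerived.extMk_zero_iff]
      ext
      change (1 : R) • (gammaVal I 0 P _).1 = 0
      rw [one_smul]
      refine (congrArg Subtype.val (LinearMap.congr_fun (congrArg ModuleCat.Hom.hom
        ((derCx (DRing.gammaI I) P).toCycles_i ((ComplexShape.up ℕ).prev 0) 0)) w)).trans ?_
      rw [(derCx (DRing.gammaI I) P).shape _ _ (by simp)]
      rfl
  · obtain ⟨p, rfl⟩ := Nat.exists_eq_succ_of_ne_zero hi.ne'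
    have hprev : (ComplexShape.up ℕ).prev (p + 1) = p := CochainComplex.prev_nat_succ p
    constructor
    · rintro ⟨m, hm, hm0⟩
      obtain ⟨g, hg⟩ := (P.extMk_eq_zero_iff _ _ _ _ p rfl).1 hm0
      rw [hprev]
      refine ⟨(⟨g.hom (Submodule.Quotient.mk (1 : R)), m, fun a ha => by
        rw [← map_smul, ← Submodule.Quotient.mk_smul, (Submodule.Quotient.mk_eq_zero _).2, map_zero]
        rwa [smul_eq_mul, mul_one]⟩ : ↥(DRing.torsionSub I (P.cocomplex.X p))), hinj ?_⟩
      refine (LinearMap.congr_fun (congrArg ModuleCat.Hom.hom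
        ((derCx (DRing.gammaI I) P).toCycles_i p (p + 1))) _).trans ?_
      refine Subtype.ext ((LinearMap.congr_fun (congrArg ModuleCat.Hom.hom hg)
        (Submodule.Quotient.mk (1 : R))).trans ?_)
      exact one_smul R _
    · rw [hprev]
      rintro ⟨w, rfl⟩
      have hval : (gammaVal I (p + 1) P (((derCx (DRing.gammaI I) P).toCycles p (p + 1)).hom w)).1 =
          (P.cocomplex.d p (p + 1)).hom (w : ↥(DRing.torsionSub I (P.cocomplex.X p))).1 :=
        congrArg Subtype.val (LinearMap.congr_fun (congrArg ModuleCat.Hom.hom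
          ((derCx (DRing.gammaI I) P).toCycles_i p (p + 1))) w)
      obtain ⟨m, hm⟩ := (w : ↥(DRing.torsionSub I (P.cocomplex.X p))).2
      refine ⟨m, fun a ha => by rw [hval, ← map_smul, hm a ha, map_zero], ?_⟩
      refine (P.extMk_eq_zero_iff _ _ _ _ p rfl).2
        ⟨ModuleCat.ofHom ((I ^ m).liftQ (LinearMap.toSpanSingleton R _ _) fun a ha => hm a ha), ?_⟩
      ext
      change (P.cocomplex.d p (p + 1)).hom ((1 : R) • _) = (1 : R) • _
      rw [one_smul, one_smul, hval]

theorem gammaΦ_natural {Y' : ModuleCat.{u} R} (f : Y ⟶ Y') (P' : InjectiveResolution Y')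
    (φ : InjectiveResolution.Hom P P' f) :
    HomologicalComplex.cyclesMap (((DRing.gammaI I).mapHomologicalComplex (ComplexShape.up ℕ)).map φ.hom) i ≫
      gammaΦ I i P' = gammaΦ I i P ≫ (localCohomology I i).map f := by
  refine ModuleCat.hom_ext (LinearMap.ext fun z => ?_)
  have hv : (gammaVal I i P' ((HomologicalComplex.cyclesMap
      (((DRing.gammaI I).mapHomologicalComplex (ComplexShape.up ℕ)).map φ.hom) i).hom z)).1 =
      (φ.hom.f i).hom (gammaVal I i P z).1 :=
    congrArg Subtype.val (LinearMap.congr_fun (congrArg ModuleCat.Hom.hom (HomologicalComplex.cyclesMap_i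
      (((DRing.gammaI I).mapHomologicalComplex (ComplexShape.up ℕ)).map φ.hom) i)) z)
  have hz := (gammaVal I i P z).2.choose_spec
  have h' : ∀ a ∈ I ^ (gammaVal I i P z).2.choose, a • (φ.hom.f i).hom (gammaVal I i P z).1 = 0 :=
    fun a ha => by rw [← map_smul, hz a ha, map_zero]
  have hd' : (P'.cocomplex.d i (i + 1)).hom ((φ.hom.f i).hom (gammaVal I i P z).1) = 0 := by
    rw [← hv]; exact gammaVal_d I i P' _
  refine (classOf_eq hv (gammaVal I i P' _).2.choose_spec h' (gammaVal_d I i P' _) hd').trans ?_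
  · change _ = ((localCohomology I i).map f).hom (classOf _ hz (gammaVal_d I i P z))
    unfold classOf
    rw [map_ι, InjectiveResolution.extMk_comp_mk₀ _ _ _ _ φ]
    refine congrArg _ (extMk_congr _ _ ?_ _ _)
    ext
    change (1 : R) • (φ.hom.f i).hom _ = (φ.hom.f i).hom ((1 : R) • _)
    rw [map_smul]

theorem nonempty_gammaI_rightDerived :
    Nonempty ((DRing.gammaI I).rightDerived i ≅ localCohomology I i) :=
  nonempty_rightDerived_iso (DRing.gammaI I) (localCohomology I i) i (fun _ P => gammaΦ I i P)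
    (fun _ P => gammaΦ_surjective I i P)
    (fun _ P w => (gammaΦ_eq_zero_iff I i P _).2 ⟨w, rfl⟩)
    (fun _ P z hz => (gammaΦ_eq_zero_iff I i P z).1 hz)
    (fun _ _ f P P' φ => gammaΦ_natural I i P f P' φ)

end Groth.Agent.LocCohLib
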