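import Groth.Agent.Lib.LocCoh.Finite
import Groth.Agent.Lib.LocCoh.Seq
import Groth.Agent.Lib.Depth.Basic
import Mathlib.RingTheory.LocalRing.Module
import Mathlib.RingTheory.LocalProperties.Projective
import Mathlib.Algebra.Module.FinitePresentation
import Mathlib.RingTheory.TensorProduct.IsBaseChangePi
import Mathlib.Algebra.Module.LocalizedModule.Exact
import Mathlib.CategoryTheory.Abelian.Projective.Dimension
import Mathlib.Algebra.Category.ModuleCat.Projective

/-!
# Annihilators of local cohomology below the grade
-/

universe u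

open CategoryTheory

noncomputable section

namespace Groth.Agent.LocCohLib

variable {R : Type u} [CommRing R] [IsNoetherianRing R]

theorem subsingleton_pi_of_lt_idealDepth (b : Ideal R) {i : ℕ} (h : (i : ℕ∞) < LocCoh.idealDepth b R)
    (k : ℕ) : Subsingleton (LocCoh.H b i (Fin k → R)) := by
  refine subsingleton_pi b i R ?_ k
  refine (vanishing_below_iff (I := b) (ModuleCat.of R R) (i + 1)).2 (fun N _ _ _ hN j hj => ?_) i i.lt_succ_self
  exact DepthLib.subsingleton_ext_of_le_idealDepth (I := b) (M := R) (n := i + 1)
    (by exact_mod_cast Order.add_one_le_of_lt h) (ModuleCat.of R N) hN hj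

/-- A finite module free at `p` factors, up to `s ∉ p`, through a finite free module. -/
theorem exists_factor_free (M : Type u) [AddCommGroup M] [Module R M] [Module.Finite R M]
    (p : Ideal R) [p.IsPrime] [Module.Free (Localization.AtPrime p) (LocalizedModule p.primeCompl M)] :
    ∃ (k : ℕ) (φ : M →ₗ[R] Fin k → R) (ψ : (Fin k → R) →ₗ[R] M) (s : R), s ∉ p ∧
      ψ ∘ₗ φ = s • LinearMap.id := by
  classical
  let Mp := LocalizedModule p.primeCompl M
  let ι : M →ₗ[R] Mp := LocalizedModule.mkLinearMap _ _
  obtain ⟨k, π, hπ⟩ := Module.Finite.exists_fin' R M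
  have : Module.Projective (Localization.AtPrime p) Mp := Module.Projective.of_free
  let f : (Fin k → R) →ₗ[R] Fin k → Localization.AtPrime p :=
    LinearMap.pi fun j => (Algebra.linearMap R (Localization.AtPrime p)) ∘ₗ LinearMap.proj j
  have hf : IsLocalizedModule p.primeCompl f :=
    IsLocalizedModule.pi p.primeCompl fun _ : Fin k => Algebra.linearMap R (Localization.AtPrime p)
  have : Module.FinitePresentation R M := Module.finitePresentation_of_finite R M
  let πp : (Fin k → Localization.AtPrime p) →ₗ[Localization.AtPrime p] Mp :=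
    IsLocalizedModule.mapExtendScalars p.primeCompl f ι (Localization.AtPrime p) π
  have hπp : Function.Surjective πp := IsLocalizedModule.map_surjective p.primeCompl f ι π hπ
  obtain ⟨σ, hσ⟩ := Module.projective_lifting_property πp LinearMap.id hπp
  obtain ⟨φ, t, hφ⟩ := Module.FinitePresentation.exists_lift_of_isLocalizedModule p.primeCompl f
    ((σ.restrictScalars R) ∘ₗ ι)
  have hcomm : ∀ v, πp (f v) = ι (π v) := fun v => IsLocalizedModule.map_apply p.primeCompl f ι π v
  obtain ⟨t', ht'⟩ := Module.Finite.exists_smul_of_comp_eq_of_isLocalizedModule p.primeCompl ι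
    (π ∘ₗ φ) ((t : R) • LinearMap.id) (by
      refine LinearMap.ext fun m => ?_
      simp only [LinearMap.comp_apply, LinearMap.smul_apply, LinearMap.id_apply, map_smul]
      rw [← hcomm, show f (φ m) = (t : R) • σ (ι m) from LinearMap.congr_fun hφ m,
        LinearMap.map_smul_of_tower, show πp (σ (ι m)) = ι m from LinearMap.congr_fun hσ _])
  refine ⟨k, φ, (t' : R) • π, (t' : R) * t, fun h => (Ideal.IsPrime.mem_or_mem ‹_› h).elim t'.2 t.2, ?_⟩
  rw [LinearMap.smul_comp, mul_smul]
  exact ht'

/-- Killed by `s` below the grade, when `M` factors through a free module up to `s`. -/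
theorem smul_eq_zero_of_factor {M : Type u} [AddCommGroup M] [Module R M] {k : ℕ}
    {φ : M →ₗ[R] Fin k → R} {ψ : (Fin k → R) →ₗ[R] M} {s : R} (h : ψ ∘ₗ φ = s • LinearMap.id)
    (b : Ideal R) {i : ℕ} (hi : (i : ℕ∞) < LocCoh.idealDepth b R) (x : LocCoh.H b i M) : s • x = 0 := by
  have h1 : hmap b i (s • LinearMap.id) x = s • x := by rw [hmap_smul, hmap_id]; rfl
  rw [← h1, ← h, hmap_comp, LinearMap.comp_apply,
    (subsingleton_pi_of_lt_idealDepth b hi k).elim (hmap b i φ x) 0, map_zero]

omit [IsNoetherianRing R] in
theorem hasProjectiveDimensionLE_of_localized (p : Ideal R) [p.IsPrime] {A C : Type u} {k : ℕ}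
    [AddCommGroup A] [Module R A] [AddCommGroup C] [Module R C] {f : A →ₗ[R] Fin k → R}
    {g : (Fin k → R) →ₗ[R] C} (hf : Function.Injective f) (hg : Function.Surjective g)
    (hfg : Function.Exact f g) (h : ℕ)
    (hC : HasProjectiveDimensionLE (ModuleCat.of (Localization.AtPrime p) (LocalizedModule p.primeCompl C)) (h + 1)) :
    HasProjectiveDimensionLE (ModuleCat.of (Localization.AtPrime p) (LocalizedModule p.primeCompl A)) h := by
  let f' : LocalizedModule p.primeCompl A →ₗ[Localization.AtPrime p] LocalizedModule p.primeCompl (Fin k → R) :=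
    LocalizedModule.map p.primeCompl f
  let g' : LocalizedModule p.primeCompl (Fin k → R) →ₗ[Localization.AtPrime p] LocalizedModule p.primeCompl C :=
    LocalizedModule.map p.primeCompl g
  have hex : Function.Exact f' g' := LocalizedModule.map_exact p.primeCompl _ _ hfg
  have hS := ModuleCat.shortComplex_shortExact
    (ShortComplex.moduleCatMk f' g' hex.linearMap_comp_eq_zero) hex
    (LocalizedModule.map_injective p.primeCompl _ hf) (LocalizedModule.map_surjective p.primeCompl _ hg)
  have hproj : Module.Projective (Localization.AtPrime p) (LocalizedModule p.primeCompl (Fin k → R)) :=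
    inferInstance
  have : Projective (ModuleCat.of (Localization.AtPrime p) (LocalizedModule p.primeCompl (Fin k → R))) :=
    (IsProjective.iff_projective _).1 hproj
  exact hS.hasProjectiveDimensionLT_X₁ (h + 1)
    (hasProjectiveDimensionLT_of_ge (ModuleCat.of (Localization.AtPrime p) (LocalizedModule p.primeCompl (Fin k → R))) 1 (h + 1) (by omega)) hC

omit [IsNoetherianRing R] in
theorem smul_eq_zero_of_injective_map {X Y : Type u} [AddCommGroup X] [Module R X] [AddCommGroup Y]
    [Module R Y] (d : X →ₗ[R] Y) (hd : Function.Injective d) (s : R) (h : ∀ y : Y, s • y = 0) (x : X) :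
    s • x = 0 :=
  hd (by rw [map_smul, map_zero]; exact h _)

/-- Annihilation below grade minus the projective dimension at `p`. -/
theorem exists_smul_eq_zero_below_grade (p : Ideal R) [p.IsPrime] (h : ℕ) :
    ∀ (M : Type u) [AddCommGroup M] [Module R M] [Module.Finite R M],
      HasProjectiveDimensionLE (ModuleCat.of (Localization.AtPrime p) (LocalizedModule p.primeCompl M)) h →
      ∃ s : R, s ∉ p ∧ ∀ (b : Ideal R) (i : ℕ), ((i + h : ℕ) : ℕ∞) < LocCoh.idealDepth b R →
        ∀ x : LocCoh.H b i M, s • x = 0 := by
  induction h with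
  | zero =>
    intro M _ _ _ hM
    let Mp := LocalizedModule p.primeCompl M
    have : Module.Projective (Localization.AtPrime p) Mp := by
      rw [IsProjective.iff_projective, projective_iff_hasProjectiveDimensionLT_one]
      exact hM
    have : Module.Free (Localization.AtPrime p) Mp := Module.free_of_flat_of_isLocalRing
    obtain ⟨k, φ, ψ, s, hs, hψ⟩ := exists_factor_free M p
    exact ⟨s, hs, fun b i hi x => smul_eq_zero_of_factor hψ b (by simpa using hi) x⟩
  | succ h ih =>
    intro M _ _ _ hM
    obtain ⟨k, K, π, _, hex, hπ⟩ := exists_free_presentation (R := R) M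
    have hK := hasProjectiveDimensionLE_of_localized p K.injective_subtype hπ hex h hM
    obtain ⟨s, hs, hsK⟩ := ih K hK
    refine ⟨s, hs, fun b i hi x => ?_⟩
    have hinj : Function.Injective (δ b i (shortExact_mk K.subtype π K.injective_subtype hπ hex)) := by
      rw [injective_iff_map_eq_zero]
      intro y hy
      obtain ⟨z, rfl⟩ := (exact_map_δ b i (shortExact_mk K.subtype π K.injective_subtype hπ hex) y).1 hy
      have h0 := subsingleton_pi_of_lt_idealDepth b (i := i)
        (lt_of_le_of_lt (by exact_mod_cast Nat.le_add_right i (h + 1)) hi) k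
      exact (congrArg _ (h0.elim z 0)).trans (map_zero _)
    exact smul_eq_zero_of_injective_map _ hinj s (hsK b (i + 1) (by simpa [Nat.add_assoc, Nat.add_comm, Nat.add_left_comm] using hi)) x

end Groth.Agent.LocCohLib
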