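import Groth.Agent.Lib.LocCoh.ABIneq27
import Groth.Agent.Lib.LocCoh.AddElem27
import Groth.Agent.Lib.LocCoh.Grade
import Groth.Agent.Lib.LocCoh.Localize
import Groth.Agent.Lib.LocCoh.AdjDepthBasics27
import Groth.Agent.Lib.LocCoh.TopTensor
import Groth.Agent.Lib.Goren.CMHeight27

/-!
# Faltings' annihilator theorem over regular rings
-/

set_option autoImplicit false
universe u

open CategoryTheory Groth.Agent.InjHullLib IsLocalRing

noncomputable section

namespace Groth.Agent.LocCohLib

variable {R : Type u} [CommRing R]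

/-- `H^j_J(R)` is `x`-power torsion. -/
def HTors (J : Ideal R) (x : R) (j : ℕ) : Prop := ∀ y : LocCoh.H J j R, ∃ m : ℕ, x ^ m • y = 0

/-- `c` kills `H^i_J(M)` up to powers of `x` whenever `H^j_J(R)` is `x`-torsion for `i ≤ j < i + t`. -/
def Kills (c : R) (M : Type u) [AddCommGroup M] [Module R M] (t : ℕ) : Prop :=
  ∀ (J : Ideal R) (x : R) (i : ℕ), (∀ j, i ≤ j → j < i + t → HTors J x j) →
    ∀ y : LocCoh.H J i M, ∃ m : ℕ, x ^ m • c • y = 0

/-- The ideal of all `Kills` elements. -/
def killsIdeal (M : Type u) [AddCommGroup M] [Module R M] (t : ℕ) : Ideal R where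
  carrier := {c | Kills c M t}
  zero_mem' := fun J x i _ y => ⟨0, by rw [pow_zero, one_smul, zero_smul]⟩
  add_mem' := fun {c d} hc hd J x i h y => by
    obtain ⟨m, hm⟩ := hc J x i h y
    obtain ⟨n, hn⟩ := hd J x i h y
    refine ⟨m + n, ?_⟩
    rw [add_smul, smul_add]
    conv_lhs => arg 1; rw [add_comm m n, pow_add, mul_smul, hm, smul_zero]
    rw [pow_add, mul_smul, hn, smul_zero, add_zero]
  smul_mem' := fun r c hc J x i h y => by
    obtain ⟨m, hm⟩ := hc J x i h y
    exact ⟨m, by rw [smul_eq_mul, mul_smul, smul_comm (x ^ m) r, hm, smul_zero]⟩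

theorem hTors_pi {J : Ideal R} {x : R} {j : ℕ} (h : HTors J x j) (k : ℕ)
    (y : LocCoh.H J j (Fin k → R)) : ∃ m : ℕ, x ^ m • y = 0 := by
  classical
  choose m hm using fun l : Fin k => h (hmap J j (LinearMap.proj l) y)
  refine ⟨∑ l, m l, ?_⟩
  have key : ∀ t : Finset (Fin k), x ^ (∑ l, m l) • hmap J j
      (∑ l ∈ t, (LinearMap.single R (fun _ => R) l) ∘ₗ LinearMap.proj l) y = 0 := fun t => by
    induction t using Finset.induction_on with
    | empty =>
      rw [Finset.sum_empty, ← zero_smul R (LinearMap.id : (Fin k → R) →ₗ[R] _), hmap_smul, zero_smul,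
        LinearMap.zero_apply, smul_zero]
    | insert l t hl ih =>
      rw [Finset.sum_insert hl, hmap_add, LinearMap.add_apply, smul_add, ih, add_zero, hmap_comp,
        LinearMap.comp_apply, ← map_smul, ← Finset.sum_erase_add _ _ (Finset.mem_univ l), pow_add,
        mul_smul, hm, smul_zero, map_zero]
  have hsum : (∑ l, (LinearMap.single R (fun _ => R) l) ∘ₗ LinearMap.proj l) =
      (LinearMap.id : (Fin k → R) →ₗ[R] _) :=
    LinearMap.ext fun v => by
      simp only [LinearMap.sum_apply, LinearMap.comp_apply, LinearMap.proj_apply, LinearMap.single_apply,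
        LinearMap.id_apply]
      exact Finset.univ_sum_single v
  have := key Finset.univ
  rwa [hsum, hmap_id] at this

variable [IsNoetherianRing R]

/-- A finite module with projective dimension `< t` at `p` has a `Kills` element outside `p`. -/
theorem exists_kills_notMem (p : Ideal R) [p.IsPrime] : ∀ (t : ℕ) (M : Type u) [AddCommGroup M] [Module R M]
    [Module.Finite R M],
    HasProjectiveDimensionLT (ModuleCat.of (Localization.AtPrime p) (LocalizedModule p.primeCompl M)) t →
      ∃ c : R, c ∉ p ∧ Kills c M t := by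
  intro t
  induction t using Nat.strong_induction_on with
  | _ t ih =>
  intro M _ _ _ hM
  match t with
  | 0 =>
    have hsub : Subsingleton (LocalizedModule p.primeCompl M) :=
      (ModuleCat.isZero_of_iff_subsingleton (R := Localization.AtPrime p)).1
        ((hasProjectiveDimensionLT_zero_iff_isZero _).1 hM)
    have hnot : ¬ Module.annihilator R M ≤ p := fun hle =>
      not_subsingleton_iff_nontrivial.2
        ((Module.mem_support_iff_of_finite (R := R) (M := M) (p := ⟨p, inferInstance⟩)).2 hle) hsub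
    obtain ⟨c, hc, hcp⟩ := SetLike.not_le_iff_exists.1 hnot
    refine ⟨c, hcp, fun J x i _ y => ⟨0, ?_⟩⟩
    have h1 : hmap J i (c • (LinearMap.id : M →ₗ[R] M)) y = c • y := by rw [hmap_smul, hmap_id]; rfl
    rw [pow_zero, one_smul, ← h1, show c • (LinearMap.id : M →ₗ[R] M) = (0 : R) • LinearMap.id from
      LinearMap.ext fun m => by simp [Module.mem_annihilator.1 hc m], hmap_smul, zero_smul, LinearMap.zero_apply]
  | 1 =>
    have : Module.Projective (Localization.AtPrime p) (LocalizedModule p.primeCompl M) := by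
      rw [IsProjective.iff_projective, projective_iff_hasProjectiveDimensionLT_one]
      exact hM
    have : Module.Free (Localization.AtPrime p) (LocalizedModule p.primeCompl M) :=
      Module.free_of_flat_of_isLocalRing
    obtain ⟨k, φ, ψ, c, hc, hψ⟩ := exists_factor_free M p
    refine ⟨c, hc, fun J x i h y => ?_⟩
    obtain ⟨m, hm⟩ := hTors_pi (h i le_rfl (Nat.lt_succ_self i)) k (hmap J i φ y)
    refine ⟨m, ?_⟩
    have h1 : hmap J i (c • (LinearMap.id : M →ₗ[R] M)) y = c • y := by rw [hmap_smul, hmap_id]; rfl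
    rw [← h1, ← hψ, hmap_comp, LinearMap.comp_apply, ← map_smul, hm, map_zero]
  | t + 2 =>
    obtain ⟨k, K, π, _, hex, hπ⟩ := exists_free_presentation (R := R) M
    have hK := hasProjectiveDimensionLE_of_localized p K.injective_subtype hπ hex t hM
    obtain ⟨c, hc, hcK⟩ := ih (t + 1) (by omega) K hK
    refine ⟨c, hc, fun J x i h y => ?_⟩
    obtain ⟨m, hm⟩ := hcK J x (i + 1) (fun j h1 h2 => h j (by omega) (by omega))
      (δ J i (shortExact_mk K.subtype π K.injective_subtype hπ hex) y)
    obtain ⟨z, hz⟩ := (exact_map_δ J i (shortExact_mk K.subtype π K.injective_subtype hπ hex) (x ^ m • c • y)).1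
      (((map_smul _ (x ^ m) (c • y)).trans (congrArg (x ^ m • ·) (map_smul _ c y))).trans hm)
    obtain ⟨m', hm'⟩ := hTors_pi (h i le_rfl (by omega)) k z
    refine ⟨m' + m, ?_⟩
    rw [pow_add, mul_smul]
    refine (congrArg (x ^ m' • ·) hz.symm).trans ?_
    exact (map_smul _ _ _).symm.trans ((congrArg _ hm').trans (map_zero _))

theorem exists_smul_eq_zero_of_hmap_eq_zero (S : Submonoid R) {M M' : Type u} [AddCommGroup M] [Module R M]
    [AddCommGroup M'] [Module R M'] (φ : M →ₗ[R] M') [IsLocalizedModule S φ] (I : Ideal R) (i : ℕ)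
    (y : LocCoh.H I i M) (h : hmap I i φ y = 0) : ∃ s ∈ S, s • y = 0 := by
  obtain ⟨n, z, rfl⟩ := exists_ι I i _ y
  obtain ⟨m, hnm, h1⟩ := (ι_eq_zero_iff I i _ _).1 ((map_ι I i _ n z).symm.trans h)
  rw [← Abelian.Ext.comp_assoc_of_third_deg_zero] at h1
  obtain ⟨s, hs, h2⟩ := (ext_localization S φ i (R ⧸ I ^ m)).1 _ h1
  refine ⟨s, hs, ?_⟩
  rw [← ι_proj I i _ hnm, ← map_smul, h2, map_zero]

theorem hTors_of_height [IsRegularRing R] (J : Ideal R) (x : R) (j : ℕ)
    (h : ∀ q : PrimeSpectrum R, J ≤ q.asIdeal → x ∉ q.asIdeal → (j : ℕ∞) < q.asIdeal.height) :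
    HTors J x j := by
  intro y
  let A : Ideal R := LinearMap.ker (LinearMap.toSpanSingleton R (LocCoh.H J j R) y)
  suffices hx : x ∈ A.radical by
    obtain ⟨m, hm⟩ := hx
    exact ⟨m, hm⟩
  rw [Ideal.radical_eq_sInf]
  refine Ideal.mem_sInf.2 fun {Q} ⟨hAQ, hQ⟩ => by_contra fun hxQ => ?_
  let L := Localization.AtPrime Q
  haveI : LocCoh.IsCohenMacaulayLocalRing L := DepthLib.isCohenMacaulayLocalRing_of_isRegularLocalRing
  have hdep : ((j + 1 : ℕ) : ℕ∞) ≤ LocCoh.idealDepth (J.map (algebraMap R L)) L := by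
    by_cases htop : J.map (algebraMap R L) = ⊤
    · rw [DepthLib.idealDepth_of_smul_top_eq_top (by rw [htop, Submodule.top_smul])]
      exact le_top
    rw [GorenLib.idealDepth_eq_height _ htop, Ideal.height_eq_inf_minimalPrimes]
    refine le_iInf₂ fun P hP => ?_
    haveI := hP.1.1
    rw [← IsLocalization.height_comap Q.primeCompl P]
    rw [Nat.cast_succ]
    refine Order.add_one_le_of_lt (h ⟨P.comap (algebraMap R L), inferInstance⟩ (Ideal.map_le_iff_le_comap.1 hP.1.2)
      fun hxP => hxQ ?_)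
    exact ((Ideal.comap_mono (le_maximalIdeal hP.1.1.ne_top)).trans Localization.AtPrime.under_maximalIdeal.le) hxP
  have hz : Subsingleton (LocCoh.H J j L) := (subsingleton_restrictScalars_iff L J L j).1
    ((vanishing_below_iff (I := J.map (algebraMap R L)) (ModuleCat.of L L) (j + 1)).2
      (fun N _ _ _ hN l hl => DepthLib.subsingleton_ext_of_le_idealDepth hdep (ModuleCat.of L N) hN hl)
      j j.lt_succ_self)
  obtain ⟨u, hu, huy⟩ := exists_smul_eq_zero_of_hmap_eq_zero Q.primeCompl (Algebra.linearMap R L) J j y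
    (hz.elim _ _)
  exact hu (hAQ (LinearMap.mem_ker.2 huy))

omit [IsNoetherianRing R] in
theorem height_add_quotient_le (p q : PrimeSpectrum R) (hpq : p ≤ q) :
    p.asIdeal.height + (q.asIdeal.map (Ideal.Quotient.mk p.asIdeal)).height ≤ q.asIdeal.height := by
  let π := Ideal.Quotient.mk p.asIdeal
  let Q : PrimeSpectrum (R ⧸ p.asIdeal) :=
    ⟨_, Ideal.map_isPrime_of_surjective (f := π) (I := q.asIdeal) Ideal.Quotient.mk_surjective (Ideal.mk_ker.trans_le hpq)⟩
  have hQ : PrimeSpectrum.comap π Q = q := by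
    refine PrimeSpectrum.ext ?_
    show (q.asIdeal.map π).comap π = q.asIdeal
    rw [Ideal.comap_map_of_surjective π Ideal.Quotient.mk_surjective, ← RingHom.ker_eq_comap_bot,
      Ideal.mk_ker, sup_of_le_left (show p.asIdeal ≤ q.asIdeal from hpq)]
  have hmono : StrictMono (PrimeSpectrum.comap π) := fun a b hab =>
    lt_of_le_of_ne (Ideal.comap_mono hab.le) fun e =>
      hab.ne (PrimeSpectrum.comap_injective_of_surjective π Ideal.Quotient.mk_surjective e)
  have key : ∀ n : ℕ, ∀ x : PrimeSpectrum (R ⧸ p.asIdeal), (n : ℕ∞) ≤ Order.height x →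
      Order.height p + n ≤ Order.height (PrimeSpectrum.comap π x) := by
    intro n
    induction n with
    | zero =>
      intro x _
      rw [Nat.cast_zero, add_zero]
      exact Order.height_mono fun z hz => show π z ∈ x.asIdeal by
        rw [Ideal.Quotient.eq_zero_iff_mem.2 hz]; exact zero_mem _
    | succ n ih =>
      intro x hx
      obtain ⟨l, hl, hn⟩ := Order.exists_series_of_le_height x hx
      have hlt : l ⟨n, by omega⟩ < x := hl ▸ l.strictMono (show (⟨n, _⟩ : Fin (l.length + 1)) < Fin.last _ from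
        Fin.mk_lt_mk.2 (by omega))
      have h1 : (n : ℕ∞) ≤ Order.height (l ⟨n, by omega⟩) := Order.index_le_height l ⟨n, by omega⟩
      rw [Nat.cast_succ, ← add_assoc]
      exact (add_le_add_left (ih _ h1) 1).trans (Order.height_add_one_le (hmono hlt))
  rw [show p.asIdeal.height = Order.height p from PrimeSpectrum.height_eq_orderHeight p,
    show q.asIdeal.height = Order.height q from PrimeSpectrum.height_eq_orderHeight q,
    show (q.asIdeal.map π).height = Order.height Q from PrimeSpectrum.height_eq_orderHeight Q, ← hQ]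
  cases hx : Order.height Q with
  | top =>
    exact le_top.trans (top_le_iff.2 (ENat.eq_top_iff_forall_ge.2 fun n =>
      le_add_self.trans (key n Q (by rw [hx]; exact le_top)))).ge
  | coe n => exact key n Q hx.ge

section Main

variable (M : Type u) [AddCommGroup M] [Module R M] (s : R)

/-- A power of `s` kills `H^i_J(M)`. -/
def Good (i : ℕ) (J : Ideal R) : Prop := ∃ n : ℕ, ∀ y : LocCoh.H J i M, s ^ n • y = 0

/-- The saturation of `killsIdeal` by `s`. -/
def satKills (t : ℕ) : Ideal R where
  carrier := {c | ∃ N : ℕ, s ^ N * c ∈ killsIdeal M t}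
  zero_mem' := ⟨0, by rw [mul_zero]; exact zero_mem _⟩
  add_mem' := fun {c d} ⟨m, hm⟩ ⟨n, hn⟩ => ⟨m + n, by
    have : s ^ (m + n) * (c + d) = s ^ n * (s ^ m * c) + s ^ m * (s ^ n * d) := by ring
    rw [this]
    exact add_mem (Ideal.mul_mem_left _ _ hm) (Ideal.mul_mem_left _ _ hn)⟩
  smul_mem' := fun r c ⟨m, hm⟩ => ⟨m, by
    rw [smul_eq_mul, mul_left_comm]
    exact Ideal.mul_mem_left _ _ hm⟩

variable [Module.Finite R M] {M s}

theorem good_of_good_sup {i : ℕ} {J₀ : Ideal R} (c : Finset R)
    (hstep : ∀ x ∈ c, ∀ J, J₀ ≤ J → Good M s i (J ⊔ Ideal.span {x}) → Good M s i J) :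
    ∀ J, J₀ ≤ J → Good M s i (J ⊔ Ideal.span (c : Set R)) → Good M s i J := by
  classical
  induction c using Finset.induction_on with
  | empty => intro J _ h; rwa [Finset.coe_empty, Ideal.span_empty, sup_bot_eq] at h
  | insert x c _ ih =>
    intro J hJ h
    rw [Finset.coe_insert, Ideal.span_insert, ← sup_assoc] at h
    exact hstep x (Finset.mem_insert_self _ _) J hJ
      (ih (fun z hz => hstep z (Finset.mem_insert_of_mem hz)) _ (hJ.trans le_sup_left) h)

theorem lt_height_of_satKills_le [IsRegularRing R] {a : Ideal R} {i : ℕ}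
    (h : ∀ p : PrimeSpectrum R, s ∉ p.asIdeal → (i : ℕ∞) < LocCoh.adjDepth a M p)
    (q : PrimeSpectrum R) (l : ℕ) (haq : a ≤ q.asIdeal) (hlq : satKills M s l ≤ q.asIdeal) :
    ((i + l : ℕ) : ℕ∞) < q.asIdeal.height := by
  have hdisj : Disjoint ((killsIdeal (R := R) M l : Ideal R) : Set R) ↑(Submonoid.powers s ⊔ q.asIdeal.primeCompl) := by
    rw [Set.disjoint_left]
    intro c hc hcT
    obtain ⟨_, ⟨N, rfl⟩, u, hu, rfl⟩ := Submonoid.mem_sup.1 hcT
    exact hu (hlq ⟨N, hc⟩)
  obtain ⟨P, hP, hle, hPT⟩ := Ideal.exists_le_prime_disjoint _ _ hdisj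
  let p : PrimeSpectrum R := ⟨P, hP⟩
  have hsp : s ∉ P := fun hsP => Set.disjoint_left.1 hPT hsP
    ((le_sup_left : Submonoid.powers s ≤ _) (Submonoid.mem_powers s))
  have hpq : p ≤ q := fun u hu => by_contra fun huq => Set.disjoint_left.1 hPT hu
    ((le_sup_right : q.asIdeal.primeCompl ≤ Submonoid.powers s ⊔ _) huq)
  have hnpd : ¬ HasProjectiveDimensionLT
      (ModuleCat.of (Localization.AtPrime P) (LocalizedModule P.primeCompl M)) l := fun hpd => by
    obtain ⟨c, hc, hcK⟩ := exists_kills_notMem P l M hpd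
    exact hc (hle hcK)
  obtain ⟨d, hd⟩ := ENat.ne_top_iff_exists.1 (Ideal.height_lt_top hP.ne_top).ne
  obtain ⟨e, he, hel⟩ := exists_depth_add_le_dim d
    (by rw [IsLocalization.AtPrime.ringKrullDim_eq_height P, ← hd]; rfl) (LocalizedModule P.primeCompl M) l hnpd
  have h1 : (i : ℕ∞) < (e : ℕ∞) + (q.asIdeal.map (Ideal.Quotient.mk P)).height :=
    (h p hsp).trans_le (add_le_add he.le (Ideal.height_mono (Ideal.map_mono (sup_le haq hpq))))
  refine lt_of_lt_of_le ?_ (height_add_quotient_le p q hpq)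
  show _ < P.height + _
  rw [← hd]
  cases hh : (q.asIdeal.map (Ideal.Quotient.mk P)).height with
  | top => rw [add_top]; exact ENat.coe_lt_top _
  | coe r =>
    rw [hh] at h1
    norm_cast at h1 ⊢
    omega

/-- **Faltings' annihilator theorem**, for one element and one degree. -/
theorem exists_pow_smul_H_eq_zero [IsRegularRing R] (a : Ideal R) (M : Type u) [AddCommGroup M] [Module R M]
    [Module.Finite R M] (s : R) (i : ℕ)
    (h : ∀ p : PrimeSpectrum R, s ∉ p.asIdeal → (i : ℕ∞) < LocCoh.adjDepth a M p) :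
    ∃ n : ℕ, ∀ y : LocCoh.H a i M, s ^ n • y = 0 := by
  let J : ℕ → Ideal R := fun t => Nat.rec a (fun l Jl => Jl ⊔ satKills M s l) t
  have hJ : Monotone J := monotone_nat_of_le_succ fun t => le_sup_left
  have hsat : ∀ t l, l < t → satKills M s l ≤ J t := fun t l hlt =>
    (le_sup_right : satKills M s l ≤ J (l + 1)).trans (hJ hlt)
  -- the ideals reach the unit ideal
  obtain ⟨T, hT⟩ := monotone_stabilizes_iff_noetherian.2 (inferInstance : IsNoetherian R R) ⟨J, hJ⟩
  have htop : J T = ⊤ := by
    by_contra hne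
    obtain ⟨q, hq, hle⟩ := Ideal.exists_le_maximal _ hne
    have haq : a ≤ q := (show J 0 ≤ J T from hJ (Nat.zero_le T)).trans hle
    obtain ⟨d, hd⟩ := ENat.ne_top_iff_exists.1 (Ideal.height_lt_top hq.ne_top).ne
    have hl : satKills M s d ≤ q := by
      refine (hsat (max T (d + 1)) d (by omega)).trans ?_
      rw [show J (max T (d + 1)) = J T from (hT _ (le_max_left _ _)).symm]
      exact hle
    have := lt_height_of_satKills_le h ⟨q, hq.isPrime⟩ d haq hl
    rw [← hd] at this
    norm_cast at this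
    omega
  -- one step
  have hstep : ∀ t, Good M s i (J (t + 1)) → Good M s i (J t) := by
    intro t hgood
    obtain ⟨c, hc⟩ := (IsNoetherian.noetherian (satKills M s t) : (satKills M s t).FG)
    refine good_of_good_sup c ?_ (J t) le_rfl (by
      have : Ideal.span (c : Set R) = satKills M s t := hc
      rw [this]; exact hgood)
    intro x hx K hK ⟨n, hn⟩
    obtain ⟨N, hN⟩ : x ∈ satKills M s t := hc ▸ Submodule.subset_span hx
    refine ⟨n + N, fun y => ?_⟩
    have htors : ∀ j, i ≤ j → j < i + t → HTors K x j := fun j _ hj => hTors_of_height K x j fun q hq _ => by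
      obtain ⟨l, rfl⟩ : ∃ l, t = l + 1 := ⟨t - 1, by omega⟩
      exact lt_of_le_of_lt (by exact_mod_cast (show j ≤ i + l by omega))
        (lt_height_of_satKills_le h q l (((show J 0 ≤ J (l + 1) from hJ (Nat.zero_le (l + 1))).trans hK).trans hq)
          (((hsat (l + 1) l l.lt_succ_self).trans hK).trans hq))
    obtain ⟨m, hm⟩ := hN K x i htors y
    obtain ⟨w, hw⟩ := (mem_range_cmpLE_iff K x M i (s ^ N • y)).2
      ⟨m + 1, by rw [smul_smul] at hm ⊢; rw [← hm]; congr 1; ring⟩
    rw [pow_add, mul_smul, ← hw, ← map_smul, hn, map_zero]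
  have hGood : ∀ r, r ≤ T → Good M s i (J (T - r)) := by
    intro r
    induction r with
    | zero =>
      intro _
      refine ⟨0, fun y => ?_⟩
      have := subsingleton_of_smul_bijective (I := J T) (b := 1) (htop ▸ Submodule.mem_top) M
        (by simp only [one_smul]; exact Function.bijective_id) i
      exact this.elim _ _
    | succ r ih =>
      intro hr
      refine hstep _ ?_
      rw [show T - (r + 1) + 1 = T - r by omega]
      exact ih (by omega)
  have := hGood T le_rfl
  rwa [Nat.sub_self] at this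

end Main

end Groth.Agent.LocCohLib
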