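import Mathlib.CategoryTheory.Abelian.RightDerived
import Mathlib.Algebra.Category.ModuleCat.Abelian
import Mathlib.Algebra.Category.ModuleCat.EnoughInjectives

/-!
# Recognising a right derived functor from a natural map on cocycles
-/

universe u

open CategoryTheory Limits

noncomputable section

namespace Groth.Agent.LocCohLib

variable {R : Type u} [CommRing R]

/-- `F` applied to an injective resolution. -/
abbrev derCx (F : ModuleCat.{u} R ⥤ ModuleCat.{u} R) [F.Additive] {Y : ModuleCat.{u} R}
    (P : InjectiveResolution Y) : CochainComplex (ModuleCat.{u} R) ℕ :=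
  (F.mapHomologicalComplex (ComplexShape.up ℕ)).obj P.cocomplex

/-- A natural map on cocycles, surjective and killing exactly the coboundaries, computes the right
derived functor. -/
theorem nonempty_rightDerived_iso (F G : ModuleCat.{u} R ⥤ ModuleCat.{u} R) [F.Additive] (i : ℕ)
    (Φ : ∀ (Y : ModuleCat.{u} R) (P : InjectiveResolution Y), (derCx F P).cycles i ⟶ G.obj Y)
    (hsurj : ∀ (Y : ModuleCat.{u} R) (P : InjectiveResolution Y), Function.Surjective (Φ Y P).hom)
    (hzero : ∀ (Y : ModuleCat.{u} R) (P : InjectiveResolution Y)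
      (w : (derCx F P).X ((ComplexShape.up ℕ).prev i)),
      (Φ Y P).hom (((derCx F P).toCycles ((ComplexShape.up ℕ).prev i) i).hom w) = 0)
    (hker : ∀ (Y : ModuleCat.{u} R) (P : InjectiveResolution Y) (z : (derCx F P).cycles i),
      (Φ Y P).hom z = 0 → ∃ w, ((derCx F P).toCycles ((ComplexShape.up ℕ).prev i) i).hom w = z)
    (hnat : ∀ (Y Y' : ModuleCat.{u} R) (f : Y ⟶ Y') (P : InjectiveResolution Y)
      (P' : InjectiveResolution Y') (φ : InjectiveResolution.Hom P P' f),
      HomologicalComplex.cyclesMap ((F.mapHomologicalComplex (ComplexShape.up ℕ)).map φ.hom) i ≫ Φ Y' P' =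
        Φ Y P ≫ G.map f) :
    Nonempty (F.rightDerived i ≅ G) := by
  let h : ∀ (Y : ModuleCat.{u} R) (P : InjectiveResolution Y), (derCx F P).homology i ⟶ G.obj Y :=
    fun Y P => ((derCx F P).homologyIsCokernel ((ComplexShape.up ℕ).prev i) i rfl).desc
      (CokernelCofork.ofπ (Φ Y P) (ModuleCat.hom_ext (LinearMap.ext fun w => hzero Y P w)))
  have hπ : ∀ (Y : ModuleCat.{u} R) (P : InjectiveResolution Y),
      (derCx F P).homologyπ i ≫ h Y P = Φ Y P := fun Y P =>
    Cofork.IsColimit.π_desc ((derCx F P).homologyIsCokernel ((ComplexShape.up ℕ).prev i) i rfl)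
  have hbij : ∀ Y P, Function.Bijective (h Y P).hom := by
    intro Y P
    refine ⟨?_, fun x => ?_⟩
    · rw [injective_iff_map_eq_zero]
      intro z hz
      obtain ⟨y, rfl⟩ := (ModuleCat.epi_iff_surjective ((derCx F P).homologyπ i)).1 inferInstance z
      obtain ⟨w, rfl⟩ := hker Y P y
        ((LinearMap.congr_fun (congrArg ModuleCat.Hom.hom (hπ Y P)) y).symm.trans hz)
      exact LinearMap.congr_fun (congrArg ModuleCat.Hom.hom
        ((derCx F P).toCycles_comp_homologyπ ((ComplexShape.up ℕ).prev i) i)) w
    · obtain ⟨y, rfl⟩ := hsurj Y P x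
      exact ⟨((derCx F P).homologyπ i).hom y,
        LinearMap.congr_fun (congrArg ModuleCat.Hom.hom (hπ Y P)) y⟩
  have hiso : ∀ Y P, IsIso (h Y P) := fun Y P =>
    (LinearEquiv.ofBijective (h Y P).hom (hbij Y P)).toModuleIso.isIso_hom
  refine ⟨NatIso.ofComponents (fun Y => (injectiveResolution Y).isoRightDerivedObj F i ≪≫
    @asIso _ _ _ _ (h Y (injectiveResolution Y)) (hiso Y _)) fun {Y Y'} f => ?_⟩
  let φ : InjectiveResolution.Hom (injectiveResolution Y) (injectiveResolution Y') f :=
    { hom := InjectiveResolution.desc f _ _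
      ι_f_zero_comp_hom_f_zero := (InjectiveResolution.desc_commutes_zero f _ _).trans (by simp) }
  simp only [Iso.trans_hom, asIso_hom, Category.assoc]
  rw [InjectiveResolution.isoRightDerivedObj_hom_naturality_assoc f (injectiveResolution Y)
    (injectiveResolution Y') φ.hom (by simpa using φ.ι_f_zero_comp_hom_f_zero) F i]
  congr 1
  change HomologicalComplex.homologyMap ((F.mapHomologicalComplex _).map φ.hom) i ≫
      h Y' (injectiveResolution Y') = h Y (injectiveResolution Y) ≫ G.map f
  rw [← cancel_epi ((derCx F (injectiveResolution Y)).homologyπ i), ← Category.assoc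
    ((derCx F (injectiveResolution Y)).homologyπ i) (h Y _) (G.map f), hπ, ← hnat _ _ f _ _ φ,
    HomologicalComplex.homologyπ_naturality_assoc, hπ]

end Groth.Agent.LocCohLib
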