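import Groth.Agent.Lib.CanElt.AB
import Groth.Agent.Lib.FlatDepth.Fibre
import Groth.Agent.Lib.RegLoc.GlobalDim
import Groth.Agent.Lib.RegLoc.Sop

/-!
# `depth + projective dimension ≤ depth of the ring`
-/

set_option autoImplicit false
universe u

open IsLocalRing CategoryTheory Pointwise Groth.Agent.RegLoc

noncomputable section

namespace Groth.Agent.LocCohLib

theorem exists_common_regular {A : Type u} [CommRing A] [IsNoetherianRing A] [IsLocalRing A]
    (N : Type u) [AddCommGroup N] [Module A N] [Module.Finite A N] [Nontrivial N]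
    (hN : 1 ≤ LocCoh.depth A N) (hA : 1 ≤ LocCoh.depth A A) :
    ∃ y ∈ maximalIdeal A, IsSMulRegular N y ∧ IsSMulRegular A y := by
  by_contra! hex
  have hfin := (associatedPrimes.finite A N).union (associatedPrimes.finite A A)
  have hsub : (maximalIdeal A : Set A) ⊆ ⋃ q ∈ (hfin.toFinset : Set (Ideal A)), (q : Set A) := by
    intro y hy
    rw [Set.Finite.coe_toFinset, Set.biUnion_union, biUnion_associatedPrimes_eq_compl_regular,
      biUnion_associatedPrimes_eq_compl_regular]
    by_cases h : IsSMulRegular N y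
    · exact Or.inr (hex y hy h)
    · exact Or.inl h
  obtain ⟨q, hq, hle⟩ := (Ideal.subset_union_prime (f := id) (⊥ : Ideal A) ⊥
    (fun q hq _ _ => (hfin.mem_toFinset.1 hq).elim IsAssociatedPrime.isPrime IsAssociatedPrime.isPrime)).1
    (by simpa using hsub)
  have key : ∀ (X : Type u) [AddCommGroup X] [Module A X] [Module.Finite A X] [Nontrivial X],
      q ∈ associatedPrimes A X → 1 ≤ LocCoh.depth A X → False := by
    intro X _ _ _ _ h h1
    obtain ⟨x, hx, hreg⟩ := DepthLib.exists_isSMulRegular_of_one_le_idealDepth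
      (DepthLib.smul_top_ne_top (M := X) (maximalIdeal.isMaximal A).ne_top) h1
    have hxU : x ∈ ⋃ P ∈ associatedPrimes A X, (P : Set A) :=
      Set.mem_iUnion₂.2 ⟨q, h, hle hx⟩
    rw [biUnion_associatedPrimes_eq_compl_regular] at hxU
    exact hxU hreg
  rcases hfin.mem_toFinset.1 hq with h | h
  · exact key N h hN
  · exact key A h hA

/-- The Auslander–Buchsbaum inequality. -/
theorem exists_pd_sub_depth : ∀ (e : ℕ) (A : Type u) [CommRing A] [IsNoetherianRing A] [IsLocalRing A]
    (N : Type u) [AddCommGroup N] [Module A N] [Module.Finite A N] [Nontrivial N],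
    (∃ n, PD A N n) → LocCoh.depth A N = e →
      ∃ t : ℕ, LocCoh.depth A A = t ∧ e ≤ t ∧ PD A N (t - e) := by
  intro e
  induction e with
  | zero =>
    intro A _ _ _ N _ _ _ _ hN _
    obtain ⟨t, ht⟩ := DepthLib.exists_depth_eq_natCast (R := A) (M := A)
    exact ⟨t, ht, Nat.zero_le _, CanElt.pd_le_depth t A ht N hN⟩
  | succ e ih =>
    intro A _ _ _ N _ _ _ _ hN he
    have h1 : 1 ≤ LocCoh.depth A N := by rw [he]; exact_mod_cast Nat.succ_pos e
    obtain ⟨x, hx, hreg⟩ := DepthLib.exists_isSMulRegular_of_one_le_idealDepth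
      (DepthLib.smul_top_ne_top (M := N) (maximalIdeal.isMaximal A).ne_top) h1
    obtain ⟨t, ht, -⟩ := CanElt.pd_lt_depth_of_regular N hN hx hreg
    obtain ⟨y, hy, hyN, hyA⟩ := exists_common_regular N h1 (by rw [ht]; exact_mod_cast Nat.succ_pos t)
    haveI := GorenLib.isLocalRing_quotient hy
    haveI : Module.Finite (A ⧸ Ideal.span {y}) (QuotSMulTop y N) :=
      Module.Finite.of_restrictScalars_finite A _ _
    haveI : Nontrivial (QuotSMulTop y N) :=
      Submodule.Quotient.nontrivial_iff.2 (by
        rw [← Submodule.ideal_span_singleton_smul]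
        exact DepthLib.smul_top_ne_top (ne_top_of_le_ne_top (maximalIdeal.isMaximal A).ne_top
          ((Ideal.span_singleton_le_iff_mem _).2 hy)))
    have hd : LocCoh.depth (A ⧸ Ideal.span {y}) (QuotSMulTop y N) = e := by
      rw [← FlatDepth.depth_eq_of_surjective (A := A) (QuotSMulTop y N) Ideal.Quotient.mk_surjective]
      have e1 := DepthLib.idealDepth_quotSMulTop_add_one (M := N) hy hyN
      rw [← LocCoh.depth, ← LocCoh.depth, he, Nat.cast_succ] at e1
      exact (ENat.add_left_injective_of_ne_top ENat.one_ne_top) e1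
    obtain ⟨n, hn⟩ := hN
    obtain ⟨t', ht', het, hpd⟩ := ih (A ⧸ Ideal.span {y}) (QuotSMulTop y N)
      ⟨n, (pd_quotSMulTop_iff hy hyA _ hyN).mp hn⟩ hd
    have e2 := GorenLib.depth_quotient_add_one hy hyA
    rw [ht', ht] at e2
    have : t' = t := by exact_mod_cast (ENat.add_left_injective_of_ne_top ENat.one_ne_top) (e2.trans (Nat.cast_succ t))
    subst this
    refine ⟨t' + 1, ht, by omega, ?_⟩
    rw [show t' + 1 - (e + 1) = t' - e by omega]
    exact (pd_quotSMulTop_iff hy hyA _ hyN).mpr hpd

/-- Over a regular local ring a module whose projective dimension is not `< t` has depth at most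
`dim - t`. -/
theorem exists_depth_add_le_dim {A : Type u} [CommRing A] [IsRegularLocalRing A] (d : ℕ)
    (hd : ringKrullDim A = d) (N : Type u) [AddCommGroup N] [Module A N] [Module.Finite A N] (t : ℕ)
    (hN : ¬ HasProjectiveDimensionLT (ModuleCat.of A N) t) :
    ∃ e : ℕ, LocCoh.depth A N = e ∧ e + t ≤ d := by
  haveI : Nontrivial N := by
    refine not_subsingleton_iff_nontrivial.1 fun h => hN ?_
    haveI : HasProjectiveDimensionLT (ModuleCat.of A N) 0 :=
      ((ModuleCat.isZero_of_iff_subsingleton (R := A)).2 h).hasProjectiveDimensionLT_zero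
    exact hasProjectiveDimensionLT_of_ge _ 0 t (Nat.zero_le t)
  obtain ⟨e, he⟩ := DepthLib.exists_depth_eq_natCast (R := A) (M := N)
  obtain ⟨t', ht', hle, hpd⟩ := exists_pd_sub_depth e A N
    ⟨d, RegLoc.hasProjectiveDimensionLT_of_regular (RegLoc.spanFinrank_eq_of_dim hd) _⟩ he
  have htd : t' = d := by
    have h := (DepthLib.isCohenMacaulayLocalRing_of_isRegularLocalRing (R := A)).supportDim_eq_depth
    rw [Module.supportDim_self_eq_ringKrullDim, hd, ht'] at h
    exact_mod_cast h.symm
  subst htd
  refine ⟨e, he, ?_⟩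
  by_contra hlt
  have : HasProjectiveDimensionLT (ModuleCat.of A N) (t' - e + 1) := hpd
  exact hN (hasProjectiveDimensionLT_of_ge _ (t' - e + 1) t (by omega))

end Groth.Agent.LocCohLib
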