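import Groth.Agent.Lib.LocCoh.ExtVanish27
import Mathlib.LinearAlgebra.Pi

/-!
Splitting criterion for cohomological dimension one.
-/

set_option autoImplicit false

universe u

open CategoryTheory

noncomputable section

namespace Groth.Agent.LocCohLib

variable {A : Type u} [CommRing A]

/-- `0 → J → A → A/J → 0`. -/
def idealSES (J : Ideal A) : ShortComplex (ModuleCat.{u} A) :=
  ShortComplex.moduleCatMk J.subtype (Submodule.mkQ J) (LinearMap.ext fun x => (Submodule.Quotient.mk_eq_zero _).2 x.2)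

theorem idealSES_shortExact (J : Ideal A) : (idealSES J).ShortExact where
  exact := (ShortComplex.ShortExact.moduleCat_exact_iff_function_exact _).2 (LinearMap.exact_subtype_mkQ J)
  mono_f := (ModuleCat.mono_iff_injective _).2 J.injective_subtype
  epi_g := (ModuleCat.epi_iff_surjective _).2 J.mkQ_surjective

theorem exists_splitting {r : ℕ} (f : Fin r → A) (h₁ : LocCoh.CdLE A (Ideal.span (Set.range f)) 1) :
    ∃ (c : ℕ) (φ : Fin r → (↥(Ideal.span (Set.range f) ^ (c + 1)) →ₗ[A] A)),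
      ∀ x : ↥(Ideal.span (Set.range f) ^ (c + 1)), (x : A) = ∑ j, f j * φ j x := by
  classical
  set I := Ideal.span (Set.range f) with hI
  let p : (Fin r → A) →ₗ[A] ↥(I ^ 1) := LinearMap.codRestrict (I ^ 1) (Fintype.linearCombination A f) fun c => by
    rw [pow_one, hI, Fintype.linearCombination_apply]
    exact Submodule.sum_mem _ fun i _ => Ideal.mul_mem_left _ _ (Ideal.subset_span ⟨i, rfl⟩)
  have hp : Function.Surjective p := fun y => by
    obtain ⟨y, hy⟩ := y
    obtain ⟨c, hc⟩ := (Ideal.mem_span_range_iff_exists_fun).1 (by rwa [pow_one, hI] at hy)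
    exact ⟨c, Subtype.ext (by simpa [p, Fintype.linearCombination_apply] using hc)⟩
  let T : ShortComplex (ModuleCat.{u} A) :=
    ShortComplex.moduleCatMk (LinearMap.ker p).subtype p (LinearMap.ext fun x => x.2)
  have hT : T.ShortExact :=
    { exact := (ShortComplex.ShortExact.moduleCat_exact_iff_function_exact _).2 (LinearMap.exact_subtype_ker_map p)
      mono_f := (ModuleCat.mono_iff_injective _).2 (LinearMap.ker p).injective_subtype
      epi_g := (ModuleCat.epi_iff_surjective _).2 hp }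
  let S₁ := idealSES (I ^ 1)
  have hS₁ : S₁.ShortExact := idealSES_shortExact _
  let η : Abelian.Ext (Q I 1) T.X₁ 2 := hS₁.extClass.comp hT.extClass (rfl : 1 + 1 = 2)
  obtain ⟨m, hm, h0⟩ := exists_proj_comp_eq_zero h₁ 1
  obtain ⟨c, rfl⟩ : ∃ c, m = c + 1 := ⟨m - 1, by omega⟩
  let Sm := idealSES (I ^ (c + 1))
  have hSm : Sm.ShortExact := idealSES_shortExact _
  let σ : Sm ⟶ S₁ := ShortComplex.homMk (ModuleCat.ofHom (Submodule.inclusion (Ideal.pow_le_pow_right hm.le)))
    (𝟙 _) (proj I hm.le) rfl rfl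
  have e0 : hSm.extClass.comp ((Abelian.Ext.mk₀ σ.τ₁).comp hT.extClass (zero_add 1)) (rfl : 1 + 1 = 2) = 0 := by
    have hnat := ShortComplex.ShortExact.extClass_naturality hSm hS₁ σ
    rw [← Abelian.Ext.comp_assoc_of_second_deg_zero, hnat,
      Abelian.Ext.comp_assoc (h₁₂ := zero_add 1) (h₂₃ := (rfl : 1 + 1 = 2)) (h := rfl)]
    exact h0 2 (by omega) T.X₁ η
  haveI : Projective Sm.X₂ := inferInstanceAs (Projective (ModuleCat.of A A))
  obtain ⟨y, hy⟩ := Abelian.Ext.contravariant_sequence_exact₁ hSm T.X₁ _ (hn₁ := (rfl : 1 + 1 = 2)) e0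
  rw [Abelian.Ext.eq_zero_of_projective y, Abelian.Ext.comp_zero] at hy
  obtain ⟨ψ, hψ⟩ := Abelian.Ext.covariant_sequence_exact₃ Sm.X₁ hT (Abelian.Ext.mk₀ σ.τ₁) (zero_add 1) hy.symm
  let g : ↥(I ^ (c + 1)) →ₗ[A] (Fin r → A) := (Abelian.Ext.homEquiv₀ ψ).hom
  have hg : ∀ x, p (g x) = Submodule.inclusion (Ideal.pow_le_pow_right hm.le) x := fun x => by
    rw [← Abelian.Ext.mk₀_homEquiv₀_apply ψ, Abelian.Ext.mk₀_comp_mk₀] at hψ
    exact LinearMap.congr_fun (congrArg ModuleCat.Hom.hom ((Abelian.Ext.mk₀_bijective _ _).1 hψ)) x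
  refine ⟨c, fun j => (LinearMap.proj j).comp g, fun x => ?_⟩
  have h2 := congrArg Subtype.val (hg x)
  rw [Submodule.coe_inclusion, LinearMap.codRestrict_apply, Fintype.linearCombination_apply] at h2
  rw [← h2]
  exact Finset.sum_congr rfl fun j _ => mul_comm _ _

end Groth.Agent.LocCohLib
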