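import Groth.Agent.Lib.LocCoh.ChainShift27

/-!
# Reduction to codimension one
-/

set_option autoImplicit false

universe u

open CategoryTheory IsLocalRing

noncomputable section

namespace Groth.Agent.LocCohLib

variable {A : Type u} [CommRing A] (I : Ideal A)

theorem one_le_relCodim {p : PrimeSpectrum A} (hp : ¬ I ≤ p.asIdeal) : 1 ≤ SGA2.relCodim I p := by
  refine le_iInf fun q => ?_
  have hlt : (⟨p, Set.self_mem_Ici⟩ : Set.Ici p) < ⟨q.1, q.2.1⟩ := lt_of_le_of_ne q.2.1 fun h => hp (by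
    have : p = q.1 := congrArg Subtype.val h
    rw [this]; exact q.2.2)
  exact le_add_self.trans (Order.height_add_one_le hlt)

theorem exists_codim_one {p : PrimeSpectrum A} (hp : ¬ I ≤ p.asIdeal) {c : ℕ} (hc : SGA2.relCodim I p = c) :
    ∃ (p' : PrimeSpectrum A) (hpp' : p ≤ p') (c' : ℕ), c = c' + 1 ∧ Order.height (⟨p', hpp'⟩ : Set.Ici p) = c' ∧
      ¬ I ≤ p'.asIdeal ∧ SGA2.relCodim I p' = 1 := by
  have hne : Nonempty {q : PrimeSpectrum A // p ≤ q ∧ I ≤ q.asIdeal} := by
    by_contra h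
    rw [not_nonempty_iff] at h
    exact ENat.natCast_ne_top c (hc.symm.trans (by rw [SGA2.relCodim, iInf_of_empty]))
  obtain ⟨q, hq⟩ := ENat.exists_eq_iInf (fun q : {q : PrimeSpectrum A // p ≤ q ∧ I ≤ q.asIdeal} =>
    Order.height (⟨q.1, q.2.1⟩ : Set.Ici p))
  rw [← SGA2.relCodim, hc] at hq
  obtain ⟨c', rfl⟩ : ∃ c', c = c' + 1 := by
    have h1 := one_le_relCodim I hp
    rw [hc] at h1
    exact ⟨c - 1, by have : 1 ≤ c := (by exact_mod_cast h1); omega⟩
  obtain ⟨l, hlast, hlen⟩ := Order.exists_series_of_height_eq_coe _ hq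
  let x := l.eraseLast.last
  have hl0 : l.length ≠ 0 := by omega
  have hlt : x < l.last := RelSeries.eraseLast_last_rel_last l hl0
  rw [hlast] at hlt
  have hx : Order.height x = c' := by
    refine le_antisymm ?_ ?_
    · have := (Order.height_add_one_le hlt).trans hq.le
      rw [Nat.cast_succ] at this
      exact (ENat.add_le_add_iff_right (by simp)).1 this
    · have := Order.length_le_height (p := l.eraseLast) (x := x) le_rfl
      rwa [RelSeries.eraseLast_length, hlen, Nat.add_sub_cancel] at this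
  have hpx : ¬ I ≤ x.1.asIdeal := fun h => by
    have h1 : SGA2.relCodim I p ≤ Order.height x := iInf_le _ (⟨x.1, x.2, h⟩ : {q : PrimeSpectrum A // p ≤ q ∧ I ≤ q.asIdeal})
    rw [hx, hc] at h1
    have : c' + 1 ≤ c' := by exact_mod_cast h1
    omega
  refine ⟨x.1, x.2, c', rfl, hx, hpx, le_antisymm ?_ (one_le_relCodim I hpx)⟩
  have hxq : x.1 ≤ q.1 := hlt.le
  refine (iInf_le _ (⟨q.1, hxq, q.2.2⟩ : {z : PrimeSpectrum A // x.1 ≤ z ∧ I ≤ z.asIdeal})).trans ?_
  refine Order.height_le fun s hs => ?_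
  by_contra hlen'
  have hs2 : 2 ≤ s.length := by
    have : ¬ s.length ≤ 1 := fun h => hlen' (by exact_mod_cast h)
    omega
  let z := s.eraseLast.last
  have hzq : z < s.last := RelSeries.eraseLast_last_rel_last s (by omega)
  have hxz : (⟨x.1, Set.self_mem_Ici⟩ : Set.Ici x.1) < z := lt_of_le_of_lt (show (⟨x.1, Set.self_mem_Ici⟩ : Set.Ici x.1) ≤ s 0 from (s 0).2)
    (s.strictMono (show (0 : Fin (s.length + 1)) < ⟨s.length - 1, by omega⟩ from by show (0 : ℕ) < s.length - 1; omega))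
  rw [hs] at hzq
  have h1 : (⟨x.1, x.2⟩ : Set.Ici p) < ⟨z.1, Set.mem_Ici.2 (le_trans (Set.mem_Ici.1 x.2) (Set.mem_Ici.1 z.2))⟩ := hxz
  have h2 : (⟨z.1, Set.mem_Ici.2 (le_trans (Set.mem_Ici.1 x.2) (Set.mem_Ici.1 z.2))⟩ : Set.Ici p) < ⟨q.1, q.2.1⟩ := hzq
  have h3 := (add_le_add_left (Order.height_add_one_le h1) 1).trans (Order.height_add_one_le h2)
  rw [show (⟨x.1, x.2⟩ : Set.Ici p) = x from rfl, hx, hq] at h3
  have h4 : c' + 1 + 1 ≤ c' + 1 := by exact_mod_cast h3
  omega

variable {R : Type u} [CommRing R] [IsRegularRing R] [IsNoetherianRing A] (π : R →+* A) (hπ : Function.Surjective π)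
  (M : Type u) [AddCommGroup M] [Module A M] [Module.Finite A M]

include hπ in
theorem subsingleton_H_of_codim_one {i : ℕ}
    (h : ∀ p : PrimeSpectrum A, ¬ I ≤ p.asIdeal → SGA2.relCodim I p = 1 → ∀ j : ℕ, j + 1 = i →
      Subsingleton (LocCoh.H (maximalIdeal (Localization.AtPrime p.asIdeal)) j (LocalizedModule p.asIdeal.primeCompl M)))
    (p : PrimeSpectrum A) (hp : ¬ I ≤ p.asIdeal) (c j : ℕ) (hc : SGA2.relCodim I p = c) (hj : j + c = i) :
    Subsingleton (LocCoh.H (maximalIdeal (Localization.AtPrime p.asIdeal)) j (LocalizedModule p.asIdeal.primeCompl M)) := by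
  obtain ⟨p', hpp', c', rfl, hht, hp', hc1⟩ := exists_codim_one I hp hc
  exact subsingleton_H_shift π hπ M hpp' hht (h p' hp' hc1 (j + c') (by omega))

theorem depth_add_relCodim_of_codim_one {n : ℕ}
    (h : ∀ p : PrimeSpectrum A, ¬ I ≤ p.asIdeal → SGA2.relCodim I p = 1 →
      (n : ℕ∞) ≤ LocCoh.depth (Localization.AtPrime p.asIdeal) (LocalizedModule p.asIdeal.primeCompl M))
    (p : PrimeSpectrum A) (hp : ¬ I ≤ p.asIdeal) :
    (n : ℕ∞) < LocCoh.depth (Localization.AtPrime p.asIdeal) (LocalizedModule p.asIdeal.primeCompl M) + SGA2.relCodim I p := by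
  cases hc : SGA2.relCodim I p with
  | top => simp
  | coe c =>
    obtain ⟨p', hpp', c', rfl, hht, hp', hc1⟩ := exists_codim_one I hp hc
    have h1 := (h p' hp' hc1).trans (depth_localization_le M p.asIdeal p'.asIdeal hpp')
    have h2 : (p'.asIdeal.map (Ideal.Quotient.mk p.asIdeal)).height = c' := by
      refine WithBot.coe_injective ?_
      rw [height_map_quotient p p' hpp', ← height_Ici_eq hpp', hht]
    rw [h2] at h1
    cases hd : LocCoh.depth (Localization.AtPrime p.asIdeal) (LocalizedModule p.asIdeal.primeCompl M) with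
    | top => simp
    | coe d =>
      rw [hd] at h1
      have h3 : n ≤ d + c' := by exact_mod_cast h1
      exact_mod_cast (show n < d + (c' + 1) by omega)

end Groth.Agent.LocCohLib
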