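import Groth.Agent.S0335
import Mathlib.Data.List.Chain
import Mathlib.RingTheory.Ideal.Height

/-!
# Connectedness in codimension `d - 1`
-/

set_option autoImplicit false

universe u

open IsLocalRing

namespace Groth.Agent.LocCohLib

variable {A : Type u} [CommRing A] [IsNoetherianRing A]

/-- Two minimal primes meet in a point of height at most `k`. -/
def Linked (A : Type u) [CommRing A] (k : ℕ) (p q : PrimeSpectrum A) : Prop :=
  p.asIdeal ∈ minimalPrimes A ∧ q.asIdeal ∈ minimalPrimes A ∧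
    ∃ r : PrimeSpectrum A, p ≤ r ∧ q ≤ r ∧ r.asIdeal.height ≤ (k : ℕ)

theorem isClosed_exists_le (Z : Set (PrimeSpectrum A)) (hZ : ∀ p ∈ Z, p.asIdeal ∈ minimalPrimes A) :
    IsClosed {x : PrimeSpectrum A | ∃ p ∈ Z, p ≤ x} := by
  have hfin : Z.Finite := ((minimalPrimes.finite_of_isNoetherianRing A).preimage
    (fun x _ y _ e => PrimeSpectrum.ext e)).subset fun p hp => hZ p hp
  rw [show {x : PrimeSpectrum A | ∃ p ∈ Z, p ≤ x} =
      ⋃ p ∈ Z, PrimeSpectrum.zeroLocus (p.asIdeal : Set A) by ext x; simp]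
  exact hfin.isClosed_biUnion fun p _ => PrimeSpectrum.isClosed_zeroLocus _

theorem reflTransGen_linked [ConnectedSpace (PrimeSpectrum A)] (d : ℕ) (hd : 1 ≤ d)
    (h : ∀ p : PrimeSpectrum A, (d : ℕ∞) ≤ p.asIdeal.height →
      (2 : ℕ∞) ≤ LocCoh.depth (Localization.AtPrime p.asIdeal) (Localization.AtPrime p.asIdeal))
    (p₁ p₂ : PrimeSpectrum A) (h₁ : p₁.asIdeal ∈ minimalPrimes A) (h₂ : p₂.asIdeal ∈ minimalPrimes A) :
    Relation.ReflTransGen (Linked A (d - 1)) p₁ p₂ := by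
  by_contra hne
  let Z₁ : Set (PrimeSpectrum A) := {p | p.asIdeal ∈ minimalPrimes A ∧ Relation.ReflTransGen (Linked A (d - 1)) p₁ p}
  let Z₂ : Set (PrimeSpectrum A) :=
    {p | p.asIdeal ∈ minimalPrimes A ∧ ¬ Relation.ReflTransGen (Linked A (d - 1)) p₁ p}
  let S : Set (PrimeSpectrum A) := {x | ∃ p ∈ Z₁, p ≤ x} ∩ {x | ∃ p ∈ Z₂, p ≤ x}
  have hcover : ∀ x : PrimeSpectrum A, (∃ p ∈ Z₁, p ≤ x) ∨ ∃ p ∈ Z₂, p ≤ x := fun x => by
    obtain ⟨p, hp, hpx⟩ := Ideal.exists_minimalPrimes_le (bot_le : (⊥ : Ideal A) ≤ x.asIdeal)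
    by_cases e : Relation.ReflTransGen (Linked A (d - 1)) p₁ ⟨p, hp.isPrime⟩
    · exact Or.inl ⟨_, ⟨hp, e⟩, hpx⟩
    · exact Or.inr ⟨_, ⟨hp, e⟩, hpx⟩
  have hS : S.Nonempty := by
    obtain ⟨x, -, hx⟩ := isPreconnected_closed_iff.1 (isPreconnected_univ (α := PrimeSpectrum A))
      {x | ∃ p ∈ Z₁, p ≤ x} {x | ∃ p ∈ Z₂, p ≤ x}
      (isClosed_exists_le _ fun p hp => hp.1) (isClosed_exists_le _ fun p hp => hp.1) (fun x _ => hcover x)
      ⟨p₁, trivial, p₁, ⟨h₁, .refl⟩, le_rfl⟩ ⟨p₂, trivial, p₂, ⟨h₂, hne⟩, le_rfl⟩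
    exact ⟨x, hx⟩
  let ht : PrimeSpectrum A → ℕ∞ := fun q => q.asIdeal.height
  set q := Function.argminOn ht S hS
  have hq : q ∈ S := Function.argminOn_mem ht S hS
  have hlt : ∀ x : PrimeSpectrum A, x < q → x ∉ S := fun x hx hxS => by
    have := Ideal.height_strict_mono_of_isPrime (I := x.asIdeal) (J := q.asIdeal) hx
    exact this.not_ge (Function.argminOn_le ht S hxS)
  obtain ⟨⟨a, ha, haq⟩, b, hb, hbq⟩ := hq
  have hht : (d : ℕ∞) ≤ q.asIdeal.height := by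
    by_contra hlow
    rw [not_le] at hlow
    obtain ⟨r, hr⟩ := ENat.ne_top_iff_exists.1 hlow.ne_top
    rw [← hr, Nat.cast_lt] at hlow
    exact hb.2 (ha.2.tail ⟨ha.1, hb.1, q, haq, hbq, by rw [← hr]; exact_mod_cast (by omega : r ≤ d - 1)⟩)
  have hab : a ≠ b := fun e => hb.2 (e ▸ ha.2)
  have hmin : ∀ {x y : PrimeSpectrum A}, x.asIdeal ∈ minimalPrimes A → y ≤ x → y = x := fun {x y} hx hy =>
    PrimeSpectrum.ext (le_antisymm hy (hx.2 ⟨y.2, bot_le⟩ hy))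
  have haq' : a < q := lt_of_le_of_ne haq fun e => hab (hmin ha.1 (e ▸ hbq)).symm
  have hbq' : b < q := lt_of_le_of_ne hbq fun e => hab (hmin hb.1 (e ▸ haq))
  let Rq := Localization.AtPrime q.asIdeal
  have := IsLocalization.isNoetherianRing q.asIdeal.primeCompl Rq inferInstance
  have hconn := Groth.Agent.S0335.result Rq (h q hht)
  let f := PrimeSpectrum.comap (algebraMap A Rq)
  have hlift : ∀ x : PrimeSpectrum A, x < q →
      ∃ X : PrimeSpectrum Rq, f X = x ∧ X.asIdeal ≠ maximalIdeal Rq := fun x hx => by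
    have hd : Disjoint (q.asIdeal.primeCompl : Set A) (x.asIdeal : Set A) :=
      Set.disjoint_left.2 fun z hz hzx => hz (hx.le hzx)
    have hc := IsLocalization.under_map_of_isPrime_disjoint q.asIdeal.primeCompl Rq x.2 hd
    refine ⟨⟨_, IsLocalization.isPrime_of_isPrime_disjoint q.asIdeal.primeCompl Rq x.asIdeal x.2 hd⟩,
      PrimeSpectrum.ext hc, fun e => hx.ne (PrimeSpectrum.ext ?_)⟩
    exact hc.symm.trans ((congrArg _ e).trans Localization.AtPrime.under_maximalIdeal)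
  obtain ⟨A', hA', hA''⟩ := hlift a haq'
  obtain ⟨B', hB', hB''⟩ := hlift b hbq'
  obtain ⟨x, hx, hx1, hx2⟩ := isPreconnected_closed_iff.1 hconn.isPreconnected
    (f ⁻¹' {x | ∃ p ∈ Z₁, p ≤ x}) (f ⁻¹' {x | ∃ p ∈ Z₂, p ≤ x})
    ((isClosed_exists_le _ fun p hp => hp.1).preimage (PrimeSpectrum.continuous_comap _))
    ((isClosed_exists_le _ fun p hp => hp.1).preimage (PrimeSpectrum.continuous_comap _))
    (fun x _ => hcover (f x))
    ⟨A', hA'', show ∃ p ∈ Z₁, p ≤ f A' from ⟨a, ha, hA'.ge⟩⟩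
    ⟨B', hB'', show ∃ p ∈ Z₂, p ≤ f B' from ⟨b, hb, hB'.ge⟩⟩
  refine hlt (f x) (lt_of_le_of_ne ?_ fun e => hx ?_) ⟨hx1, hx2⟩
  · exact (Ideal.comap_mono (le_maximalIdeal x.2.ne_top)).trans Localization.AtPrime.under_maximalIdeal.le
  · have e' : x.asIdeal.comap (algebraMap A Rq) = q.asIdeal := congrArg PrimeSpectrum.asIdeal e
    rw [← IsLocalization.map_under q.asIdeal.primeCompl Rq x.asIdeal]
    show (x.asIdeal.comap (algebraMap A Rq)).map (algebraMap A Rq) = _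
    rw [e', Localization.AtPrime.map_eq_maximalIdeal]

end Groth.Agent.LocCohLib
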