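import Groth.Agent.Lib.FlatDepth.GenericDepth

/-!
Depth near a prime along its closure.
-/

universe u

open IsLocalRing Pointwise Groth.Agent.FlatDepth

namespace Groth.Agent.LocCohLib

variable {A : Type u} [CommRing A] [IsNoetherianRing A] (p : Ideal A) [p.IsPrime]

/-- `idealDepth` of `I` at `q`. -/
noncomputable abbrev idepthAt (q : Ideal A) [q.IsPrime] (I : Ideal A) (M : Type u) [AddCommGroup M] [Module A M] : ℕ∞ :=
  LocCoh.idealDepth (I.map (algebraMap A (Localization.AtPrime q))) (LocalizedModule q.primeCompl M)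

theorem idepthAt_quotSMulTop (q : Ideal A) [q.IsPrime] {I : Ideal A} {M : Type u} [AddCommGroup M] [Module A M]
    [Module.Finite A M] {x : A} (hx : x ∈ I)
    (hreg : IsSMulRegular (LocalizedModule q.primeCompl M) (algebraMap A (Localization.AtPrime q) x)) :
    idepthAt q I (QuotSMulTop x M) + 1 = idepthAt q I M := by
  rw [idepthAt, idepthAt, DepthLib.idealDepth_congr (quotSMulTopAtEquiv q x)]
  exact DepthLib.idealDepth_quotSMulTop_add_one (Ideal.mem_map_of_mem _ hx) hreg

theorem exists_le_idepthAt (I : Ideal A) (e : ℕ) (M : Type u) [AddCommGroup M] [Module A M] [Module.Finite A M]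
    (he : idepthAt p I M = e) :
    ∃ g ∉ p, ∀ (q : Ideal A) [q.IsPrime], p ≤ q → g ∉ q → (e : ℕ∞) ≤ idepthAt q I M := by
  classical
  induction e generalizing M with
  | zero => exact ⟨1, (Ideal.ne_top_iff_one p).1 ‹p.IsPrime›.ne_top, fun q _ _ _ => by simp⟩
  | succ e ih =>
    have hne : I.map (algebraMap A (Localization.AtPrime p)) • (⊤ : Submodule (Localization.AtPrime p)
        (LocalizedModule p.primeCompl M)) ≠ ⊤ := fun h => by
      rw [idepthAt, DepthLib.idealDepth_of_smul_top_eq_top h] at he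
      exact ENat.coe_ne_top _ he.symm
    obtain ⟨x', hx', hreg'⟩ := DepthLib.exists_isSMulRegular_of_one_le_idealDepth hne (by
      show 1 ≤ idepthAt p I M
      rw [he]; exact_mod_cast Nat.succ_le_succ (Nat.zero_le e))
    obtain ⟨⟨⟨a, ha⟩, s⟩, has⟩ := (IsLocalization.mem_map_algebraMap_iff p.primeCompl (Localization.AtPrime p)).1 hx'
    have hreg : IsSMulRegular (LocalizedModule p.primeCompl M) (algebraMap A (Localization.AtPrime p) a) := by
      rw [← has]
      exact hreg'.mul ((IsLocalization.map_units _ s).isSMulRegular _)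
    obtain ⟨g₁, hg₁, hg₁'⟩ := exists_regular_nhd p a hreg
    have hd' : idepthAt p I (QuotSMulTop a M) = e := by
      have := idepthAt_quotSMulTop p ha hreg
      rw [he, Nat.cast_succ] at this
      exact ENat.add_left_injective_of_ne_top ENat.one_ne_top this
    obtain ⟨g₂, hg₂, hg₂'⟩ := ih (QuotSMulTop a M) hd'
    refine ⟨g₁ * g₂, fun hm => (Ideal.IsPrime.mem_or_mem ‹_› hm).elim hg₁ hg₂, fun q _ hle hq => ?_⟩
    rw [Nat.cast_succ,
      ← idepthAt_quotSMulTop q ha (isSMulRegular_at q hg₁' fun h => hq (q.mul_mem_right _ h))]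
    gcongr
    exact hg₂' q hle fun h => hq (q.mul_mem_left _ h)

theorem depth_semicontinuous (M : Type u) [AddCommGroup M] [Module A M] [Module.Finite A M] (e : ℕ)
    (he : depthAt p M = e) :
    ∃ f : A, f ∉ p ∧ (∀ (q : Ideal A) [q.IsPrime], p ≤ q → f ∉ q → (e : ℕ∞) ≤ depthAt q M) ∧
      {q : PrimeSpectrum A | p ≤ q.asIdeal ∧ f ∉ q.asIdeal ∧ depthAt q.asIdeal M = e}.Finite := by
  obtain ⟨g, hg, hg'⟩ := exists_depth_add_le p M
  refine ⟨g, hg, fun q _ h1 h2 => le_trans (by rw [he]; exact le_self_add) (hg' q h1 h2),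
    (Set.finite_singleton (⟨p, inferInstance⟩ : PrimeSpectrum A)).subset ?_⟩
  rintro q ⟨hpq, hgq, hqe⟩
  refine PrimeSpectrum.ext (le_antisymm (fun x hxq => ?_) hpq)
  by_contra hxp
  have h := hg' q.asIdeal hpq hgq
  rw [he, hqe] at h
  have h0 : depthAt q.asIdeal (A ⧸ p) = 0 := by
    refine nonpos_iff_eq_zero.1 ((WithTop.add_le_add_iff_left (ENat.coe_ne_top e)).1 ?_)
    exact h.trans (le_of_eq (add_zero _).symm)
  have hreg : IsSMulRegular (LocalizedModule q.asIdeal.primeCompl (A ⧸ p))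
      (algebraMap A (Localization.AtPrime q.asIdeal) x) :=
    isSMulRegular_at q.asIdeal (g := 1) (fun m hm => by
      obtain ⟨a, rfl⟩ := Ideal.Quotient.mk_surjective m
      rw [one_smul]
      rw [Algebra.smul_def, Ideal.Quotient.algebraMap_eq, ← map_mul, Ideal.Quotient.eq_zero_iff_mem] at hm
      exact Ideal.Quotient.eq_zero_iff_mem.2 ((‹p.IsPrime›.mem_or_mem hm).resolve_left hxp))
      ((Ideal.ne_top_iff_one _).1 q.2.ne_top)
  have h1 := depthAt_quotSMulTop q.asIdeal hxq hreg
  rw [h0] at h1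
  exact absurd (le_add_self.trans h1.le) (by simp)

end Groth.Agent.LocCohLib
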