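import Groth.Prelude.Def_DerCA
import Mathlib

/-!
# Essentially constant inverse systems of Artinian modules
-/

set_option autoImplicit false
universe u

open CategoryTheory Opposite

namespace Groth.Agent.LocCohLib

variable {A : Type u} [CommRing A]

theorem isEssConstant_of_artinian (X : ℕᵒᵖ ⥤ ModuleCat.{u} A) [∀ n, IsArtinian A (X.obj (op n))]
    (V : ModuleCat.{u} A) [IsArtinian A V] (c : (Functor.const ℕᵒᵖ).obj V ⟶ X)
    (hinj : ∀ x : V, (∀ n : ℕ, (c.app (op n)) x = 0) → x = 0)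
    (hsurj : ∀ y : (∀ n : ℕ, X.obj (op n)),
      (∀ (n m : ℕ) (h : n ≤ m), (X.map (homOfLE h).op) (y m) = y n) → ∃ x : V, ∀ n : ℕ, (c.app (op n)) x = y n) :
    DerCA.IsEssConstant X V c := by
  let t : ∀ {n m : ℕ}, n ≤ m → (X.obj (op m) →ₗ[A] X.obj (op n)) := fun h => (X.map (homOfLE h).op).hom
  have tt : ∀ {a b d : ℕ} (h : a ≤ b) (h' : b ≤ d) (x : X.obj (op d)), t h (t h' x) = t (h.trans h') x := by
    intro a b d h h' x
    show (X.map (homOfLE h').op ≫ X.map (homOfLE h).op) x = _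
    rw [← X.map_comp]; rfl
  have tc : ∀ {n m : ℕ} (h : n ≤ m) (v : V), t h ((c.app (op m)) v) = (c.app (op n)) v := by
    intro n m h v
    exact (congrArg (fun f => (ModuleCat.Hom.hom f) v) (c.naturality (homOfLE h).op)).symm
  -- stable images
  have hst : ∀ n, ∃ k, ∃ hk : n ≤ k, ∀ k' (h : n ≤ k'), k ≤ k' → LinearMap.range (t h) = LinearMap.range (t hk) := by
    intro n
    let F : ℕ →o (Submodule A (X.obj (op n)))ᵒᵈ :=
      { toFun := fun d => OrderDual.toDual (LinearMap.range (t (Nat.le_add_right n d)))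
        monotone' := fun d d' h => by
          rintro _ ⟨x, rfl⟩
          exact ⟨t (Nat.add_le_add_left h n) x, tt _ _ x⟩ }
    obtain ⟨d, hd⟩ := WellFoundedGT.monotone_chain_condition F
    refine ⟨n + d, Nat.le_add_right n d, fun k' h hk' => ?_⟩
    obtain ⟨e, rfl⟩ := Nat.exists_eq_add_of_le h
    exact (OrderDual.toDual.injective (hd e (by omega))).symm
  choose K hK hKe using hst
  let S : ∀ n, Submodule A (X.obj (op n)) := fun n => LinearMap.range (t (hK n))
  have hS : ∀ {n m : ℕ} (h : n ≤ m) (x : X.obj (op n)), x ∈ S n → ∃ y ∈ S m, t h y = x := by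
    intro n m h x hx
    have hm : n ≤ max (K n) (K m) := (hK n).trans (le_max_left _ _)
    obtain ⟨z, rfl⟩ : x ∈ LinearMap.range (t hm) := by rw [hKe n _ hm (le_max_left _ _)]; exact hx
    refine ⟨t ((hK m).trans (le_max_right (K n) (K m))) z, ?_, tt _ _ z⟩
    show _ ∈ LinearMap.range (t (hK m))
    rw [← hKe m _ ((hK m).trans (le_max_right (K n) (K m))) (le_max_right _ _)]
    exact ⟨z, rfl⟩
  have honto : ∀ n (x : X.obj (op n)), x ∈ S n → ∃ v : V, (c.app (op n)) v = x := by
    intro n x hx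
    choose f hf hft using fun k : ℕ => fun (y : S (n + k)) => hS (Nat.le_succ (n + k)) y.1 y.2
    let w : ∀ k, S (n + k) := fun k => Nat.rec ⟨x, hx⟩ (fun k y => ⟨f k y, hf k y⟩) k
    have hw : ∀ k, t (Nat.le_add_right n k) (w k).1 = x := by
      intro k
      induction k with
      | zero => show (X.map (homOfLE _).op) x = x; rw [show (homOfLE (Nat.le_add_right n 0)).op = 𝟙 (op n) from rfl, X.map_id]; rfl
      | succ k ih => rw [← tt (Nat.le_add_right n k) (Nat.le_succ (n + k)), hft k (w k), ih]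
    have hw' : ∀ a b (h : a ≤ b), t (Nat.add_le_add_left h n) (w b).1 = (w a).1 := by
      intro a b h
      induction h with
      | refl => show (X.map (homOfLE _).op) _ = _; rw [show (homOfLE (le_refl (n + a))).op = 𝟙 (op (n + a)) from rfl, X.map_id]; rfl
      | @step b h ih => rw [← tt (Nat.add_le_add_left h n) (Nat.le_succ (n + b)), hft b (w b), ih]
    obtain ⟨v, hv⟩ := hsurj (fun m => t (Nat.le_add_left m n) (w m).1) fun a b h => by
      show t h (t _ (w b).1) = _
      rw [tt, ← hw' a b h, tt]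
    exact ⟨v, (hv n).trans (hw n)⟩
  have hmem : ∀ n (v : V), (c.app (op n)) v ∈ S n := fun n v => ⟨(c.app (op (K n))) v, tc _ v⟩
  -- eventually injective
  obtain ⟨i₀, hi₀⟩ : ∃ i, LinearMap.ker (c.app (op i)).hom = ⊥ := by
    let T : Set (Submodule A V) := Set.range fun n : ℕ => LinearMap.ker (c.app (op n)).hom
    obtain ⟨_, ⟨i, rfl⟩, hmin⟩ := IsArtinian.set_has_minimal T ⟨_, 0, rfl⟩
    refine ⟨i, eq_bot_iff.2 fun v hv => hinj v fun m => ?_⟩
    have hle : LinearMap.ker (c.app (op (max i m))).hom ≤ LinearMap.ker (c.app (op i)).hom := fun z hz => by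
      rw [LinearMap.mem_ker, ← tc (le_max_left i m) z, LinearMap.mem_ker.1 hz, map_zero]
    have heq := (eq_of_le_of_not_lt hle (hmin _ ⟨_, rfl⟩))
    rw [← tc (le_max_right i m) v, LinearMap.mem_ker.1 (heq.ge hv), map_zero]
  let g : V →ₗ[A] S i₀ := (c.app (op i₀)).hom.codRestrict _ (hmem i₀)
  have hg : Function.Bijective g := ⟨fun a b h => LinearMap.ker_eq_bot.1 hi₀ (congrArg Subtype.val h),
    fun x => (honto i₀ x.1 x.2).elim fun v hv => ⟨v, Subtype.ext hv⟩⟩
  let e := LinearEquiv.ofBijective g hg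
  let s : X.obj (op (K i₀)) →ₗ[A] V := e.symm.toLinearMap ∘ₗ (t (hK i₀)).codRestrict (S i₀) fun x => ⟨x, rfl⟩
  have hse : ∀ (v : V) (x : X.obj (op (K i₀))), t (hK i₀) x = (c.app (op i₀)) v → s x = v := fun v x hx =>
    e.symm_apply_eq.2 (Subtype.ext hx)
  refine ⟨K i₀, ModuleCat.ofHom s, ModuleCat.hom_ext (LinearMap.ext fun v => hse v _ (tc _ v)), fun j => ?_⟩
  refine ⟨max (K (max (K i₀) j)) (max (K i₀) j), (le_max_left _ _).trans (le_max_right _ _),
    (le_max_right _ _).trans (le_max_right _ _), ModuleCat.hom_ext (LinearMap.ext fun x => ?_)⟩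
  let l := max (K i₀) j
  have hl : l ≤ max (K l) l := le_max_right _ _
  obtain ⟨v, hv⟩ := honto l (t hl x) (by
    show _ ∈ LinearMap.range (t (hK l))
    rw [← hKe l _ hl (le_max_left _ _)]; exact ⟨x, rfl⟩)
  show t _ x = (c.app (op j)) (s (t _ x))
  rw [← tt (le_max_right (K i₀) j) hl x, ← tt (le_max_left (K i₀) j) hl x, ← hv, tc, tc, hse v _ (tc _ v)]

end Groth.Agent.LocCohLib
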