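import Groth.Agent.Lib.LocCoh.Basic
import Groth.Agent.Lib.Depth.Devissage
import Mathlib.RingTheory.Finiteness.Ideal

/-!
# `Ext^n(F, G) = Hom(F, H^n_J(G))` in the lowest degree
-/

set_option autoImplicit false

universe u

open CategoryTheory Opposite

noncomputable section

namespace Groth.Agent.LocCohLib

variable {A : Type u} [CommRing A] [IsNoetherianRing A] (J : Ideal A) (G : ModuleCat.{u} A) (n : ℕ)

/-- No `Ext` one degree below, for finite modules supported on `V(J)`. -/
def LowVanish : Prop :=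
  ∀ (F : Type u) [AddCommGroup F] [Module A F], Module.Finite A F →
    Module.support A F ⊆ PrimeSpectrum.zeroLocus (J : Set A) →
    ∀ i : ℕ, i + 1 = n → Subsingleton (Abelian.Ext (ModuleCat.of A F) G i)

variable {J G n} {F : Type u} [AddCommGroup F] [Module A F]

/-- `1 ↦ f`. -/
def eHom {k : ℕ} (hk : ∀ a ∈ J ^ k, ∀ x : F, a • x = 0) (f : F) : Q J k ⟶ ModuleCat.of A F :=
  ModuleCat.ofHom (Submodule.liftQ (J ^ k) (LinearMap.toSpanSingleton A F f) fun a ha => hk a ha f)

theorem eHom_mk {k : ℕ} (hk : ∀ a ∈ J ^ k, ∀ x : F, a • x = 0) (f : F) (a : A) :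
    (eHom hk f).hom (Submodule.Quotient.mk a) = a • f := rfl

theorem eHom_proj {k m : ℕ} (h : k ≤ m) (hk : ∀ a ∈ J ^ k, ∀ x : F, a • x = 0)
    (hm : ∀ a ∈ J ^ m, ∀ x : F, a • x = 0) (f : F) : proj J h ≫ eHom hk f = eHom hm f :=
  ModuleCat.hom_ext (Submodule.linearMap_qext _ (LinearMap.ext_ring rfl))

variable (G n) in
/-- The comparison map. -/
def Ψ {k : ℕ} (hk : ∀ a ∈ J ^ k, ∀ x : F, a • x = 0) :
    Abelian.Ext (ModuleCat.of A F) G n →ₗ[A] F →ₗ[A] (localCohomology J n).obj G where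
  toFun x :=
    { toFun := fun f => ι J n G k ((Abelian.Ext.mk₀ (eHom hk f)).comp x (zero_add n))
      map_add' := fun f g => by
        rw [show eHom hk (f + g) = eHom hk f + eHom hk g from
          ModuleCat.hom_ext (Submodule.linearMap_qext _ (LinearMap.ext_ring (show (1 : A) • (f + g) = (1 : A) • f + (1 : A) • g from smul_add _ _ _))),
          Abelian.Ext.mk₀_add, Abelian.Ext.add_comp, map_add]
      map_smul' := fun r f => by
        rw [show eHom hk (r • f) = r • eHom hk f from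
          ModuleCat.hom_ext (Submodule.linearMap_qext _ (LinearMap.ext_ring (show (1 : A) • r • f = r • (1 : A) • f from smul_comm _ _ _))),
          Abelian.Ext.mk₀_smul, Abelian.Ext.smul_comp, map_smul, RingHom.id_apply] }
  map_add' x y := LinearMap.ext fun f => by
    simp only [LinearMap.coe_mk, AddHom.coe_mk, LinearMap.add_apply, Abelian.Ext.comp_add, map_add]
  map_smul' r x := LinearMap.ext fun f => by
    simp only [LinearMap.coe_mk, AddHom.coe_mk, LinearMap.smul_apply, RingHom.id_apply, Abelian.Ext.comp_smul, map_smul]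

theorem Ψ_apply {k : ℕ} (hk : ∀ a ∈ J ^ k, ∀ x : F, a • x = 0) (x : Abelian.Ext (ModuleCat.of A F) G n) (f : F) :
    Ψ G n hk x f = ι J n G k ((Abelian.Ext.mk₀ (eHom hk f)).comp x (zero_add n)) := rfl

theorem ι_injective (hvan : LowVanish J G n) (k : ℕ) : Function.Injective (ι J n G k) := by
  rw [injective_iff_map_eq_zero]
  intro x hx
  obtain ⟨m, h, h0⟩ := (ι_eq_zero_iff J n G x).1 hx
  refine DepthLib.eq_zero_of_mk₀_comp_eq_zero (proj J h) (fun z => ?_) x (fun j hj => hvan _ inferInstance ?_ j hj) h0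
  · obtain ⟨a, rfl⟩ := Submodule.Quotient.mk_surjective _ z
    exact ⟨Submodule.Quotient.mk a, rfl⟩
  · refine (Module.support_subset_of_injective (Submodule.subtype _) (Submodule.injective_subtype _)).trans ?_
    rw [Module.support_eq_zeroLocus, Ideal.annihilator_quotient]
    intro q hq a ha
    exact q.2.mem_of_pow_mem m (hq (Ideal.pow_mem_pow ha m))

theorem Ψ_proj {k m : ℕ} (h : k ≤ m) (hk : ∀ a ∈ J ^ k, ∀ x : F, a • x = 0)
    (hm : ∀ a ∈ J ^ m, ∀ x : F, a • x = 0) : Ψ G n hk = Ψ G n hm :=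
  LinearMap.ext fun x => LinearMap.ext fun f => by
    rw [Ψ_apply, Ψ_apply, ← ι_proj J n G h, ← Abelian.Ext.comp_assoc_of_second_deg_zero, Abelian.Ext.mk₀_comp_mk₀, eHom_proj]

variable [Module.Finite A F]

/-- The free cover by generators. -/
def cover {k r : ℕ} (hk : ∀ a ∈ J ^ k, ∀ x : F, a • x = 0) (s : Fin r → F) :
    ModuleCat.of A (Fin r → A ⧸ J ^ k) ⟶ ModuleCat.of A F :=
  ∑ j, ModuleCat.ofHom (LinearMap.proj j : (Fin r → A ⧸ J ^ k) →ₗ[A] A ⧸ J ^ k) ≫ eHom hk (s j)

omit [Module.Finite A F] in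
theorem cover_apply {k r : ℕ} (hk : ∀ a ∈ J ^ k, ∀ x : F, a • x = 0) (s : Fin r → F) (c : Fin r → A) :
    (cover hk s).hom (fun j => Submodule.Quotient.mk (c j)) = ∑ j, c j • s j := by
  simp only [cover, ModuleCat.hom_sum, LinearMap.sum_apply]
  exact Finset.sum_congr rfl fun j _ => eHom_mk hk (s j) (c j)

theorem cover_surjective {k r : ℕ} (hk : ∀ a ∈ J ^ k, ∀ x : F, a • x = 0) (s : Fin r → F)
    (hs : Submodule.span A (Set.range s) = ⊤) : Function.Surjective (cover hk s).hom := fun f => by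
  obtain ⟨c, hc⟩ := (Submodule.mem_span_range_iff_exists_fun A).1 (hs ▸ Submodule.mem_top : f ∈ Submodule.span A (Set.range s))
  exact ⟨fun j => Submodule.Quotient.mk (c j), (cover_apply hk s c).trans hc⟩

theorem ker_cover_support {k r : ℕ} (hk : ∀ a ∈ J ^ k, ∀ x : F, a • x = 0) (s : Fin r → F) :
    Module.support A (LinearMap.ker (cover hk s).hom) ⊆ PrimeSpectrum.zeroLocus (J : Set A) := by
  intro q hq
  rw [Module.support_eq_zeroLocus] at hq
  intro a ha
  refine q.2.mem_of_pow_mem k (hq (Module.mem_annihilator.2 fun z => Subtype.ext (funext fun j => ?_)))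
  obtain ⟨b, hb⟩ := Submodule.Quotient.mk_surjective _ ((z : Fin r → A ⧸ J ^ k) j)
  show a ^ k • (z : Fin r → A ⧸ J ^ k) j = 0
  rw [← hb, ← Submodule.Quotient.mk_smul, Submodule.Quotient.mk_eq_zero]
  exact Ideal.mul_mem_right b _ (Ideal.pow_mem_pow ha k)

theorem Ψ_injective (hvan : LowVanish J G n) {k : ℕ} (hk : ∀ a ∈ J ^ k, ∀ x : F, a • x = 0) :
    Function.Injective (Ψ G n hk) := by
  rw [injective_iff_map_eq_zero]
  intro x hx
  obtain ⟨r, s, hs⟩ := Module.Finite.exists_fin (R := A) (M := F)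
  refine DepthLib.eq_zero_of_mk₀_comp_eq_zero (cover hk s) (cover_surjective hk s hs) x
    (fun j hj => hvan _ inferInstance (ker_cover_support hk s) j hj) ?_
  have hj : ∀ j, (Abelian.Ext.mk₀ (eHom hk (s j))).comp x (zero_add n) = 0 := fun j =>
    ι_injective hvan k (((Ψ_apply hk x (s j)).symm.trans (LinearMap.congr_fun hx (s j))).trans (map_zero _).symm)
  rw [cover]
  refine Finset.sum_induction (s := Finset.univ) _ (fun g => (Abelian.Ext.mk₀ g).comp x (zero_add n) = 0)
    (fun a b ha hb => by rw [Abelian.Ext.mk₀_add, Abelian.Ext.add_comp, ha, hb, add_zero])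
    (by rw [Abelian.Ext.mk₀_zero, Abelian.Ext.zero_comp]) fun j _ => ?_
  rw [← Abelian.Ext.mk₀_comp_mk₀, Abelian.Ext.comp_assoc_of_second_deg_zero, hj, Abelian.Ext.comp_zero]

theorem Ψ_surjective (hvan : LowVanish J G n) {k : ℕ} (hk : ∀ a ∈ J ^ k, ∀ x : F, a • x = 0) :
    Function.Surjective (Ψ G n hk) := by
  intro φ
  classical
  obtain ⟨r, s, hs⟩ := Module.Finite.exists_fin (R := A) (M := F)
  choose N hkN y hy using fun j => exists_ι_le J n G (φ (s j)) k
  let m := max k (Finset.univ.sup N)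
  have hm : ∀ a ∈ J ^ m, ∀ x : F, a • x = 0 := fun a ha => hk a (Ideal.pow_le_pow_right (le_max_left _ _) ha)
  let x : Fin r → Abelian.Ext (Q J m) G n := fun j =>
    (Abelian.Ext.mk₀ (proj J ((Finset.le_sup (Finset.mem_univ j)).trans (le_max_right _ _)))).comp (y j) (zero_add n)
  have hx : ∀ j, ι J n G m (x j) = φ (s j) := fun j => by rw [ι_proj, hy]
  let P := ModuleCat.of A (Fin r → A ⧸ J ^ m)
  let pr : Fin r → (P ⟶ Q J m) := fun j =>
    ModuleCat.ofHom (LinearMap.proj j : (Fin r → A ⧸ J ^ m) →ₗ[A] A ⧸ J ^ m)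
  let Y : Abelian.Ext P G n := ∑ j, (Abelian.Ext.mk₀ (pr j)).comp (x j) (zero_add n)
  have hS := DepthLib.shortExact_of_linearMap (LinearMap.ker (cover hm s).hom).injective_subtype
    (cover_surjective hm s hs) (LinearMap.exact_subtype_ker_map (cover hm s).hom)
  let K := LinearMap.ker (cover hm s).hom
  have hKm : ∀ a ∈ J ^ m, ∀ z : K, a • z = 0 := fun a ha z => Subtype.ext (funext fun j => by
    obtain ⟨b, hb⟩ := Submodule.Quotient.mk_surjective _ ((z : Fin r → A ⧸ J ^ m) j)
    show a • (z : Fin r → A ⧸ J ^ m) j = 0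
    rw [← hb, ← Submodule.Quotient.mk_smul, Submodule.Quotient.mk_eq_zero]
    exact Ideal.mul_mem_right b _ ha)
  have hY : (Abelian.Ext.mk₀ (ModuleCat.ofHom K.subtype)).comp Y (zero_add n) = 0 := by
    refine Ψ_injective hvan hKm ((LinearMap.ext fun z => ?_).trans (map_zero _).symm)
    rw [Ψ_apply, LinearMap.zero_apply]
    rw [← Abelian.Ext.comp_assoc_of_second_deg_zero, Abelian.Ext.mk₀_comp_mk₀, Abelian.Ext.comp_sum, map_sum]
    choose c hc using fun j => Submodule.Quotient.mk_surjective _ ((z : Fin r → A ⧸ J ^ m) j)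
    have hz : (z : Fin r → A ⧸ J ^ m) = fun j => Submodule.Quotient.mk (c j) := funext fun j => (hc j).symm
    calc _ = ∑ j, c j • φ (s j) := Finset.sum_congr rfl fun j _ => by
          have e : (eHom hKm z ≫ ModuleCat.ofHom K.subtype) ≫ pr j = c j • 𝟙 (Q J m) := by
            refine ModuleCat.hom_ext (Submodule.linearMap_qext _ (LinearMap.ext_ring ?_))
            show ((1 : A) • z : K).1 j = c j • Submodule.Quotient.mk (1 : A)
            rw [one_smul, ← hc j, ← Submodule.Quotient.mk_smul, smul_eq_mul, mul_one]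
          rw [← Abelian.Ext.comp_assoc_of_second_deg_zero, Abelian.Ext.mk₀_comp_mk₀, e, Abelian.Ext.mk₀_smul,
            Abelian.Ext.smul_comp, Abelian.Ext.mk₀_id_comp, map_smul, hx]
      _ = φ (∑ j, c j • s j) := by simp [map_sum]
      _ = 0 := by
          rw [← cover_apply hm s c, ← hz, LinearMap.mem_ker.1 z.2, map_zero]
  obtain ⟨w, hw⟩ := Abelian.Ext.contravariant_sequence_exact₂ hS _ Y hY
  refine ⟨w, ?_⟩
  rw [Ψ_proj (le_max_left _ _) hk hm]
  refine LinearMap.ext_on_range hs fun j => ?_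
  rw [Ψ_apply]
  have e : eHom hm (s j) = ModuleCat.ofHom (LinearMap.single A (fun _ => A ⧸ J ^ m) j) ≫ cover hm s := by
    refine ModuleCat.hom_ext (Submodule.linearMap_qext _ (LinearMap.ext_ring ?_))
    show (1 : A) • s j = (cover hm s).hom (Pi.single j (Submodule.Quotient.mk (1 : A)))
    rw [show (Pi.single j (Submodule.Quotient.mk (1 : A)) : Fin r → A ⧸ J ^ m) =
      fun i => Submodule.Quotient.mk ((Pi.single j (1 : A) : Fin r → A) i) from funext fun i => by
        by_cases h : i = j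
        · subst h; simp
        · simp [h], cover_apply, Fintype.sum_eq_single j fun i h => by simp [h], Pi.single_eq_same]
  rw [e, ← Abelian.Ext.mk₀_comp_mk₀, Abelian.Ext.comp_assoc_of_second_deg_zero,
    show (Abelian.Ext.mk₀ (cover hm s)).comp w (zero_add n) = Y from hw, Abelian.Ext.comp_sum,
    Finset.sum_eq_single j]
  · rw [← Abelian.Ext.comp_assoc_of_second_deg_zero, Abelian.Ext.mk₀_comp_mk₀,
      show ModuleCat.ofHom (LinearMap.single A (fun _ => A ⧸ J ^ m) j) ≫ pr j = 𝟙 (Q J m) from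
        ModuleCat.hom_ext (LinearMap.ext fun z => Pi.single_eq_same (M := fun _ => A ⧸ J ^ m) j z), Abelian.Ext.mk₀_id_comp, hx]
  · intro i _ hij
    rw [← Abelian.Ext.comp_assoc_of_second_deg_zero, Abelian.Ext.mk₀_comp_mk₀,
      show ModuleCat.ofHom (LinearMap.single A (fun _ => A ⧸ J ^ m) j) ≫ pr i = 0 from
        ModuleCat.hom_ext (LinearMap.ext fun z => Pi.single_eq_of_ne (M := fun _ => A ⧸ J ^ m) hij z), Abelian.Ext.mk₀_zero,
      Abelian.Ext.zero_comp]
  · intro h; exact absurd (Finset.mem_univ j) h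

theorem nonempty_ext_linearEquiv_hom (hvan : LowVanish J G n)
    (hF : Module.support A F ⊆ PrimeSpectrum.zeroLocus (J : Set A)) :
    Nonempty (Abelian.Ext (ModuleCat.of A F) G n ≃ₗ[A] (F →ₗ[A] (localCohomology J n).obj G)) := by
  have hle : J ≤ (Module.annihilator A F).radical := by
    rw [← PrimeSpectrum.vanishingIdeal_zeroLocus_eq_radical, ← Module.support_eq_zeroLocus,
      ← PrimeSpectrum.subset_zeroLocus_iff_le_vanishingIdeal]
    exact hF
  obtain ⟨k, hk⟩ := Ideal.exists_pow_le_of_le_radical_of_fg hle (IsNoetherian.noetherian _)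
  have hk' : ∀ a ∈ J ^ k, ∀ x : F, a • x = 0 := fun a ha => Module.mem_annihilator.1 (hk ha)
  exact ⟨LinearEquiv.ofBijective (Ψ G n hk') ⟨Ψ_injective hvan hk', Ψ_surjective hvan hk'⟩⟩

end Groth.Agent.LocCohLib
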