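import Groth.Agent.Lib.LocCoh.Basic
import Groth.Prelude.Def_Wider
import Mathlib.Algebra.Category.ModuleCat.EnoughInjectives

/-!
Uniform vanishing of transition maps of `Ext (A/I^n, N)` above the cohomological dimension.
-/

set_option autoImplicit false

universe u

open CategoryTheory

noncomputable section

namespace Groth.Agent.LocCohLib

variable {A : Type u} [CommRing A]

theorem exists_universal_ext (j : ℕ) : ∀ M : ModuleCat.{u} A, ∃ (K : ModuleCat.{u} A) (ξ : Abelian.Ext M K j),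
    ∀ (N : ModuleCat.{u} A) (x : Abelian.Ext M N j), ∃ g : K ⟶ N, ξ.comp (Abelian.Ext.mk₀ g) (add_zero j) = x := by
  induction j with
  | zero =>
    refine fun M => ⟨M, Abelian.Ext.mk₀ (𝟙 M), fun N x => ⟨Abelian.Ext.homEquiv₀ x, ?_⟩⟩
    rw [Abelian.Ext.mk₀_homEquiv₀_apply, Abelian.Ext.mk₀_id_comp]
  | succ j ih =>
    intro M
    obtain ⟨S, hS, hP, e⟩ : ∃ (S : ShortComplex (ModuleCat.{u} A)) (_ : S.ShortExact) (_ : Projective S.X₂), S.X₃ = M :=
      ⟨ShortComplex.mk (Limits.kernel.ι (Projective.π M)) (Projective.π M) (Limits.kernel.condition _),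
        { exact := ShortComplex.exact_kernel _ }, inferInstanceAs (Projective (Projective.over M)), rfl⟩
    subst e
    obtain ⟨K, ξ, hξ⟩ := ih S.X₁
    refine ⟨K, hS.extClass.comp ξ (Nat.add_comm 1 j), fun N x => ?_⟩
    obtain ⟨y, rfl⟩ := Abelian.Ext.contravariant_sequence_exact₃ hS N x
      (Abelian.Ext.eq_zero_of_projective _) (Nat.add_comm 1 j)
    obtain ⟨g, rfl⟩ := hξ N y
    exact ⟨g, Abelian.Ext.comp_assoc_of_third_deg_zero _ _ _ _⟩

variable {I : Ideal A}

theorem exists_proj_comp_eq_zero {e : ℕ} (he : LocCoh.CdLE A I e) (n : ℕ) :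
    ∃ (m : ℕ) (hm : n < m), ∀ i, e < i → ∀ (N : ModuleCat.{u} A) (x : Abelian.Ext (Q I n) N i),
      (Abelian.Ext.mk₀ (proj I hm.le)).comp x (zero_add i) = 0 := by
  obtain ⟨K, ξ, hξ⟩ := exists_universal_ext (e + 1) (Q I n)
  haveI : Subsingleton ((localCohomology I (e + 1)).obj K) := he K (e + 1) (Nat.lt_succ_self e)
  obtain ⟨m₀, h₀, h0⟩ := (ι_eq_zero_iff I (e + 1) K ξ).1 (Subsingleton.elim _ _)
  have hm : n < max m₀ (n + 1) := lt_max_of_lt_right n.lt_succ_self
  refine ⟨max m₀ (n + 1), hm, fun i hi => ?_⟩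
  obtain ⟨k, rfl⟩ := Nat.exists_eq_add_of_le (show e + 1 ≤ i from hi)
  clear hi
  induction k with
  | zero =>
    intro N x
    obtain ⟨g, rfl⟩ := hξ N x
    have h1 : (Abelian.Ext.mk₀ (proj I hm.le)).comp ξ (zero_add (e + 1)) = 0 := by
      have h2 : proj I hm.le = proj I (le_max_left m₀ (n + 1)) ≫ proj I h₀ :=
        ModuleCat.hom_ext (Submodule.linearMap_qext _ (LinearMap.ext fun _ => rfl))
      rw [h2, ← Abelian.Ext.mk₀_comp_mk₀, Abelian.Ext.comp_assoc_of_second_deg_zero, h0, Abelian.Ext.comp_zero]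
    rw [← Abelian.Ext.comp_assoc_of_third_deg_zero, h1, Abelian.Ext.zero_comp]
  | succ k ih =>
    intro N x
    obtain ⟨S, hS, hE, e⟩ : ∃ (S : ShortComplex (ModuleCat.{u} A)) (_ : S.ShortExact) (_ : Injective S.X₂), S.X₁ = N :=
      ⟨ShortComplex.mk (Injective.ι N) (Limits.cokernel.π (Injective.ι N)) (Limits.cokernel.condition _),
        { exact := ShortComplex.exact_cokernel _ }, inferInstanceAs (Injective (Injective.under N)), rfl⟩
    subst e
    obtain ⟨y, rfl⟩ := Abelian.Ext.covariant_sequence_exact₁ (Q I n) hS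
      (n₁ := e + 1 + k + 1) (x₁ := x) (Abelian.Ext.eq_zero_of_injective _) (n₀ := e + 1 + k) rfl
    rw [← Abelian.Ext.comp_assoc (h₁₂ := zero_add _) (h₂₃ := rfl) (h := by omega), ih S.X₃ y, Abelian.Ext.zero_comp]

attribute [local instance] HasDerivedCategory.standard

theorem ext_transition_zero {e : ℕ} (he : LocCoh.CdLE A I e) (n : ℕ) :
    ∃ (m : ℕ) (hm : n < m), ∀ (N : Type u) [AddCommGroup N] [Module A N] (i : ℕ), e < i →
      ∀ φ : Dual.inD A (A ⧸ I ^ n) ⟶ (Dual.inD A N)⟦(i : ℤ)⟧,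
        (DerivedCategory.singleFunctor (ModuleCat.{u} A) 0).map (proj I hm.le) ≫ φ = 0 := by
  obtain ⟨m, hm, h⟩ := exists_proj_comp_eq_zero he n
  refine ⟨m, hm, fun N _ _ i hi φ => ?_⟩
  let x : Abelian.Ext (Q I n) (ModuleCat.of A N) i := Abelian.Ext.homAddEquiv.symm φ
  have hx : x.hom = φ := Abelian.Ext.homAddEquiv.apply_symm_apply φ
  have h0 := congrArg Abelian.Ext.homAddEquiv (h i hi _ x)
  rw [map_zero, Abelian.Ext.homAddEquiv_apply, Abelian.Ext.comp_hom, Abelian.Ext.mk₀_hom, ShiftedHom.mk₀_comp] at h0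
  exact hx ▸ h0

end Groth.Agent.LocCohLib
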