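import Groth.Agent.Lib.RegFlat3.Basic
import Groth.Agent.Lib.FlatDepth.Fibre
import Groth.Agent.Lib.Depth.CM
import Groth.Agent.Lib.Depth.More

/-!
Depth of ideals in flat local extensions with Cohen-Macaulay closed fibre.
-/

universe u

open IsLocalRing

namespace Groth.Agent.LocCohLib

theorem idealDepth_ge_of_CM_fibre {R : Type u} [CommRing R] [IsLocalRing R] {S : Type u} [CommRing S] [IsLocalRing S]
    [IsNoetherianRing S] [Algebra R S] [IsLocalHom (algebraMap R S)] [Module.Flat R S]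
    (hCM : LocCoh.IsCohenMacaulayLocalRing (S ⧸ (maximalIdeal R).map (algebraMap R S))) (I : Ideal S) (hI : I ≠ ⊤) :
    ringKrullDim (S ⧸ (maximalIdeal R).map (algebraMap R S)) ≤
      ringKrullDim (S ⧸ ((maximalIdeal R).map (algebraMap R S) ⊔ I)) + ((LocCoh.idealDepth I S : ℕ∞) : WithBot ℕ∞) := by
  set K := (maximalIdeal R).map (algebraMap R S)
  have hs : Function.Surjective (algebraMap S (S ⧸ K)) := Ideal.Quotient.mk_surjective
  have hCM' : LocCoh.IsCohenMacaulayModule S (S ⧸ K) := by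
    unfold LocCoh.IsCohenMacaulayModule
    rw [FlatDepth.supportDim_eq_of_surjective (B := S ⧸ K) _ hs, FlatDepth.depth_eq_of_surjective (B := S ⧸ K) _ hs]
    exact hCM.supportDim_eq_depth
  have hd := DepthLib.supportDim_eq_quotient_add_idealDepth hCM' hI
  rw [FlatDepth.supportDim_eq_of_surjective (B := S ⧸ K) _ hs, Module.supportDim_self_eq_ringKrullDim] at hd
  have hsupp : Module.supportDim S ((S ⧸ K) ⧸ I • (⊤ : Submodule S (S ⧸ K))) = ringKrullDim (S ⧸ (K ⊔ I)) := by
    rw [← Module.supportDim_quotient_eq_ringKrullDim]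
    unfold Module.supportDim
    congr 2
    all_goals
      rw [Module.support_quotient, Module.support_eq_zeroLocus, Ideal.annihilator_quotient, Module.support_eq_zeroLocus,
        Ideal.annihilator_quotient, PrimeSpectrum.zeroLocus_sup]
  rw [hsupp] at hd
  rw [hd]
  gcongr
  refine WithBot.coe_le_coe.2 ?_
  haveI := DepthLib.nontrivial_of_isCohenMacaulayModule hCM'
  obtain ⟨d, hd'⟩ := DepthLib.exists_depth_eq_natCast (R := S) (M := S ⧸ K)
  obtain ⟨g, hg⟩ := ENat.ne_top_iff_exists.1 (ne_top_of_le_ne_top (ENat.natCast_ne_top d)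
    (hd' ▸ DepthLib.idealDepth_le_depth hI : LocCoh.idealDepth I (S ⧸ K) ≤ d))
  obtain ⟨rs, hrs, hrI, hlen⟩ := DepthLib.exists_isWeaklyRegular_of_le_idealDepth (DepthLib.smul_top_ne_top hI) hg.le
  rw [← hg, ← hlen]
  refine DepthLib.length_le_idealDepth (RegFlat3.regular_flat_of_fibre (A := R) rs S ?_).1 hrI
  exact ((Submodule.quotEquivOfEq (K • (⊤ : Submodule S S)) K (by rw [smul_eq_mul, Ideal.mul_top])).isWeaklyRegular_congr rs).2 hrs

end Groth.Agent.LocCohLib
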