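import Groth.Agent.Lib.LocCoh.FiniteH1_27
import Groth.Agent.Lib.LocCoh.CutoffFinite27

/-!
# Finiteness of `H^1_I` through completions
-/

set_option autoImplicit false
universe u

open CategoryTheory IsLocalRing TensorProduct Groth.Agent.InjHullLib

noncomputable section

namespace Groth.Agent.LocCohLib

/-- Finiteness below `min (n+1) cutoff` for `(S_n)` formal fibres. -/
theorem finite_H_of_Sn {A : Type u} [CommRing A] [IsNoetherianRing A] [IsLocalRing A]
    (hU : CAlg.IsUniversallyCatenary A) (I : Ideal A) (M : Type u) [AddCommGroup M] [Module A M] [Module.Finite A M]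
    (n : ℕ) (hS : EGA4.HasSnFormalFibres n A) (i : ℕ) (hin : i ≤ n) (hi : (i : ℕ∞) < Dual2.cutoff A I M) :
    Module.Finite A (LocCoh.H I i M) := by
  haveI := CplLocH7.isNoetherianRing_cpl A
  haveI := CplLocH7.faithfullyFlat_cpl A
  let B := EGA4.Cpl A
  have hcut : ((i + 1 : ℕ) : ℕ∞) ≤ Dual2.cutoff B (I.map (algebraMap A B)) (B ⊗[A] M) := by
    refine le_trans (le_min ?_ ?_) (le_cutoff_tensor hU I hS)
    · rw [Nat.cast_succ]; exact add_le_add (by exact_mod_cast hin) le_rfl
    · rw [Nat.cast_succ]; exact Order.add_one_le_of_lt hi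
  obtain ⟨S, _, _, π, hπ⟩ := exists_surjection_cpl (A := A)
  have hfin := (finite_H_iff_depth S B π hπ (I.map (algebraMap A B)) (B ⊗[A] M) i).2 fun p q hp hq hpq => by
    have h1 := hcut.trans (cutoff_le hpq.le hp hq)
    have h2 : (q.asIdeal.map (Ideal.Quotient.mk p.asIdeal)).height ≤ 1 := by
      refine WithBot.coe_le_coe.1 ((height_map_quotient p q hpq.le).trans_le ?_)
      refine Order.krullDim_le_one_iff.2 fun x => ?_
      rcases hpq.eq_or_eq x.2.1 x.2.2 with hx | hx
      · exact Or.inl fun y _ => show x.1 ≤ y.1 from hx.le.trans y.2.1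
      · exact Or.inr fun y _ => show y.1 ≤ x.1 from y.2.2.trans hx.ge
    have h3 := h1.trans (add_le_add le_rfl h2)
    rw [Nat.cast_succ] at h3
    exact (ENat.add_le_add_iff_right ENat.one_ne_top).1 h3
  obtain ⟨e⟩ := nonempty_baseChange_H (R' := B) I i M
  have := hfin i le_rfl
  haveI : Module.Finite B (B ⊗[A] LocCoh.H I i M) := Module.Finite.equiv e.symm
  exact Module.Finite.of_finite_tensorProduct_of_faithfullyFlat B

/-- Finiteness of `H^1` may be tested at the primes containing `I`. -/
theorem finite_H1_of_locally {A : Type u} [CommRing A] [IsNoetherianRing A] (I : Ideal A) (M : Type u)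
    [AddCommGroup M] [Module A M] [Module.Finite A M]
    (h : ∀ q : PrimeSpectrum A, I ≤ q.asIdeal → Module.Finite (Localization.AtPrime q.asIdeal)
      (LocCoh.H (I.map (algebraMap A (Localization.AtPrime q.asIdeal))) 1 (LocalizedModule q.asIdeal.primeCompl M))) :
    Module.Finite A (LocCoh.H I 1 M) := by
  refine (finite_iff_locally I M 1).2 (fun q _ j hj => ?_) 1 le_rfl
  let L := Localization.AtPrime q
  haveI := IsLocalization.isNoetherianRing q.primeCompl L inferInstance
  rcases Nat.le_one_iff_eq_zero_or_eq_one.1 hj with rfl | rfl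
  · haveI := finite_H_zero I M
    exact Module.Finite.of_isLocalizedModule q.primeCompl (LocalizedModule.mkLinearMap q.primeCompl _)
  by_cases hq : I ≤ q
  · obtain ⟨e⟩ := nonempty_baseChange_H (R' := L) I 1 M
    let eM := (IsLocalizedModule.isBaseChange q.primeCompl L (LocalizedModule.mkLinearMap q.primeCompl M)).equiv
    haveI : Module.Finite L (LocCoh.H (I.map (algebraMap A L)) 1 (LocalizedModule q.primeCompl M)) :=
      h ⟨q, inferInstance⟩ hq
    exact Module.Finite.equiv ((hcongr (I.map (algebraMap A L)) 1 eM).symm.trans (e.symm.trans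
      (IsLocalizedModule.isBaseChange q.primeCompl L
        (LocalizedModule.mkLinearMap q.primeCompl (LocCoh.H I 1 M))).equiv))
  · obtain ⟨c, hc, hcq⟩ := SetLike.not_le_iff_exists.1 hq
    haveI : Subsingleton (LocalizedModule q.primeCompl (LocCoh.H I 1 M)) := by
      rw [LocalizedModule.subsingleton_iff]
      intro z
      obtain ⟨m, hm⟩ := isPowerTorsion I 1 M z
      exact ⟨c ^ m, fun h' => hcq (Ideal.IsPrime.mem_of_pow_mem inferInstance m h'), hm _ (Ideal.pow_mem_pow hc m)⟩
    exact Module.Finite.of_surjective (0 : L →ₗ[L] LocalizedModule q.primeCompl (LocCoh.H I 1 M))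
      fun z => ⟨0, Subsingleton.elim _ _⟩

/-- Cutoff bound for a quotient by a prime. -/
theorem two_le_cutoff_quotient {A : Type u} [CommRing A] [IsNoetherianRing A] (I : Ideal A) (p : PrimeSpectrum A)
    (h : ∀ q : PrimeSpectrum A, p ≤ q → I ≤ q.asIdeal → (2 : ℕ∞) ≤ (q.asIdeal.map (Ideal.Quotient.mk p.asIdeal)).height) :
    (2 : ℕ∞) ≤ Dual2.cutoff A I (A ⧸ p.asIdeal) := by
  refine le_cutoff fun x y hxy hx hy => ?_
  by_cases hsupp : x ∈ Module.support A (A ⧸ p.asIdeal)
  · have hpx : p ≤ x := by
      rw [DepthLib.support_quotient, PrimeSpectrum.mem_zeroLocus] at hsupp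
      exact hsupp
    by_cases heq : p = x
    · subst heq
      exact (h y hxy hy).trans le_add_self
    · have h1 : (1 : ℕ∞) ≤ (y.asIdeal.map (Ideal.Quotient.mk x.asIdeal)).height := by
        rw [← height_Ici_eq_map hxy]
        exact le_add_self.trans (Order.height_add_one_le (a := (⟨x, Set.self_mem_Ici⟩ : Set.Ici x))
          (lt_of_le_of_ne hxy fun e => hx (by
            have : x = y := congrArg Subtype.val e
            rw [this]; exact hy)))
      have h2 : (1 : ℕ∞) ≤ LocCoh.depth (Localization.AtPrime x.asIdeal) (LocalizedModule x.asIdeal.primeCompl (A ⧸ p.asIdeal)) := by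
        obtain ⟨a, hax, hap⟩ := SetLike.not_le_iff_exists.1 fun hle : x.asIdeal ≤ p.asIdeal =>
          heq (le_antisymm hpx hle)
        haveI := IsLocalization.isNoetherianRing x.asIdeal.primeCompl (Localization.AtPrime x.asIdeal) inferInstance
        have hreg : IsSMulRegular (A ⧸ p.asIdeal) a := IsSMulRegular.of_right_eq_zero_of_smul fun z hz => by
          obtain ⟨z, rfl⟩ := Submodule.Quotient.mk_surjective _ z
          rw [← Submodule.Quotient.mk_smul, Submodule.Quotient.mk_eq_zero] at hz
          exact (Submodule.Quotient.mk_eq_zero _).2 ((p.isPrime.mem_or_mem hz).resolve_left hap)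
        refine DepthLib.one_le_idealDepth_of_regular (x := algebraMap A _ a) ?_
          (hreg.of_flat_of_isBaseChange (IsLocalizedModule.isBaseChange x.asIdeal.primeCompl
            (Localization.AtPrime x.asIdeal) (LocalizedModule.mkLinearMap x.asIdeal.primeCompl (A ⧸ p.asIdeal))))
        exact (IsLocalization.AtPrime.to_map_mem_maximal_iff _ x.asIdeal a).2 hax
      calc (2 : ℕ∞) = 1 + 1 := one_add_one_eq_two.symm
        _ ≤ _ := add_le_add h2 h1
  · rw [depth_eq_top_of_not_mem_support x hsupp, top_add]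
    exact le_top

theorem finite_H1_of_Sn_fibres {A : Type u} [CommRing A] [IsNoetherianRing A] (hU : CAlg.IsUniversallyCatenary A)
    (I : Ideal A) (hF : ∀ q : PrimeSpectrum A, I ≤ q.asIdeal → EGA4.HasSnFormalFibres 1 (Localization.AtPrime q.asIdeal))
    (p : PrimeSpectrum A)
    (h : ∀ q : PrimeSpectrum A, p ≤ q → I ≤ q.asIdeal → (2 : ℕ∞) ≤ (q.asIdeal.map (Ideal.Quotient.mk p.asIdeal)).height) :
    Module.Finite A (LocCoh.H I 1 (A ⧸ p.asIdeal)) := by
  refine finite_H1_of_locally I _ fun q hq => ?_
  haveI := IsLocalization.isNoetherianRing q.asIdeal.primeCompl (Localization.AtPrime q.asIdeal) inferInstance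
  have hcut : (2 : ℕ∞) ≤ Dual2.cutoff (Localization.AtPrime q.asIdeal) (I.map (algebraMap A _))
      (LocalizedModule q.asIdeal.primeCompl (A ⧸ p.asIdeal)) :=
    (two_le_cutoff_quotient I p h).trans (cutoff_le_localized q.asIdeal I (A ⧸ p.asIdeal))
  exact finite_H_of_Sn (UCat.isUniversallyCatenary_of_essFiniteType A _ hU) _ _ 1 (hF q hq) 1 le_rfl
    (lt_of_lt_of_le (by norm_num) hcut)

end Groth.Agent.LocCohLib
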