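import Groth.Agent.Lib.LocCoh.GradedPoly27
import Mathlib.RingTheory.Filtration
import Mathlib.LinearAlgebra.TensorProduct.RightExactness
import Mathlib.Algebra.Module.Pi

/-!
# The graded map on `I^{nc'} N`
-/

set_option autoImplicit false

universe u

open MvPolynomial TensorProduct

noncomputable section

namespace Groth.Agent.LocCohLib

variable {A : Type u} [CommRing A] [IsNoetherianRing A] {r : ℕ} {I : Ideal A} {c : ℕ}
  {B : Type u} [CommRing B] [Algebra A B] [IsNoetherianRing B]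
  {N : Type u} [AddCommGroup N] [Module B N] [Module.Finite B N]

/-- `I^k N` as a span. -/
def spanPow (B N : Type u) [CommRing B] [Algebra A B] [AddCommGroup N] [Module B N] (I : Ideal A) (k : ℕ) :
    Submodule B N :=
  Submodule.span B {y : N | ∃ g ∈ I ^ k, ∃ x : N, y = algebraMap A B g • x}

theorem exists_shift (φ : Fin r → (↥(I ^ c) →ₗ[A] A)) :
    ∃ c' : ℕ, c ≤ c' ∧ ∃ T : Fin r → ↥(spanPow B N I c') →ₗ[B] N,
      ∀ (j : Fin r) (g : A) (hg : g ∈ I ^ c') (x : N),
        T j ⟨algebraMap A B g • x, Submodule.subset_span ⟨g, hg, x, rfl⟩⟩ = algebraMap A B (ev φ j g) • x := by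
  obtain ⟨s, e, he⟩ := Submodule.fg_iff_exists_fin_generating_family.1 (IsNoetherian.noetherian (I ^ c : Ideal A))
  let μ : (Fin s → N) →ₗ[B] N := ∑ i, algebraMap A B (e i) • LinearMap.proj i
  let P : Fin r → (Fin s → N) →ₗ[B] N := fun j => ∑ i, algebraMap A B (ev φ j (e i)) • LinearMap.proj i
  have hμ : ∀ x, μ x = ∑ i, algebraMap A B (e i) • x i := fun x => by simp [μ]
  have hP : ∀ j x, P j x = ∑ i, algebraMap A B (ev φ j (e i)) • x i := fun j x => by simp [P]
  have hei : ∀ i, e i ∈ I ^ c := fun i => he ▸ Submodule.subset_span ⟨i, rfl⟩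
  let J : Ideal B := I.map (algebraMap A B)
  -- the kernel maps into what `I^c` kills
  have hkill : ∀ j, ∀ x ∈ LinearMap.ker μ, ∀ b ∈ J ^ c, b • P j x = 0 := by
    intro j x hx b hb
    rw [← Ideal.map_pow] at hb
    refine Submodule.span_induction (p := fun b _ => b • P j x = 0) ?_ (zero_smul _ _)
      (fun u v _ _ hu hv => by rw [add_smul, hu, hv, add_zero]) (fun u v _ hv => by rw [smul_assoc, hv, smul_zero]) hb
    rintro _ ⟨a, ha, rfl⟩
    have h1 : ∀ i, a * ev φ j (e i) = ev φ j a * e i := fun i => by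
      rw [← ev_mul φ a (hei i), mul_comm a (e i), ev_mul φ (e i) ha, mul_comm]
    rw [hP, Finset.smul_sum]
    calc ∑ i, algebraMap A B a • algebraMap A B (ev φ j (e i)) • x i
        = algebraMap A B (ev φ j a) • ∑ i, algebraMap A B (e i) • x i := by
          rw [Finset.smul_sum]
          exact Finset.sum_congr rfl fun i _ => by rw [← mul_smul, ← mul_smul, ← map_mul, ← map_mul, h1]
      _ = 0 := by rw [← hμ, LinearMap.mem_ker.1 hx, smul_zero]
  obtain ⟨k, hk⟩ := J.exists_pow_inf_eq_pow_smul (LinearMap.ker μ)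
  let D : Submodule B (Fin s → N) := J ^ (c + k) • ⊤
  let μ' : D →ₗ[B] N := μ.domRestrict D
  have hfac : ∀ j, LinearMap.ker μ' ≤ LinearMap.ker ((P j).domRestrict D) := fun j x hx => by
    have hmem : (x : Fin s → N) ∈ J ^ c • (J ^ k • (⊤ : Submodule B (Fin s → N)) ⊓ LinearMap.ker μ) := by
      have h2 : (x : Fin s → N) ∈ J ^ (c + k) • (⊤ : Submodule B (Fin s → N)) ⊓ LinearMap.ker μ := ⟨x.2, hx⟩
      rwa [hk (c + k) (Nat.le_add_left k c), Nat.add_sub_cancel] at h2
    refine LinearMap.mem_ker.2 ?_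
    show P j x = 0
    refine Submodule.smul_induction_on hmem (fun b hb y hy => ?_) fun u v hu hv => by rw [map_add, hu, hv, add_zero]
    rw [map_smul, hkill j y hy.2 b hb]
  have hmem : ∀ g ∈ I ^ (c + (c + k)), ∀ x : N, ∃ z : D, μ' z = algebraMap A B g • x ∧
      ∀ j, P j z = algebraMap A B (ev φ j g) • x := by
    intro g hg x
    have hg' : g ∈ I ^ (c + k) * I ^ c := by rwa [← pow_add, add_comm (c + k) c]
    have key : g ∈ I ^ c ∧ ∃ z : D, μ' z = algebraMap A B g • x ∧ ∀ j, P j z = algebraMap A B (ev φ j g) • x :=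
      Submodule.mul_induction_on (C := fun g => g ∈ I ^ c ∧ ∃ z : D, μ' z = algebraMap A B g • x ∧
          ∀ j, P j z = algebraMap A B (ev φ j g) • x) hg' (fun a ha b hb => by
        obtain ⟨α, hα⟩ := (Submodule.mem_span_range_iff_exists_fun A).1 (he.symm ▸ hb : b ∈ Submodule.span A (Set.range e))
        have hab : a * b = ∑ i, (a * α i) * e i := by rw [← hα, Finset.mul_sum]; simp [mul_assoc]
        have hev : ∀ j, ev φ j (a * b) = ∑ i, (a * α i) * ev φ j (e i) := fun j => by
          rw [hab]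
          have hh : ∑ i, a * α i * e i ∈ I ^ c := sum_mem fun i _ => Ideal.mul_mem_left _ _ (hei i)
          rw [ev_eq φ hh]
          have : (⟨_, hh⟩ : ↥(I ^ c)) = ∑ i, (a * α i) • (⟨e i, hei i⟩ : ↥(I ^ c)) := Subtype.ext (by simp)
          rw [this, map_sum]
          exact Finset.sum_congr rfl fun i _ => by rw [map_smul, smul_eq_mul, ev_eq φ (hei i)]
        refine ⟨Ideal.mul_mem_left _ a hb, ⟨fun i => algebraMap A B a • algebraMap A B (α i) • x, ?_⟩, ?_, fun j => ?_⟩
        · have : (fun i => algebraMap A B a • algebraMap A B (α i) • x) =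
              algebraMap A B a • fun i => algebraMap A B (α i) • x := rfl
          rw [this]
          exact Submodule.smul_mem_smul (by rw [← Ideal.map_pow]; exact Ideal.mem_map_of_mem _ ha) trivial
        · show μ _ = _
          rw [hμ, hab, map_sum, Finset.sum_smul]
          exact Finset.sum_congr rfl fun i _ => by
            show algebraMap A B (e i) • algebraMap A B a • algebraMap A B (α i) • x = _
            simp only [← mul_smul, ← map_mul]; congr 2; ring
        · show P j _ = _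
          rw [hP, hev, map_sum, Finset.sum_smul]
          exact Finset.sum_congr rfl fun i _ => by
            simp only [← mul_smul, ← map_mul]; congr 2; ring)
      fun a b ⟨ha, za, h1, h2⟩ ⟨hb, zb, h3, h4⟩ => ⟨add_mem ha hb, za + zb,
        by rw [map_add, h1, h3, map_add, add_smul],
        fun j => by rw [Submodule.coe_add, map_add, h2, h4, ev_add φ ha hb, map_add, add_smul]⟩
    exact key.2
  refine ⟨c + (c + k), Nat.le_add_right _ _, ?_⟩
  have hle : spanPow B N I (c + (c + k)) ≤ LinearMap.range μ' := Submodule.span_le.2 fun y ⟨g, hg, x, hy⟩ => by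
    obtain ⟨z, hz, -⟩ := hmem g hg x
    exact ⟨z, hz.trans hy.symm⟩
  refine ⟨fun j => ((LinearMap.ker μ').liftQ ((P j).domRestrict D) (hfac j)) ∘ₗ
    μ'.quotKerEquivRange.symm.toLinearMap ∘ₗ Submodule.inclusion hle, fun j g hg x => ?_⟩
  obtain ⟨z, hz, hzP⟩ := hmem g hg x
  rw [LinearMap.comp_apply, LinearMap.comp_apply, LinearEquiv.coe_coe,
    show μ'.quotKerEquivRange.symm (Submodule.inclusion hle
      ⟨algebraMap A B g • x, Submodule.subset_span ⟨g, hg, x, rfl⟩⟩) = Submodule.Quotient.mk z from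
      (LinearEquiv.symm_apply_eq _).2 (Subtype.ext hz.symm)]
  exact hzP j

theorem exists_module_map (f : Fin r → A) (φ : Fin r → (↥(I ^ c) →ₗ[A] A))
    (hφ : ∀ x : ↥(I ^ c), (x : A) = ∑ j, f j * φ j x) :
    ∃ c' : ℕ, ∃ hcc' : c ≤ c', ∀ n : ℕ,
      ∃ Ψ : ↥(spanPow B N I (n * c')) →ₗ[B] (MvPolynomial (Fin r) B ⊗[B] N),
        (∀ (g : A) (hg : g ∈ I ^ (n * c')) (x : N),
          Ψ ⟨algebraMap A B g • x, Submodule.subset_span ⟨g, hg, x, rfl⟩⟩ =
            MvPolynomial.map (algebraMap A B)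
              (Φ (fun j => φ j ∘ₗ Submodule.inclusion (Ideal.pow_le_pow_right hcc')) n g) ⊗ₜ[B] x) := by
  obtain ⟨c', hcc', T, hT⟩ := exists_shift (B := B) (N := N) φ
  refine ⟨c', hcc', fun n => ?_⟩
  set φ' : Fin r → (↥(I ^ c') →ₗ[A] A) := fun j => φ j ∘ₗ Submodule.inclusion (Ideal.pow_le_pow_right hcc')
  have hev : ∀ (j : Fin r) (g : A), g ∈ I ^ c' → ev φ j g = ev φ' j g := fun j g hg => by
    rw [ev_eq φ (Ideal.pow_le_pow_right hcc' hg), ev_eq φ' hg]; rfl
  induction n with
  | zero =>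
    refine ⟨TensorProduct.mk B _ N 1 ∘ₗ Submodule.subtype _, fun g hg x => ?_⟩
    show (1 : MvPolynomial (Fin r) B) ⊗ₜ[B] (algebraMap A B g • x) = _
    rw [← smul_tmul, Φ, map_C, MvPolynomial.smul_eq_C_mul, mul_one]
  | succ n ih =>
    obtain ⟨Ψ, hΨ⟩ := ih
    have hle : spanPow B N I ((n + 1) * c') ≤ spanPow B N I c' :=
      Submodule.span_mono fun y ⟨g, hg, x, hy⟩ => ⟨g, le_pow_succ_mul n hg, x, hy⟩
    have hTmem : ∀ j, ∀ y, (T j ∘ₗ Submodule.inclusion hle) y ∈ spanPow B N I (n * c') := fun j y => by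
      obtain ⟨y, hy⟩ := y
      refine Submodule.span_induction (p := fun y hy => (T j ∘ₗ Submodule.inclusion hle) ⟨y, hy⟩ ∈ spanPow B N I (n * c'))
        ?_ ?_ ?_ ?_ hy
      · rintro _ ⟨g, hg, x, rfl⟩
        rw [LinearMap.comp_apply]
        refine (hT j g (le_pow_succ_mul n hg) x).symm ▸ Submodule.subset_span ⟨_, ?_, x, rfl⟩
        rw [hev j g (le_pow_succ_mul n hg)]
        exact ev_mem φ' n hg
      · exact (map_zero (T j ∘ₗ Submodule.inclusion hle)).symm ▸ zero_mem _
      · intro a b ha hb h1 h2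
        exact (map_add (T j ∘ₗ Submodule.inclusion hle) ⟨a, ha⟩ ⟨b, hb⟩).symm ▸ add_mem h1 h2
      · intro t a ha h1
        exact (map_smul (T j ∘ₗ Submodule.inclusion hle) t ⟨a, ha⟩).symm ▸ Submodule.smul_mem _ t h1
    refine ⟨∑ j, (LinearMap.mulLeft B (X j : MvPolynomial (Fin r) B)).rTensor N ∘ₗ Ψ ∘ₗ
      LinearMap.codRestrict _ (T j ∘ₗ Submodule.inclusion hle) (hTmem j), fun g hg x => ?_⟩
    rw [LinearMap.sum_apply, Φ, map_sum, TensorProduct.sum_tmul]
    refine Finset.sum_congr rfl fun j _ => ?_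
    have hg' : ev φ' j g ∈ I ^ (n * c') := ev_mem φ' n hg
    have e : LinearMap.codRestrict _ (T j ∘ₗ Submodule.inclusion hle) (hTmem j)
        ⟨algebraMap A B g • x, Submodule.subset_span ⟨g, hg, x, rfl⟩⟩ =
        (⟨algebraMap A B (ev φ' j g) • x, Submodule.subset_span ⟨_, hg', x, rfl⟩⟩ : ↥(spanPow B N I (n * c'))) :=
      Subtype.ext ((hT j g (le_pow_succ_mul n hg) x).trans (by rw [hev j g (le_pow_succ_mul n hg)]))
    rw [LinearMap.comp_apply, LinearMap.comp_apply, e, hΨ _ hg' x, LinearMap.rTensor_tmul, LinearMap.mulLeft_apply,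
      map_mul, map_X]

end Groth.Agent.LocCohLib
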