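import Groth.Agent.Lib.LocCoh.AdjDepthBasics27
import Groth.Agent.Lib.LocCoh.Restrict

/-!
# Local cohomology at a prime after a change of rings
-/

set_option autoImplicit false

universe u

open CategoryTheory Groth.Agent.InjHullLib IsLocalRing Groth.Agent

noncomputable section

namespace Groth.Agent.LocCohLib

section Depth

variable {R S : Type u} [CommRing R] [CommRing S] [Algebra R S] [IsNoetherianRing R] [IsNoetherianRing S]
variable {M N : Type u} [AddCommGroup M] [Module R M] [AddCommGroup N] [Module R N] [Module S N]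
  [IsScalarTower R S N]

/-- Vanishing of local cohomology at a prime after a change of rings that does not change the local picture. -/
theorem subsingleton_H_of_change (P : Ideal S) [P.IsPrime] (p : Ideal R) [p.IsPrime]
    (hp : p = P.comap (algebraMap R S))
    (hS : ∀ x : S, ∃ r : R, r ∉ p ∧ ∃ a : R, algebraMap R S r * x = algebraMap R S a)
    (ψ : M →ₗ[R] N) (hψ : ∀ n : N, ∃ r : R, r ∉ p ∧ ∃ m, r • n = ψ m)
    (hker : ∀ m : M, ψ m = 0 → ∃ r : R, r ∉ p ∧ r • m = 0) (i : ℕ) :
    Subsingleton (LocCoh.H (maximalIdeal (Localization.AtPrime p)) i (LocalizedModule p.primeCompl M)) ↔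
      Subsingleton (LocCoh.H (maximalIdeal (Localization.AtPrime P)) i (LocalizedModule P.primeCompl N)) := by
  let A := Localization.AtPrime p
  let B := Localization.AtPrime P
  let N' := LocalizedModule P.primeCompl N
  have hout : ∀ r : R, r ∉ p → algebraMap R S r ∉ P := fun r hr => by rwa [hp] at hr
  have hmul : ∀ {r r' : R}, r ∉ p → r' ∉ p → r * r' ∉ p := fun {r r'} h h' hh =>
    (Ideal.IsPrime.mem_or_mem inferInstance hh).elim h h'
  have hS' : ∀ t : S, t ∉ P → ∃ v : S, ∃ r : R, r ∉ p ∧ v * t = algebraMap R S r := fun t ht => by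
    obtain ⟨r, hr, a, ha⟩ := hS t
    refine ⟨algebraMap R S r, a, fun hap => ?_, ha⟩
    rw [hp, Ideal.mem_comap, ← ha] at hap
    exact (Ideal.IsPrime.mem_or_mem inferInstance hap).elim (hout r hr) ht
  let φ : M →ₗ[R] N' := ((LocalizedModule.mkLinearMap P.primeCompl N).restrictScalars R) ∘ₗ ψ
  have hunit : ∀ r : p.primeCompl, IsUnit (algebraMap R (Module.End R N') r) := fun r => by
    rw [Module.End.isUnit_iff]
    have := (Module.End.isUnit_iff _).1
      (IsLocalizedModule.map_units (LocalizedModule.mkLinearMap P.primeCompl N) (⟨algebraMap R S r, hout r r.2⟩ : P.primeCompl))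
    convert this using 1
    ext z
    exact (algebraMap_smul S (r : R) z).symm
  have : IsLocalizedModule p.primeCompl φ := by
    refine ⟨hunit, fun z => ?_, fun {m₁ m₂} e => ?_⟩
    · obtain ⟨n, t, rfl⟩ : ∃ (n : N) (t : P.primeCompl), LocalizedModule.mk n t = z :=
        LocalizedModule.induction_on (fun n t => ⟨n, t, rfl⟩) z
      obtain ⟨v, r, hr, hv⟩ := hS' t t.2
      obtain ⟨r', hr', m, hm⟩ := hψ (v • n)
      refine ⟨⟨m, ⟨r * r', hmul hr hr'⟩⟩, ?_⟩
      show (r * r') • LocalizedModule.mk n t = LocalizedModule.mk (ψ m) 1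
      rw [← algebraMap_smul S (r * r'), LocalizedModule.smul'_mk, map_mul, ← hv, mul_comm (v * (t : S)), mul_smul,
        algebraMap_smul, mul_comm v, mul_smul, smul_comm r' (t : S), hm, LocalizedModule.mk_eq]
      exact ⟨1, by simp [Submonoid.smul_def]⟩
    · obtain ⟨c, hc⟩ := LocalizedModule.mk_eq.1 (show LocalizedModule.mk (ψ m₁) 1 = LocalizedModule.mk (ψ m₂) 1 from e)
      obtain ⟨v, r, hr, hv⟩ := hS' c c.2
      have h0 : ψ (r • (m₁ - m₂)) = 0 := by
        rw [map_smul, map_sub, ← algebraMap_smul S r (_ - _), ← hv, mul_smul, smul_sub]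
        simp only [Submonoid.smul_def, one_smul] at hc
        rw [hc, sub_self, smul_zero]
      obtain ⟨r', hr', h⟩ := hker _ h0
      refine ⟨⟨r' * r, hmul hr' hr⟩, ?_⟩
      rw [smul_sub, smul_sub, sub_eq_zero] at h
      simpa [Submonoid.smul_def, mul_smul] using h
  let f : A →+* B := Localization.localRingHom p P (algebraMap R S) hp
  let _ : Algebra A B := f.toAlgebra
  let _ : Module A N' := Module.compHom N' f
  have : IsScalarTower A B N' := ⟨fun a b z => by
    show (f a * b) • z = f a • b • z
    rw [mul_smul]⟩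
  have hf : ∀ r : R, f (algebraMap R A r) = algebraMap S B (algebraMap R S r) :=
    Localization.localRingHom_to_map p P (algebraMap R S) hp
  have : IsScalarTower R A N' := ⟨fun r a z => by
    show f (r • a) • z = r • f a • z
    rw [Algebra.smul_def, map_mul, hf, mul_smul, algebraMap_smul, algebraMap_smul]⟩
  have hsurj : Function.Surjective (algebraMap A B) := fun z => by
    obtain ⟨x, t, rfl⟩ := IsLocalization.exists_mk'_eq P.primeCompl z
    obtain ⟨v, r, hr, hv⟩ := hS' t t.2
    obtain ⟨r', hr', a, ha⟩ := hS (v * x)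
    refine ⟨IsLocalization.mk' A a (⟨r * r', hmul hr hr'⟩ : p.primeCompl), ?_⟩
    show f _ = _
    rw [Localization.localRingHom_mk', IsLocalization.mk'_eq_iff_eq]
    congr 1
    show (t : S) * algebraMap R S a = algebraMap R S (r * r') * x
    rw [map_mul, ← ha, ← hv]; ring
  have hmap : (maximalIdeal A).map (algebraMap A B) = maximalIdeal B := by
    refine le_antisymm (IsLocalRing.le_maximalIdeal fun htop => ?_) fun z hz => ?_
    · obtain ⟨x, hx, hx1⟩ := (Ideal.mem_map_iff_of_surjective _ hsurj).1
        ((Ideal.eq_top_iff_one _).1 htop)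
      have : IsLocalHom f := Localization.isLocalHom_localRingHom p P (algebraMap R S) hp
      exact hx (isUnit_of_map_unit f x (show IsUnit (f x) from (hx1 : f x = 1) ▸ isUnit_one))
    · obtain ⟨x, rfl⟩ := hsurj z
      exact Ideal.mem_map_of_mem _ (fun hu : IsUnit x => hz (hu.map (algebraMap A B)))
  rw [← hmap, subsingleton_restrictScalars_iff B (maximalIdeal A) N' i]
  exact (hcongr (maximalIdeal A) i
    ((IsLocalizedModule.iso p.primeCompl φ).extendScalarsOfIsLocalization p.primeCompl A)).toEquiv.subsingleton_congr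

end Depth

end Groth.Agent.LocCohLib
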