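import Groth.Agent.Lib.SectionCompOpen4
import Groth.Agent.Lib.AlgSpDecent.FiniteMin
import Groth.Agent.S0335

/-!
# Hartshorne connectedness and connected components
-/

set_option autoImplicit false
universe u

open AlgebraicGeometry CategoryTheory Topology

noncomputable section

namespace Groth.Agent.LocCohLib

variable {X : Scheme.{u}} [IsLocallyNoetherian X]

/-- The proper generizations of a point of depth at least two form a connected set. -/
theorem isConnected_proper_generizations (x : X) (h : (2 : ℕ∞) ≤ LocCoh.depth (X.presheaf.stalk x) (X.presheaf.stalk x)) :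
    _root_.IsConnected {z : X | z ⤳ x ∧ z ≠ x} := by
  let f := X.fromSpecStalk x
  have hpre : _root_.IsConnected {q : PrimeSpectrum (X.presheaf.stalk x) | q.asIdeal ≠ IsLocalRing.maximalIdeal _} :=
    S0335.result _ h
  have hemb : IsEmbedding f := f.isEmbedding
  have himg : f '' {q : PrimeSpectrum (X.presheaf.stalk x) | q.asIdeal ≠ IsLocalRing.maximalIdeal _} =
      {z : X | z ⤳ x ∧ z ≠ x} := by
    ext z
    constructor
    · rintro ⟨q, hq, rfl⟩
      refine ⟨?_, fun e => hq ?_⟩
      · have : f q ∈ Set.range f := ⟨q, rfl⟩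
        rwa [Scheme.range_fromSpecStalk] at this
      · have : q = IsLocalRing.closedPoint (X.presheaf.stalk x) :=
          hemb.injective (e.trans Scheme.fromSpecStalk_closedPoint.symm)
        rw [this]; rfl
    · rintro ⟨hz, hne⟩
      have : z ∈ Set.range f := by rw [Scheme.range_fromSpecStalk]; exact hz
      obtain ⟨q, rfl⟩ := this
      exact ⟨q, fun e => hne (by
        rw [show q = IsLocalRing.closedPoint (X.presheaf.stalk x) from PrimeSpectrum.ext e]
        exact Scheme.fromSpecStalk_closedPoint), rfl⟩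
  exact himg ▸ hpre.image f f.continuous.continuousOn

/-- Every nonempty set has a point without proper generizations in it. -/
theorem exists_minimal_generization (S : Set X) (x : X) (hx : x ∈ S) :
    ∃ y ∈ S, ∀ z ∈ S, z ⤳ y → z = y := by
  let f := X.fromSpecStalk x
  let T : Set (PrimeSpectrum (X.presheaf.stalk x)) := {q | f q ∈ S}
  have hT : T.Nonempty := ⟨IsLocalRing.closedPoint _, by show f _ ∈ S; rwa [Scheme.fromSpecStalk_closedPoint]⟩
  let ht : PrimeSpectrum (X.presheaf.stalk x) → ℕ∞ := fun q => q.asIdeal.height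
  set q := Function.argminOn ht T hT with hq
  refine ⟨f q, Function.argminOn_mem ht T hT, fun z hz hzq => ?_⟩
  have hzx : z ∈ Set.range f := by
    rw [Scheme.range_fromSpecStalk]
    have : f q ∈ Set.range f := ⟨q, rfl⟩
    rw [Scheme.range_fromSpecStalk] at this
    exact hzq.trans this
  obtain ⟨r, rfl⟩ := hzx
  have hrq : r.asIdeal ≤ q.asIdeal := (PrimeSpectrum.le_iff_specializes r q).2 (f.isEmbedding.isInducing.specializes_iff.1 hzq)
  rcases hrq.eq_or_lt with heq | hlt
  · exact congrArg f (PrimeSpectrum.ext heq)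
  · exact absurd (Ideal.height_strict_mono_of_isPrime (I := r.asIdeal) (J := q.asIdeal) hlt)
      (not_lt.2 (Function.argminOn_le ht T hz))

/-- The closure of an open subset consists of specializations of its points. -/
theorem exists_specializes_of_mem_closure_open (V : X.Opens) (y : X) (hy : y ∈ closure (V : Set X)) :
    ∃ z ∈ V, z ⤳ y := by
  rw [← V.range_ι] at hy
  obtain ⟨z, hz⟩ := AlgSpDecent.exists_specializes_of_mem_closure_range V.ι hy
  exact ⟨V.ι z, by rw [← SetLike.mem_coe, ← V.range_ι]; exact ⟨z, rfl⟩, hz⟩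

theorem connectedComponentsMap_bijective (U : X.Opens)
    (h : ∀ x : X, x ∉ (U : Set X) → (2 : ℕ∞) ≤ LocCoh.depth (X.presheaf.stalk x) (X.presheaf.stalk x)) :
    Function.Bijective
      (Continuous.connectedComponentsMap (continuous_subtype_val : Continuous (fun x : U => (x : X)))) := by
  haveI := SectionCompOpen4.locallyConnectedSpace X
  haveI : LocallyConnectedSpace U := U.isOpen.isOpenEmbedding_subtypeVal.locallyConnectedSpace
  haveI : LocallyConnectedSpace ↥(U : Set X) := U.isOpen.isOpenEmbedding_subtypeVal.locallyConnectedSpace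
  -- every point has a generization in `U`
  have hgen : ∀ x : X, ∃ z ∈ U, z ⤳ x := fun x => by
    obtain ⟨y, hyx, hy⟩ := exists_minimal_generization {z : X | z ⤳ x} x specializes_rfl
    refine ⟨y, ?_, hyx⟩
    by_contra hyU
    obtain ⟨z, hzy, hne⟩ := (isConnected_proper_generizations y (h y hyU)).nonempty
    exact hne (hy z (hzy.trans hyx) hzy)
  have hcomp : ∀ {z x : X}, z ⤳ x → z ∈ connectedComponent x := fun {z x} hzx =>
    hzx.mem_open isOpen_connectedComponent mem_connectedComponent
  constructor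
  · intro c₁ c₂ hc
    obtain ⟨u₁, rfl⟩ := ConnectedComponents.surjective_coe c₁
    obtain ⟨u₂, rfl⟩ := ConnectedComponents.surjective_coe c₂
    have hC : connectedComponent (u₁ : X) = connectedComponent (u₂ : X) := ConnectedComponents.coe_eq_coe.1 hc
    refine ConnectedComponents.coe_eq_coe.2 (connectedComponent_eq ?_)
    by_contra hne
    let C := connectedComponent (u₁ : X)
    let U₁ : X.Opens := ⟨Subtype.val '' connectedComponent u₁,
      U.isOpen.isOpenMap_subtype_val _ isOpen_connectedComponent⟩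
    let U₂ : X.Opens := ⟨Subtype.val '' ((connectedComponent u₁)ᶜ ∩ Subtype.val ⁻¹' C),
      U.isOpen.isOpenMap_subtype_val _
        (isClosed_connectedComponent.isOpen_compl.inter (isOpen_connectedComponent.preimage continuous_subtype_val))⟩
    have hC₁ : (U₁ : Set X) ⊆ C :=
      (isPreconnected_connectedComponent.image _ continuous_subtype_val.continuousOn).subset_connectedComponent
        ⟨u₁, mem_connectedComponent, rfl⟩
    have hC₂ : (U₂ : Set X) ⊆ C := by rintro _ ⟨v, ⟨-, hv⟩, rfl⟩; exact hv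
    have hdisj : ∀ z ∈ U₁, z ∉ U₂ := by
      rintro _ ⟨v, hv, rfl⟩ ⟨w, ⟨hw, -⟩, e⟩
      exact hw (Subtype.ext e ▸ hv)
    have hU₂ : (u₂ : X) ∈ U₂ := ⟨u₂, ⟨hne, show (u₂ : X) ∈ connectedComponent (u₁ : X) from hC ▸ mem_connectedComponent⟩, rfl⟩
    have hcov : ∀ z ∈ C, (z : X) ∈ U → z ∈ U₁ ∨ z ∈ U₂ := fun z hz hzU => by
      by_cases hv : (⟨z, hzU⟩ : U) ∈ connectedComponent u₁
      · exact Or.inl ⟨_, hv, rfl⟩
      · exact Or.inr ⟨_, ⟨hv, hz⟩, rfl⟩
    have hclos : C ⊆ closure (U₁ : Set X) ∪ closure (U₂ : Set X) := fun x hx => by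
      obtain ⟨z, hzU, hzx⟩ := hgen x
      have hzC : z ∈ C := hzx.mem_open isOpen_connectedComponent hx
      rcases hcov z hzC hzU with h' | h'
      · exact Or.inl (hzx.mem_closed isClosed_closure (subset_closure h'))
      · exact Or.inr (hzx.mem_closed isClosed_closure (subset_closure h'))
    obtain ⟨x₀, -, hx₀⟩ := isPreconnected_closed_iff.1 (isPreconnected_connectedComponent (x := (u₁ : X))) _ _
      isClosed_closure isClosed_closure hclos
      ⟨_, mem_connectedComponent, subset_closure (⟨u₁, mem_connectedComponent, rfl⟩ : (u₁ : X) ∈ U₁)⟩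
      ⟨_, hC₂ hU₂, subset_closure hU₂⟩
    obtain ⟨x, ⟨hx₁, hx₂⟩, hmin⟩ := exists_minimal_generization (closure (U₁ : Set X) ∩ closure (U₂ : Set X)) x₀ hx₀
    have hxC : x ∈ C := closure_minimal hC₁ isClosed_connectedComponent hx₁
    have hxU : x ∉ U := fun hxU => by
      obtain ⟨z₁, hz₁, hs₁⟩ := exists_specializes_of_mem_closure_open U₁ x hx₁
      obtain ⟨z₂, hz₂, hs₂⟩ := exists_specializes_of_mem_closure_open U₂ x hx₂
      rcases hcov x hxC hxU with h' | h'
      · exact hdisj z₂ (hs₂.mem_open U₁.2 h') hz₂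
      · exact hdisj z₁ hz₁ (hs₁.mem_open U₂.2 h')
    obtain ⟨z₁, hz₁, hs₁⟩ := exists_specializes_of_mem_closure_open U₁ x hx₁
    obtain ⟨z₂, hz₂, hs₂⟩ := exists_specializes_of_mem_closure_open U₂ x hx₂
    have hU₁U : ∀ z ∈ U₁, z ∈ U := by rintro _ ⟨v, -, rfl⟩; exact v.2
    have hU₂U : ∀ z ∈ U₂, z ∈ U := by rintro _ ⟨v, -, rfl⟩; exact v.2
    obtain ⟨z, ⟨hzx, hzne⟩, hz⟩ := isPreconnected_closed_iff.1
      (isConnected_proper_generizations x (h x hxU)).isPreconnected _ _ isClosed_closure isClosed_closure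
      (fun z hz => hclos (hz.1.mem_open isOpen_connectedComponent hxC))
      ⟨z₁, ⟨hs₁, fun e => hxU (e ▸ hU₁U z₁ hz₁)⟩, subset_closure hz₁⟩
      ⟨z₂, ⟨hs₂, fun e => hxU (e ▸ hU₂U z₂ hz₂)⟩, subset_closure hz₂⟩
    exact hzne (hmin z hz hzx)
  · intro c
    obtain ⟨x, rfl⟩ := ConnectedComponents.surjective_coe c
    obtain ⟨z, hzU, hzx⟩ := hgen x
    exact ⟨ConnectedComponents.mk ⟨z, hzU⟩,
      ConnectedComponents.coe_eq_coe.2 (connectedComponent_eq (hcomp hzx)).symm⟩

end Groth.Agent.LocCohLib
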