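import Groth.Prelude.Def_DualLC
import Mathlib.RingTheory.Length
import Mathlib.RingTheory.Flat.EquationalCriterion

/-!
# Independent families (every relation has coefficients in the ideal)
-/

universe u

open Finset

noncomputable section

namespace Groth.Agent.LocCohLib

variable {A : Type u} [CommRing A] {r : ℕ}

theorem sum_update_mul (f : Fin r → A) (j : Fin r) (y : A) (a : Fin r → A) :
    ∑ i, a i * Function.update f j y i = a j * y + ∑ i ∈ univ.erase j, a i * f i := by
  rw [← add_sum_erase _ _ (mem_univ j), Function.update_self]
  congr 1
  exact sum_congr rfl fun i hi => by rw [Function.update_of_ne (mem_erase.1 hi).1]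

theorem span_update_mul_le (f : Fin r → A) (j : Fin r) (g : A) :
    Ideal.span (Set.range (Function.update f j (f j * g))) ≤ Ideal.span (Set.range f) := by
  rw [Ideal.span_le]
  rintro _ ⟨i, rfl⟩
  rcases eq_or_ne i j with rfl | hi
  · rw [Function.update_self]
    exact Ideal.mul_mem_right _ _ (Ideal.subset_span (Set.mem_range_self _))
  · rw [Function.update_of_ne hi]
    exact Ideal.subset_span (Set.mem_range_self _)

theorem independent_of_mul {f : Fin r → A} {j : Fin r} {g : A}
    (h : Dual2.Independent (Function.update f j (f j * g))) : Dual2.Independent f := by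
  intro a ha
  set h' := Function.update f j (f j * g) with hh
  have hle := span_update_mul_le f j g
  have h1 : a j ∈ Ideal.span (Set.range h') := by
    have hrel : ∑ i, Function.update (fun i => a i * g) j (a j) i * h' i = 0 := by
      rw [hh, sum_update_mul, Function.update_self]
      calc a j * (f j * g) + ∑ i ∈ univ.erase j, Function.update (fun i => a i * g) j (a j) i * f i
          = g * (a j * f j + ∑ i ∈ univ.erase j, a i * f i) := by
            rw [mul_add, mul_sum]
            congr 1
            · ring
            · exact sum_congr rfl fun i hi => by rw [Function.update_of_ne (mem_erase.1 hi).1]; ring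
        _ = 0 := by rw [add_sum_erase univ (fun i => a i * f i) (mem_univ j), ha, mul_zero]
    have := h _ hrel j
    rwa [Function.update_self] at this
  obtain ⟨c, hc⟩ := (Ideal.mem_span_range_iff_exists_fun).1 h1
  intro i
  rcases eq_or_ne i j with rfl | hi
  · exact hle h1
  have hrel : ∑ i, Function.update (fun i => a i + c i * f j) j (c j * f j) i * h' i = 0 := by
    rw [hh, sum_update_mul, Function.update_self]
    rw [hh, sum_update_mul] at hc
    calc c j * f j * (f j * g) + ∑ i ∈ univ.erase j, Function.update (fun i => a i + c i * f j) j (c j * f j) i * f i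
        = (c j * (f j * g) + ∑ i ∈ univ.erase j, c i * f i) * f j + ∑ i ∈ univ.erase j, a i * f i := by
          rw [add_mul, sum_mul, add_assoc, ← sum_add_distrib]
          congr 1
          · ring
          · exact sum_congr rfl fun i hi => by rw [Function.update_of_ne (mem_erase.1 hi).1]; ring
      _ = 0 := by
          rw [hc, add_sum_erase univ (fun i => a i * f i) (mem_univ j), ha]
  have h2 := hle (h _ hrel i)
  rw [Function.update_of_ne hi] at h2
  exact (Ideal.add_mem_iff_left _ (Ideal.mul_mem_left _ _ (Ideal.subset_span (Set.mem_range_self j)))).1 h2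

theorem mem_of_mul_mem {f : Fin r → A} {j : Fin r} {g x : A}
    (h : Dual2.Independent (Function.update f j (f j * g)))
    (hx : x * g ∈ Ideal.span (Set.range (Function.update f j (f j * g)))) :
    x ∈ Ideal.span (Set.range f) := by
  obtain ⟨c, hc⟩ := (Ideal.mem_span_range_iff_exists_fun).1 hx
  rw [sum_update_mul] at hc
  have hrel : ∑ i, Function.update (fun i => -(c i * f j)) j (x - c j * f j) i *
      Function.update f j (f j * g) i = 0 := by
    rw [sum_update_mul, Function.update_self]
    calc (x - c j * f j) * (f j * g) + ∑ i ∈ univ.erase j,
          Function.update (fun i => -(c i * f j)) j (x - c j * f j) i * f i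
        = f j * (x * g) - f j * (c j * (f j * g) + ∑ i ∈ univ.erase j, c i * f i) := by
          rw [mul_add (f j), mul_sum]
          rw [show ∀ p q t : A, p - (q + t) = (p - q) + -t from fun p q t => by ring, ← sum_neg_distrib]
          congr 1
          · ring
          · exact sum_congr rfl fun i hi => by rw [Function.update_of_ne (mem_erase.1 hi).1]; ring
      _ = 0 := by rw [hc, sub_self]
  have h2 := span_update_mul_le f j g (h _ hrel j)
  rw [Function.update_self] at h2
  simpa using add_mem h2 (Ideal.mul_mem_left (Ideal.span (Set.range f)) (c j) (Ideal.subset_span (Set.mem_range_self j)))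

theorem length_update_mul {f : Fin r → A} {j : Fin r} {g : A}
    (h : Dual2.Independent (Function.update f j (f j * g))) :
    Module.length A (A ⧸ Ideal.span (Set.range (Function.update f j (f j * g)))) =
      Module.length A (A ⧸ Ideal.span (Set.range f)) +
        Module.length A (A ⧸ Ideal.span (Set.range (Function.update f j g))) := by
  set Jh := Ideal.span (Set.range (Function.update f j (f j * g)))
  set Jf := Ideal.span (Set.range f)
  set Jg := Ideal.span (Set.range (Function.update f j g))
  have hmul : Jf ≤ Submodule.comap (LinearMap.mulRight A g) Jh := by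
    rw [← Submodule.map_le_iff_le_comap, Submodule.map_span, Submodule.span_le]
    rintro _ ⟨_, ⟨i, rfl⟩, rfl⟩
    change f i * g ∈ Jh
    rcases eq_or_ne i j with rfl | hi
    · have := Ideal.subset_span (Set.mem_range_self (f := Function.update f i (f i * g)) i)
      rwa [Function.update_self] at this
    · have := Ideal.subset_span (Set.mem_range_self (f := Function.update f j (f j * g)) i)
      rw [Function.update_of_ne hi] at this
      exact Ideal.mul_mem_right _ _ this
  have hle : Jh ≤ Jg := by
    rw [Ideal.span_le]
    rintro _ ⟨i, rfl⟩
    rcases eq_or_ne i j with rfl | hi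
    · rw [Function.update_self]
      have := Ideal.subset_span (Set.mem_range_self (f := Function.update f i g) i)
      rw [Function.update_self] at this
      exact Ideal.mul_mem_left _ _ this
    · have := Ideal.subset_span (Set.mem_range_self (f := Function.update f j g) i)
      rw [Function.update_of_ne hi] at this ⊢
      exact this
  refine Module.length_eq_add_of_exact (Submodule.mapQ Jf Jh (LinearMap.mulRight A g) hmul)
    (Submodule.mapQ Jh Jg LinearMap.id hle) ?_ ?_ ?_
  · rw [injective_iff_map_eq_zero]
    intro x hx
    obtain ⟨x, rfl⟩ := Submodule.Quotient.mk_surjective _ x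
    rw [Submodule.mapQ_apply, Submodule.Quotient.mk_eq_zero] at hx
    exact (Submodule.Quotient.mk_eq_zero _).2 (mem_of_mul_mem h hx)
  · intro x
    obtain ⟨x, rfl⟩ := Submodule.Quotient.mk_surjective _ x
    exact ⟨Submodule.Quotient.mk x, rfl⟩
  · intro x
    obtain ⟨x, rfl⟩ := Submodule.Quotient.mk_surjective _ x
    rw [Submodule.mapQ_apply, Submodule.Quotient.mk_eq_zero]
    constructor
    · intro hx
      obtain ⟨c, hc⟩ := (Ideal.mem_span_range_iff_exists_fun).1 (show x ∈ Jg from hx)
      rw [sum_update_mul] at hc
      refine ⟨Submodule.Quotient.mk (c j), ?_⟩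
      rw [Submodule.mapQ_apply, Submodule.Quotient.eq]
      change c j * g - x ∈ Jh
      rw [← hc, sub_add_cancel_left, neg_mem_iff]
      refine sum_mem fun i hi => ?_
      have := Ideal.subset_span (Set.mem_range_self (f := Function.update f j (f j * g)) i)
      rw [Function.update_of_ne (mem_erase.1 hi).1] at this
      exact Ideal.mul_mem_left _ _ this
    · rintro ⟨y, hy⟩
      obtain ⟨y, rfl⟩ := Submodule.Quotient.mk_surjective _ y
      rw [Submodule.mapQ_apply, Submodule.Quotient.eq] at hy
      change y * g - x ∈ Jh at hy
      have h1 : y * g ∈ Jg := by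
        have := Ideal.subset_span (Set.mem_range_self (f := Function.update f j g) j)
        rw [Function.update_self] at this
        exact Ideal.mul_mem_left _ _ this
      simpa using sub_mem h1 (hle hy)

theorem length_quotient_powers [IsLocalRing A] (x : Fin r → A)
    (hx : Ideal.span (Set.range x) = IsLocalRing.maximalIdeal A) (N : ℕ) :
    ∀ e : Fin r → ℕ, (∀ i, 0 < e i) → ∑ i, e i ≤ N → Dual2.Independent (fun i => x i ^ e i) →
      Module.length A (A ⧸ Ideal.span (Set.range fun i => x i ^ e i)) = ∏ i, (e i : ℕ∞) := by
  induction N with
  | zero =>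
    intro e he hs _
    rcases r with _ | r
    · have : Ideal.span (Set.range fun i : Fin 0 => x i ^ e i) = IsLocalRing.maximalIdeal A := by
        rw [← hx]; congr 1; simp [Set.range_eq_empty]
      rw [this]
      have : IsSimpleModule A (A ⧸ IsLocalRing.maximalIdeal A) :=
        isSimpleModule_iff_isCoatom.2 (IsLocalRing.maximalIdeal.isMaximal A).out
      rw [Module.length_eq_one]
      simp
    · have h1 := he 0
      have h2 := Finset.single_le_sum (f := e) (fun i _ => Nat.zero_le _) (Finset.mem_univ 0)
      omega
  | succ N ih =>
    intro e he hs hind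
    by_cases hall : ∀ i, e i = 1
    · rw [show (fun i => x i ^ e i) = x from funext fun i => by rw [hall, pow_one], hx]
      have : IsSimpleModule A (A ⧸ IsLocalRing.maximalIdeal A) :=
        isSimpleModule_iff_isCoatom.2 (IsLocalRing.maximalIdeal.isMaximal A).out
      rw [Module.length_eq_one]
      simp [hall]
    push Not at hall
    obtain ⟨j, hj⟩ := hall
    have hj' : 2 ≤ e j := by have := he j; omega
    obtain ⟨k, hk⟩ : ∃ k, e j = k + 1 := ⟨e j - 1, by omega⟩
    let e1 := Function.update e j k
    let e2 := Function.update e j 1
    have hf : (fun i => x i ^ e i) = Function.update (fun i => x i ^ e1 i) j ((fun i => x i ^ e1 i) j * x j) := by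
      funext i
      rcases eq_or_ne i j with rfl | hi
      · simp [e1, hk, pow_succ]
      · simp [e1, hi]
    have hg : (fun i => x i ^ e2 i) = Function.update (fun i => x i ^ e1 i) j (x j) := by
      funext i
      rcases eq_or_ne i j with rfl | hi
      · simp [e2]
      · simp [e1, e2, hi]
    have hsum : ∀ v, (∑ i, Function.update e j v i) + e j = (∑ i, e i) + v := fun v => by
      rw [← add_sum_erase _ _ (mem_univ j), ← add_sum_erase univ e (mem_univ j), Function.update_self,
        sum_congr rfl fun i hi => Function.update_of_ne (mem_erase.1 hi).1 v e]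
      abel
    have hprod : ∀ v, (∏ i, (Function.update e j v i : ℕ∞)) = v * ∏ i ∈ univ.erase j, (e i : ℕ∞) := fun v => by
      rw [← mul_prod_erase _ _ (mem_univ j), Function.update_self,
        prod_congr rfl fun i hi => by rw [Function.update_of_ne (mem_erase.1 hi).1 v e]]
    rw [hf] at hind
    have hind2 : Dual2.Independent (fun i => x i ^ e2 i) := by
      rw [hg]
      refine independent_of_mul (j := j) (g := x j ^ k) ?_
      rw [Function.update_idem, Function.update_self]
      convert hind using 2
      simp [e1, mul_comm]
    have hs1 := hsum k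
    have hs2 := hsum 1
    rw [hf, length_update_mul hind, ← hg,
      ih e1 (fun i => by rcases eq_or_ne i j with rfl | hi <;> simp [e1, *] <;> omega)
        (by change ∑ i, Function.update e j k i ≤ N; omega) (independent_of_mul hind),
      ih e2 (fun i => by rcases eq_or_ne i j with rfl | hi <;> simp [e2, *] <;> omega)
        (by change ∑ i, Function.update e j 1 i ≤ N; omega) hind2,
      hprod, hprod, ← add_mul, ← mul_prod_erase univ (fun i => (e i : ℕ∞)) (mem_univ j), hk]
    push_cast
    rfl

theorem independent_map {B : Type u} [CommRing B] [Algebra A B] [Module.Flat A B] {f : Fin r → A}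
    (hf : Dual2.Independent f) : Dual2.Independent (fun i => algebraMap A B (f i)) := by
  intro b hb i
  obtain ⟨k, a, y, h1, h2⟩ := Module.Flat.isTrivialRelation_of_sum_smul_eq_zero (R := A) (f := f) (x := b)
    (by simpa [Algebra.smul_def, mul_comm] using hb)
  rw [h1 i]
  refine sum_mem fun l _ => ?_
  rw [Algebra.smul_def]
  refine Ideal.mul_mem_right _ _ ?_
  have := Ideal.mem_map_of_mem (algebraMap A B) (hf (fun i => a i l) (by simpa [mul_comm] using h2 l) i)
  rw [Ideal.map_span, ← Set.range_comp] at this
  exact this

end Groth.Agent.LocCohLib
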