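import Groth.Agent.Lib.LocCoh.FiniteH1Formal27
import Groth.Agent.Lib.FlatDepth.CplQuot

/-!
# Kollár's criterion for finiteness of `H^1_I`
-/

set_option autoImplicit false
universe u

open CategoryTheory IsLocalRing TensorProduct Groth.Agent.InjHullLib

noncomputable section

namespace Groth.Agent.LocCohLib

/-- Finiteness of local cohomology up to degree `n` bounds the depth in codimension one off `I`. -/
theorem le_depth_of_finite_H {B : Type u} [CommRing B] [IsNoetherianRing B] (I : Ideal B) (M : Type u)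
    [AddCommGroup M] [Module B M] [Module.Finite B M] (n : ℕ)
    (hfin : ∀ i : ℕ, i ≤ n → Module.Finite B (LocCoh.H I i M)) (p q : PrimeSpectrum B) (hp : ¬ I ≤ p.asIdeal)
    (hq : I ≤ q.asIdeal) (hpq : p ⋖ q) :
    (n : ℕ∞) ≤ LocCoh.depth (Localization.AtPrime p.asIdeal) (LocalizedModule p.asIdeal.primeCompl M) := by
  obtain ⟨J, hJ, hkill⟩ := (finite_iff_annihilated I M n).1 hfin
  have hlow : ((n + 1 : ℕ) : ℕ∞) ≤ LocCoh.finDimRel I I M := le_iInf₂ fun i hi => by
    by_contra hlt
    refine hi (hJ.trans (Ideal.radical_mono fun a ha => Module.mem_annihilator.2 fun x => hkill i ?_ a ha x))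
    have : i < n + 1 := by exact_mod_cast not_le.1 hlt
    omega
  have h1 := hlow.trans (finDimRel_le_adjDepth I I M p hp)
  have hht : ((I ⊔ p.asIdeal).map (Ideal.Quotient.mk p.asIdeal)).height ≤ 1 := by
    refine (Ideal.height_mono (Ideal.map_mono (sup_le hq hpq.le))).trans ?_
    refine WithBot.coe_le_coe.1 ((height_map_quotient p q hpq.le).trans_le ?_)
    refine Order.krullDim_le_one_iff.2 fun x => ?_
    rcases hpq.eq_or_eq x.2.1 x.2.2 with hx | hx
    · exact Or.inl fun y _ => show x.1 ≤ y.1 from hx.le.trans y.2.1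
    · exact Or.inr fun y _ => show y.1 ≤ x.1 from y.2.2.trans hx.ge
  have h2 := h1.trans (add_le_add le_rfl hht)
  rw [Nat.cast_succ] at h2
  exact (ENat.addLECancellable_of_ne_top ENat.one_ne_top).add_le_add_iff_right.1 h2

theorem assoc_of_completion_quotient {L : Type u} [CommRing L] [IsNoetherianRing L] [IsLocalRing L] (p : Ideal L)
    [IsLocalRing (L ⧸ p)] (J : Ideal (L ⧸ p)) (hJ : J = maximalIdeal (L ⧸ p))
    (h : ∀ P ∈ associatedPrimes (AdicCompletion J (L ⧸ p)) (AdicCompletion J (L ⧸ p)),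
      (2 : WithBot ℕ∞) ≤ ringKrullDim (AdicCompletion J (L ⧸ p) ⧸ P))
    (P : Ideal (EGA4.Cpl L))
    (hP : P ∈ associatedPrimes (EGA4.Cpl L) (EGA4.Cpl L ⧸ p.map (algebraMap L (EGA4.Cpl L)))) :
    (2 : WithBot ℕ∞) ≤ ringKrullDim (EGA4.Cpl L ⧸ P) := by
  subst hJ
  haveI := CplLocH7.isNoetherianRing_cpl L
  haveI := CplLocH7.isNoetherianRing_cpl (L ⧸ p)
  let π := FlatDepth.cplQuotHom L (L ⧸ p) Ideal.Quotient.mk_surjective
  have hπ : Function.Surjective π := FlatDepth.cplQuotHom_surjective L (L ⧸ p) Ideal.Quotient.mk_surjective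
  have hk : RingHom.ker π = p.map (algebraMap L (EGA4.Cpl L)) := by
    rw [FlatDepth.ker_cplQuotHom L (L ⧸ p) Ideal.Quotient.mk_surjective, Ideal.Quotient.algebraMap_eq, Ideal.mk_ker]
  haveI := IsAssociatedPrime.isPrime hP
  obtain ⟨-, x, hx⟩ := isAssociatedPrime_iff.1 hP
  obtain ⟨x, rfl⟩ := Ideal.Quotient.mk_surjective x
  have hxP : ∀ r, r ∈ P ↔ π r * π x = 0 := fun r => by
    rw [hx, Submodule.mem_colon_singleton, Submodule.mem_bot, Algebra.smul_def, Ideal.Quotient.algebraMap_eq,
      ← map_mul, Ideal.Quotient.eq_zero_iff_mem, ← hk, RingHom.mem_ker, map_mul]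
  have hkP : RingHom.ker π ≤ P := fun r hr => (hxP r).2 (by rw [RingHom.mem_ker.1 hr, zero_mul])
  have hass : P.map π ∈ associatedPrimes (EGA4.Cpl (L ⧸ p)) (EGA4.Cpl (L ⧸ p)) := by
    refine isAssociatedPrime_iff.2 ⟨Ideal.map_isPrime_of_surjective hπ hkP, π x, ?_⟩
    ext r
    obtain ⟨r, rfl⟩ := hπ r
    rw [Submodule.mem_colon_singleton, Submodule.mem_bot, smul_eq_mul, ← hxP, ← Ideal.mem_comap,
      Ideal.comap_map_of_surjective _ hπ, ← RingHom.ker_eq_comap_bot, sup_of_le_left hkP]
  refine (h _ hass).trans (le_of_eq ?_)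
  let φ := (Ideal.Quotient.mk (P.map π)).comp π
  have hφk : RingHom.ker φ = P := by
    rw [← RingHom.comap_ker, Ideal.mk_ker, Ideal.comap_map_of_surjective _ hπ, ← RingHom.ker_eq_comap_bot,
      sup_of_le_left hkP]
  exact (ringKrullDim_eq_of_ringEquiv ((Ideal.quotEquivOfEq hφk.symm).trans
    (RingHom.quotientKerEquivOfSurjective (f := φ) (Ideal.Quotient.mk_surjective.comp hπ)))).symm

variable {A : Type u} [CommRing A] [IsNoetherianRing A] (I : Ideal A)

theorem finite_H1_of_completion_assoc (p : PrimeSpectrum A)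
    (h : ∀ q : PrimeSpectrum A, p ≤ q → I ≤ q.asIdeal →
      ∀ P ∈ associatedPrimes (EGA4.Cpl (Localization.AtPrime q.asIdeal))
        (EGA4.Cpl (Localization.AtPrime q.asIdeal) ⧸ (p.asIdeal.map (algebraMap A (Localization.AtPrime q.asIdeal))).map
          (algebraMap (Localization.AtPrime q.asIdeal) (EGA4.Cpl (Localization.AtPrime q.asIdeal)))),
        (2 : WithBot ℕ∞) ≤ ringKrullDim (EGA4.Cpl (Localization.AtPrime q.asIdeal) ⧸ P)) :
    Module.Finite A (LocCoh.H I 1 (A ⧸ p.asIdeal)) := by
  let M := A ⧸ p.asIdeal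
  suffices hmain : ∀ (n : ℕ) (q : PrimeSpectrum A), q.asIdeal.height = n →
      Module.Finite (Localization.AtPrime q.asIdeal) (LocalizedModule q.asIdeal.primeCompl (LocCoh.H I 1 M)) by
    refine (finite_iff_locally I M 1).2 (fun q hq j hj => ?_) 1 le_rfl
    rcases Nat.le_one_iff_eq_zero_or_eq_one.1 hj with rfl | rfl
    · haveI := finite_H_zero I M
      exact Module.Finite.of_isLocalizedModule q.primeCompl (LocalizedModule.mkLinearMap q.primeCompl _)
    obtain ⟨n, hn⟩ := ENat.ne_top_iff_exists.1 (Ideal.height_lt_top hq.ne_top).ne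
    exact hmain n ⟨q, hq⟩ hn.symm
  intro n
  induction n using Nat.strong_induction_on with
  | _ n ih =>
  intro q hqn
  by_cases hIq : I ≤ q.asIdeal
  swap
  · obtain ⟨c, hc, hcq⟩ := SetLike.not_le_iff_exists.1 hIq
    haveI : Subsingleton (LocalizedModule q.asIdeal.primeCompl (LocCoh.H I 1 M)) := by
      rw [LocalizedModule.subsingleton_iff]
      intro z
      obtain ⟨m, hm⟩ := isPowerTorsion I 1 M z
      exact ⟨c ^ m, fun h' => hcq (q.isPrime.mem_of_pow_mem m h'), hm _ (Ideal.pow_mem_pow hc m)⟩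
    exact Module.Finite.of_surjective
      (0 : Localization.AtPrime q.asIdeal →ₗ[Localization.AtPrime q.asIdeal] LocalizedModule q.asIdeal.primeCompl (LocCoh.H I 1 M))
      fun z => ⟨0, Subsingleton.elim _ _⟩
  let L := Localization.AtPrime q.asIdeal
  haveI := IsLocalization.isNoetherianRing q.asIdeal.primeCompl L inferInstance
  haveI := CplLocH7.isNoetherianRing_cpl L
  haveI := CplLocH7.faithfullyFlat_cpl L
  let B := EGA4.Cpl L
  haveI : Module.Flat A L := IsLocalization.flat L q.asIdeal.primeCompl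
  haveI : Module.Flat A B := Module.Flat.trans A L B
  let M' := B ⊗[A] M
  obtain ⟨e⟩ := nonempty_baseChange_H (R' := B) I 1 M
  obtain ⟨e₀⟩ := nonempty_baseChange_H (R' := B) I 0 M
  obtain ⟨S, _, _, π, hπ⟩ := exists_surjection_cpl (A := L)
  have hdepth : ∀ P Q : PrimeSpectrum B, ¬ I.map (algebraMap A B) ≤ P.asIdeal → I.map (algebraMap A B) ≤ Q.asIdeal →
      P ⋖ Q → ((1 : ℕ) : ℕ∞) ≤ LocCoh.depth (Localization.AtPrime P.asIdeal) (LocalizedModule P.asIdeal.primeCompl M') := by
    intro P Q hP hQ hPQ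
    by_contra hlt
    rw [Nat.cast_one, ENat.one_le_iff_ne_zero, not_not] at hlt
    haveI := IsLocalization.isNoetherianRing P.asIdeal.primeCompl (Localization.AtPrime P.asIdeal) inferInstance
    obtain ⟨Pm, hPm, hle⟩ := DepthLib.exists_associatedPrime_ge (R := Localization.AtPrime P.asIdeal)
      (M := LocalizedModule P.asIdeal.primeCompl M') (I := maximalIdeal (Localization.AtPrime P.asIdeal))
      fun r hr hreg => by
        have := DepthLib.one_le_idealDepth_of_regular hr hreg
        rw [show LocCoh.idealDepth (maximalIdeal (Localization.AtPrime P.asIdeal)) (LocalizedModule P.asIdeal.primeCompl M') = 0 from hlt] at this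
        exact absurd this (by simp)
    have hPass : P.asIdeal ∈ associatedPrimes B M' := by
      have hEq : Pm = maximalIdeal (Localization.AtPrime P.asIdeal) :=
        le_antisymm (le_maximalIdeal (IsAssociatedPrime.isPrime hPm).ne_top) hle
      have h1 := Module.associatedPrimes.comap_mem_associatedPrimes_of_mem_associatedPrimes_of_isLocalizedModule_of_fg
        P.asIdeal.primeCompl (LocalizedModule.mkLinearMap P.asIdeal.primeCompl M') _ hPm (IsNoetherian.noetherian _)
      rw [hEq] at h1
      rwa [show (maximalIdeal (Localization.AtPrime P.asIdeal)).comap (algebraMap B (Localization.AtPrime P.asIdeal)) = P.asIdeal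
        from Localization.AtPrime.under_maximalIdeal] at h1
    let eM' : M' ≃ₗ[B] B ⧸ p.asIdeal.map (algebraMap A B) :=
      (FlatDepth.tensorQuotEquiv B p.asIdeal).trans
        (Submodule.quotEquivOfEq _ _ (by rw [Ideal.smul_eq_mul, Ideal.mul_top]))
    have hPass' : P.asIdeal ∈ associatedPrimes B (B ⧸ p.asIdeal.map (algebraMap A B)) :=
      associatedPrimes.subset_of_injective (f := eM'.toLinearMap) eM'.injective hPass
    have hmm : (p.asIdeal.map (algebraMap A L)).map (algebraMap L B) = p.asIdeal.map (algebraMap A B) := by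
      rw [Ideal.map_map, ← IsScalarTower.algebraMap_eq]
    have hpP : p.asIdeal.map (algebraMap A B) ≤ P.asIdeal := by
      have := IsAssociatedPrime.annihilator_le hPass'
      rwa [Submodule.annihilator_top, Ideal.annihilator_quotient] at this
    have hpq : p ≤ q := by
      intro a ha
      by_contra haq
      exact P.isPrime.ne_top (Ideal.eq_top_of_isUnit_mem _ (hpP (Ideal.mem_map_of_mem _ ha))
        (by rw [IsScalarTower.algebraMap_apply A L B]; exact (IsLocalization.map_units L (⟨a, haq⟩ : q.asIdeal.primeCompl)).map _))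
    by_cases hQm : Q.asIdeal = maximalIdeal B
    · have h2 := h q hpq hIq P.asIdeal (hmm ▸ hPass')
      rw [ringKrullDim_quotient_eq_height P] at h2
      have h3 : ((maximalIdeal B).map (Ideal.Quotient.mk P.asIdeal)).height ≤ 1 := by
        rw [← hQm]
        refine WithBot.coe_le_coe.1 ((height_map_quotient P Q hPQ.le).trans_le ?_)
        refine Order.krullDim_le_one_iff.2 fun x => ?_
        rcases hPQ.eq_or_eq x.2.1 x.2.2 with hx | hx
        · exact Or.inl fun y _ => show x.1 ≤ y.1 from hx.le.trans y.2.1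
        · exact Or.inr fun y _ => show y.1 ≤ x.1 from y.2.2.trans hx.ge
      have h4 : (2 : ℕ∞) ≤ 1 := (WithBot.coe_le_coe.1 h2).trans h3
      exact absurd h4 (by norm_num)
    -- otherwise `Q` lies over a smaller prime
    let q' : PrimeSpectrum A := PrimeSpectrum.comap (algebraMap A B) Q
    have hq'le : q'.asIdeal ≤ q.asIdeal := fun a ha => by
      by_contra haq
      exact Q.isPrime.ne_top (Ideal.eq_top_of_isUnit_mem _ (show algebraMap A B a ∈ Q.asIdeal from ha)
        (by rw [IsScalarTower.algebraMap_apply A L B]; exact (IsLocalization.map_units L (⟨a, haq⟩ : q.asIdeal.primeCompl)).map _))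
    have hlt' : q'.asIdeal < q.asIdeal := lt_of_le_of_ne hq'le fun he => hQm (le_antisymm (le_maximalIdeal Q.isPrime.ne_top) (by
      have hmB : maximalIdeal B = q.asIdeal.map (algebraMap A B) := by
        refine (CplLocH7.maximalIdeal_cpl L).trans ((congrArg (Ideal.map (algebraMap L B))
          (Localization.AtPrime.map_eq_maximalIdeal (I := q.asIdeal)).symm).trans ?_)
        rw [Ideal.map_map, ← IsScalarTower.algebraMap_eq]
      rw [hmB, Ideal.map_le_iff_le_comap]
      exact he.ge))
    obtain ⟨m, hm⟩ := ENat.ne_top_iff_exists.1 (Ideal.height_lt_top q'.isPrime.ne_top).ne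
    have hmn : m < n := by
      have := Ideal.height_strict_mono_of_isPrime hlt'
      rw [← hm, hqn] at this
      exact_mod_cast this
    haveI := ih m hmn q' hm.symm
    let BQ := Localization.AtPrime Q.asIdeal
    haveI := IsLocalization.isNoetherianRing Q.asIdeal.primeCompl BQ inferInstance
    let L' := Localization.AtPrime q'.asIdeal
    have hu : ∀ y : q'.asIdeal.primeCompl, IsUnit (algebraMap A BQ y) := fun y => by
      rw [IsScalarTower.algebraMap_apply A B BQ]
      exact IsLocalization.map_units BQ (⟨algebraMap A B y, y.2⟩ : Q.asIdeal.primeCompl)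
    letI : Algebra L' BQ := (IsLocalization.lift hu).toAlgebra
    haveI : IsScalarTower A L' BQ := IsScalarTower.of_algebraMap_eq fun a => (IsLocalization.lift_eq hu a).symm
    haveI : Module.Flat A BQ := by
      haveI : Module.Flat B BQ := IsLocalization.flat BQ Q.asIdeal.primeCompl
      exact Module.Flat.trans A B BQ
    have hfinQ : ∀ i : ℕ, i ≤ 1 → Module.Finite BQ (LocCoh.H (I.map (algebraMap A BQ)) i (BQ ⊗[A] M)) := by
      intro i hi
      rcases Nat.le_one_iff_eq_zero_or_eq_one.1 hi with rfl | rfl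
      · exact finite_H_zero _ _
      · obtain ⟨eQ⟩ := nonempty_baseChange_H (R' := BQ) I 1 M
        let eH := (IsLocalizedModule.isBaseChange q'.asIdeal.primeCompl L'
          (LocalizedModule.mkLinearMap q'.asIdeal.primeCompl (LocCoh.H I 1 M))).equiv
        haveI : Module.Finite L' (L' ⊗[A] LocCoh.H I 1 M) := Module.Finite.equiv eH.symm
        haveI : Module.Finite BQ (BQ ⊗[A] LocCoh.H I 1 M) :=
          Module.Finite.equiv (AlgebraTensorModule.cancelBaseChange A L' BQ BQ (LocCoh.H I 1 M))
        exact Module.Finite.equiv eQ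
    have hdisj : ∀ X : PrimeSpectrum B, X ≤ Q → ∃ X' : PrimeSpectrum BQ, PrimeSpectrum.comap (algebraMap B BQ) X' = X :=
      fun X hX => ⟨⟨_, (isPrime_map_atPrime hX).1⟩, PrimeSpectrum.ext (isPrime_map_atPrime hX).2⟩
    obtain ⟨P', hP'⟩ := hdisj P hPQ.le
    obtain ⟨Q', hQ'⟩ := hdisj Q le_rfl
    have hcomap : ∀ x y : PrimeSpectrum BQ, PrimeSpectrum.comap (algebraMap B BQ) x ≤ PrimeSpectrum.comap (algebraMap B BQ) y → x ≤ y :=
      fun x y hxy => (IsLocalization.map_under Q.asIdeal.primeCompl BQ x.asIdeal).ge.trans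
        ((Ideal.map_mono hxy).trans (IsLocalization.map_under Q.asIdeal.primeCompl BQ y.asIdeal).le)
    have hcov : P' ⋖ Q' := by
      refine ⟨lt_of_le_not_ge (hcomap _ _ (by rw [hP', hQ']; exact hPQ.le)) fun hle' => hPQ.lt.not_ge
        (le_of_eq_of_le hQ'.symm (le_of_le_of_eq (show PrimeSpectrum.comap (algebraMap B BQ) Q' ≤
          PrimeSpectrum.comap (algebraMap B BQ) P' from Ideal.comap_mono hle') hP')), fun {x} h1 h2 => ?_⟩
      have g1 : PrimeSpectrum.comap (algebraMap B BQ) P' < PrimeSpectrum.comap (algebraMap B BQ) x :=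
        lt_of_le_not_ge (Ideal.comap_mono h1.le) fun h => h1.not_ge (hcomap _ _ h)
      have g2 : PrimeSpectrum.comap (algebraMap B BQ) x < PrimeSpectrum.comap (algebraMap B BQ) Q' :=
        lt_of_le_not_ge (Ideal.comap_mono h2.le) fun h => h2.not_ge (hcomap _ _ h)
      replace g1 := lt_of_eq_of_lt hP'.symm g1
      replace g2 := lt_of_lt_of_eq g2 hQ'
      exact hPQ.2 g1 g2
    have key := le_depth_of_finite_H (I.map (algebraMap A BQ)) (BQ ⊗[A] M) 1 hfinQ P' Q'
      (fun hle' => hP (by
        rw [Ideal.map_le_iff_le_comap, IsScalarTower.algebraMap_eq A B BQ, ← Ideal.comap_comap, ← Ideal.map_le_iff_le_comap,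
          ← PrimeSpectrum.comap_asIdeal, hP'] at hle'
        exact hle'))
      (by
        rw [Ideal.map_le_iff_le_comap, IsScalarTower.algebraMap_eq A B BQ, ← Ideal.comap_comap, ← Ideal.map_le_iff_le_comap,
          ← PrimeSpectrum.comap_asIdeal, hQ']
        exact hQ) hcov
    let ψ : M' →ₗ[B] BQ ⊗[A] M := AlgebraTensorModule.rTensor A M (Algebra.linearMap B BQ)
    haveI : IsLocalizedModule Q.asIdeal.primeCompl ψ := inferInstance
    have hout : ∀ r : Q.asIdeal.primeCompl, (r : B) ∉ (PrimeSpectrum.comap (algebraMap B BQ) P').asIdeal :=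
      fun r hr => r.2 (hPQ.le (hP' ▸ hr))
    have hd := depth_eq_of_change (R := B) (S := BQ) P'.asIdeal (PrimeSpectrum.comap (algebraMap B BQ) P').asIdeal rfl
      (fun x => by
        obtain ⟨⟨a, r⟩, hh⟩ := IsLocalization.surj Q.asIdeal.primeCompl x
        exact ⟨r, hout r, a, by rw [mul_comm]; exact hh⟩)
      ψ (fun z => by
        obtain ⟨⟨m, r⟩, hh⟩ := IsLocalizedModule.surj Q.asIdeal.primeCompl ψ z
        exact ⟨r, hout r, m, hh⟩)
      (fun m hm => by
        obtain ⟨r, hh⟩ := (IsLocalizedModule.eq_zero_iff Q.asIdeal.primeCompl ψ).1 hm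
        exact ⟨r, hout r, hh⟩)
    rw [← hd] at key
    subst hP'
    rw [hlt] at key
    exact absurd key (by simp)
  have hfinB := (finite_H_iff_depth S B π hπ (I.map (algebraMap A B)) M' 1).2 hdepth 1 le_rfl
  haveI : Module.Finite B (B ⊗[A] LocCoh.H I 1 M) := Module.Finite.equiv e.symm
  let eL := (IsLocalizedModule.isBaseChange q.asIdeal.primeCompl L
    (LocalizedModule.mkLinearMap q.asIdeal.primeCompl (LocCoh.H I 1 M))).equiv
  haveI : Module.Finite B (B ⊗[L] (L ⊗[A] LocCoh.H I 1 M)) :=
    Module.Finite.equiv (AlgebraTensorModule.cancelBaseChange A L B B (LocCoh.H I 1 M)).symm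
  haveI : Module.Finite L (L ⊗[A] LocCoh.H I 1 M) := Module.Finite.of_finite_tensorProduct_of_faithfullyFlat B
  exact Module.Finite.equiv eL

end Groth.Agent.LocCohLib
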