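import Groth.Agent.Lib.LocCoh.LocFreeKill27
import Groth.Agent.Lib.LocCoh.Finiteness

/-!
Finiteness of local cohomology of modules locally free on the punctured spectrum.
-/

universe u

noncomputable section

namespace Groth.Agent.LocCohLib

variable {R : Type u} [CommRing R] [IsNoetherianRing R]

theorem finite_localCohomology_of_locally_free (I : Ideal R) (n : ℕ) (hR : ∀ i : ℕ, i ≤ n → Module.Finite R (LocCoh.H I i R))
    (M : Type u) [AddCommGroup M] [Module R M] [Module.Finite R M]
    (hM : ∀ f ∈ I, Module.Projective (Localization.Away f) (LocalizedModule (Submonoid.powers f) M)) (i : ℕ) (hi : i ≤ n) :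
    Module.Finite R (LocCoh.H I i M) := by
  obtain ⟨J, hJ, hJ'⟩ := (finite_iff_annihilated I R n).1 hR
  obtain ⟨N, hN⟩ := Ideal.exists_pow_le_of_le_radical_of_fg hJ (IsNoetherian.noetherian I)
  have h : ∀ j, ∃ m : ℕ, j ≤ n → ∀ a ∈ I ^ m, ∀ x : LocCoh.H I j M, a • x = 0 := fun j => by
    by_cases hj : j ≤ n
    · obtain ⟨m, hm⟩ := localCohomology_annihilated I I le_rfl j N (fun a ha x => hJ' j hj a (hN ha) x) M hM
      exact ⟨m, fun _ => hm⟩
    · exact ⟨0, fun h => absurd h hj⟩
  choose m hm using h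
  refine (finite_iff_annihilated I M n).2 ⟨I ^ ((Finset.range (n + 1)).sup m),
    fun a ha => ⟨_, Ideal.pow_mem_pow ha _⟩, fun j hj a ha x => hm j hj a ?_ x⟩ i hi
  exact Ideal.pow_le_pow_right (Finset.le_sup (Finset.mem_range.2 (Nat.lt_succ_of_le hj))) ha

end Groth.Agent.LocCohLib
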