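import Groth.Agent.Lib.LocCoh.Seq
import Groth.Agent.Lib.LocCoh.TopTensor
import Mathlib.Algebra.Module.FinitePresentation
import Mathlib.RingTheory.Localization.Away.Basic

/-!
Annihilation of local cohomology of modules locally free on the punctured spectrum.
-/

set_option autoImplicit false

universe u

open CategoryTheory

noncomputable section

namespace Groth.Agent.LocCohLib

variable {A : Type u} [CommRing A] [IsNoetherianRing A]

theorem exists_factor_free (f : A) {r : ℕ} {M : Type u} [AddCommGroup M] [Module A M] [Module.Finite A M]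
    (π : (Fin r → A) →ₗ[A] M) (hπ : Function.Surjective π)
    (hM : Module.Projective (Localization.Away f) (LocalizedModule (Submonoid.powers f) M)) :
    ∃ (k : ℕ) (s : M →ₗ[A] (Fin r → A)), π ∘ₗ s = f ^ k • LinearMap.id := by
  haveI : Module.FinitePresentation A M := Module.finitePresentation_of_finite A M
  let S := Submonoid.powers f
  let πf := LocalizedModule.map S π
  haveI : Module.Projective (Localization S) (LocalizedModule S M) := hM
  obtain ⟨σ, hσ⟩ := Module.projective_lifting_property πf LinearMap.id (LocalizedModule.map_surjective S π hπ)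
  let g : M →ₗ[A] LocalizedModule S (Fin r → A) := (σ.restrictScalars A) ∘ₗ LocalizedModule.mkLinearMap S M
  obtain ⟨h, t, ht⟩ := Module.FinitePresentation.exists_lift_of_isLocalizedModule S (LocalizedModule.mkLinearMap S (Fin r → A)) g
  have h1 : LocalizedModule.mkLinearMap S M ∘ₗ (π ∘ₗ h) = LocalizedModule.mkLinearMap S M ∘ₗ ((t : A) • LinearMap.id) := by
    refine LinearMap.ext fun m => ?_
    have h2 : πf (LocalizedModule.mkLinearMap S (Fin r → A) (h m)) = (t : A) • πf (g m) := by
      rw [show LocalizedModule.mkLinearMap S (Fin r → A) (h m) = (t : A) • g m from LinearMap.congr_fun ht m, LinearMap.map_smul_of_tower]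
    have h3 : πf (g m) = LocalizedModule.mkLinearMap S M m := LinearMap.congr_fun hσ _
    show LocalizedModule.mkLinearMap S M (π (h m)) = LocalizedModule.mkLinearMap S M ((t : A) • m)
    rw [map_smul, ← h3, ← h2]
    exact (LocalizedModule.map_mk S π (h m) 1).symm
  obtain ⟨⟨_, k, rfl⟩, hk⟩ := Module.Finite.exists_smul_of_comp_eq_of_isLocalizedModule S (LocalizedModule.mkLinearMap S M) _ _ h1
  obtain ⟨l, hl⟩ := t.2
  refine ⟨k + l, f ^ k • h, ?_⟩
  rw [LinearMap.comp_smul]
  have hk' : f ^ k • (π ∘ₗ h) = f ^ k • ((t : A) • (LinearMap.id : M →ₗ[A] M)) := hk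
  rw [hk', ← hl, smul_smul, ← pow_add]

omit [IsNoetherianRing A] in
theorem smul_hmap_eq_zero (I : Ideal A) (i : ℕ) {M : Type u} [AddCommGroup M] [Module A M] {r : ℕ}
    (π : (Fin r → A) →ₗ[A] M) (s : M →ₗ[A] (Fin r → A)) {a : A} (ha : ∀ x : LocCoh.H I i A, a • x = 0)
    (x : LocCoh.H I i M) : a • hmap I i (π ∘ₗ s) x = 0 := by
  classical
  have key : ∀ t : Finset (Fin r), a • hmap I i
      (∑ j ∈ t, ((π ∘ₗ LinearMap.single A (fun _ => A) j) ∘ₗ (LinearMap.proj j ∘ₗ s))) x = 0 := fun t => by
    induction t using Finset.induction_on with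
    | empty =>
      rw [Finset.sum_empty, ← zero_smul A (LinearMap.id : M →ₗ[A] M), hmap_smul, zero_smul, LinearMap.zero_apply, smul_zero]
    | insert j t hj ih =>
      rw [Finset.sum_insert hj, hmap_add, LinearMap.add_apply, smul_add, ih, add_zero, hmap_comp, LinearMap.comp_apply,
        ← map_smul, ha, map_zero]
  have hsum : (∑ j, ((π ∘ₗ LinearMap.single A (fun _ => A) j) ∘ₗ (LinearMap.proj j ∘ₗ s))) = π ∘ₗ s :=
    LinearMap.ext fun m => by
      simp only [LinearMap.sum_apply, LinearMap.comp_apply, LinearMap.proj_apply, LinearMap.single_apply]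
      rw [← map_sum, Finset.univ_sum_single]
  exact hsum ▸ key Finset.univ

theorem localCohomology_annihilated (J I : Ideal A) (hJI : J ≤ I) (i n : ℕ)
    (hA : ∀ a ∈ J ^ n, ∀ x : LocCoh.H I i A, a • x = 0) (M : Type u) [AddCommGroup M] [Module A M] [Module.Finite A M]
    (hM : ∀ f ∈ I, Module.Projective (Localization.Away f) (LocalizedModule (Submonoid.powers f) M)) :
    ∃ m : ℕ, ∀ a ∈ J ^ m, ∀ x : LocCoh.H I i M, a • x = 0 := by
  obtain ⟨r, π, hπ⟩ := Module.Finite.exists_fin' A M
  -- `B`: elements killing `J^n H`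
  let B : Ideal A := (⊤ : Ideal A) ⊓ ⨅ a : ↥(J ^ n), ⨅ x : LocCoh.H I i M,
    (LinearMap.ker (LinearMap.toSpanSingleton A (LocCoh.H I i M) ((a : A) • x)))
  have hB : I ≤ B.radical := fun f hf => by
    obtain ⟨k, s, hs⟩ := exists_factor_free f π hπ (hM f hf)
    refine ⟨k, trivial, (Submodule.mem_iInf _).2 fun a => (Submodule.mem_iInf _).2 fun x => ?_⟩
    rw [LinearMap.mem_ker, LinearMap.toSpanSingleton_apply, smul_comm]
    have := smul_hmap_eq_zero I i π s (hA _ a.2) x
    rwa [hs, hmap_smul, hmap_id] at this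
  obtain ⟨N, hN⟩ := Ideal.exists_pow_le_of_le_radical_of_fg hB (IsNoetherian.noetherian I)
  refine ⟨n + N, fun a ha x => ?_⟩
  rw [pow_add] at ha
  refine Submodule.mul_induction_on ha (fun b hb c hc => ?_) fun b c hb hc => by rw [add_smul, hb, hc, add_zero]
  have hc' := (Submodule.mem_iInf _).1 ((Submodule.mem_iInf _).1 (hN (Ideal.pow_right_mono hJI N hc)).2 ⟨b, hb⟩) x
  rw [LinearMap.mem_ker, LinearMap.toSpanSingleton_apply] at hc'
  rw [mul_comm, mul_smul]
  exact hc'

end Groth.Agent.LocCohLib
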