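import Groth.Agent.Lib.LocCoh.TildePunct27
import Groth.Agent.Lib.LocCoh.Seq
import Groth.Agent.Lib.ModM1.Exact
import Groth.Agent.Lib.InjHull.Torsion

/-!
# Sections of `tilde` on a punctured open and `H^1`
-/

set_option autoImplicit false

universe u

open CategoryTheory AlgebraicGeometry TopologicalSpace Opposite Groth.Agent.InjHullLib

noncomputable section

namespace Groth.Agent.LocCohSheafLib

open Groth.Agent.M1 Groth.Agent.LocCohLib

variable {R : Type u} [CommRing R] {M N : Type u} [AddCommGroup M] [Module R M] [AddCommGroup N] [Module R N]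

theorem app_toOpen {A : CommRingCat.{u}} {X Y : ModuleCat.{u} A} (φ : X ⟶ Y) (W : (Spec A).Opens) (m : X) :
    ((modulesSpecToSheaf.map (tilde.map φ)).1.app (op W)).hom ((tilde.toOpen X W).hom m) = (tilde.toOpen Y W).hom (φ.hom m) :=
  LinearMap.congr_fun (congrArg ModuleCat.Hom.hom (tilde.toOpen_map_app φ W)) m

theorem toOpen_top_bijective {A : CommRingCat.{u}} (X : ModuleCat.{u} A) :
    Function.Bijective (tilde.toOpen X ⊤).hom :=
  ConcreteCategory.bijective_of_isIso (tilde.toOpen X ⊤)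

theorem app_zero {A : CommRingCat.{u}} {X Y : ModuleCat.{u} A} (W : (Spec A).Opens) (s : Γ(tilde X, W)) :
    (tilde.map (0 : X ⟶ Y)).app W s = 0 := by
  rw [tilde.map_zero, Scheme.Modules.Hom.zero_app]
  rfl

theorem exists_app_eq {A : CommRingCat.{u}} {S : ShortComplex (ModuleCat.{u} A)} (hS : S.ShortExact)
    (W : (Spec A).Opens) (s : Γ(tilde S.X₂, W)) (hs : (tilde.map S.g).app W s = 0) :
    ∃ t, (tilde.map S.f).app W t = s := by
  have hS' := hS.map_of_exact (tilde.functor A)
  haveI := hS'.mono_f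
  exact sections_exact hS'.exact W s hs

/-- The map induced on sections. -/
def secMap (φ : M →ₗ[R] N) (W : (Spec (CommRingCat.of R)).Opens) : Sec M W →ₗ[R] Sec N W :=
  ((modulesSpecToSheaf.map (tilde.map (R := CommRingCat.of R) (ModuleCat.ofHom φ))).1.app (op W)).hom

theorem secMap_toS (φ : M →ₗ[R] N) (W : (Spec (CommRingCat.of R)).Opens) (m : M) :
    secMap φ W (toS M W m) = toS N W (φ m) :=
  app_toOpen (A := CommRingCat.of R) (X := ModuleCat.of R M) (Y := ModuleCat.of R N) (ModuleCat.ofHom φ) W m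

theorem secMap_comp {P : Type u} [AddCommGroup P] [Module R P] (φ : M →ₗ[R] N) (ψ : N →ₗ[R] P)
    (W : (Spec (CommRingCat.of R)).Opens) (s : Sec M W) : secMap (ψ ∘ₗ φ) W s = secMap ψ W (secMap φ W s) := by
  unfold secMap
  rw [ModuleCat.ofHom_comp, tilde.map_comp, Functor.map_comp]
  rfl

theorem toS_top_bijective : Function.Bijective (toS M (⊤ : (Spec (CommRingCat.of R)).Opens)) :=
  toOpen_top_bijective (A := CommRingCat.of R) (ModuleCat.of R M)

theorem secMap_injective {φ : M →ₗ[R] N} (hφ : Function.Injective φ) (W : (Spec (CommRingCat.of R)).Opens) :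
    Function.Injective (secMap φ W) := by
  haveI : Mono (ModuleCat.ofHom φ) := (ModuleCat.mono_iff_injective _).2 hφ
  haveI := tilde_map_mono (R := CommRingCat.of R) (M := ModuleCat.of R M) (N := ModuleCat.of R N) (ModuleCat.ofHom φ)
  exact app_injective (tilde.map (R := CommRingCat.of R) (ModuleCat.ofHom φ)) W

theorem exists_secMap_eq {P : Type u} [AddCommGroup P] [Module R P] {f : M →ₗ[R] N} {g : N →ₗ[R] P}
    (hf : Function.Injective f) (hg : Function.Surjective g) (hfg : Function.Exact f g)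
    (W : (Spec (CommRingCat.of R)).Opens) (s : Sec N W) (hs : secMap g W s = 0) : ∃ t, secMap f W t = s := by
  exact exists_app_eq (A := CommRingCat.of R) (shortExact_mk f g hf hg hfg) W s hs

variable [IsNoetherianRing R] (a : Ideal R)

theorem toS_eq_zero_iff (u : M) : toS M (LocCoh.puncturedOpen R a) u = 0 ↔ u ∈ powTors a M := by
  have h := SetLike.ext_iff.1 (ker_rho M (a := a) (le_top : LocCoh.puncturedOpen R a ≤ ⊤)) ((toS M (⊤ : (Spec (CommRingCat.of R)).Opens)) u)
  rw [LinearMap.mem_ker, rho_toS, mem_iSup_torsionBy] at h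
  rw [h, mem_powTors_iff]
  refine exists_congr fun n => forall₂_congr fun r _ => ?_
  rw [← map_smul, map_eq_zero_iff _ toS_top_bijective.injective]

theorem exists_pow_smul_eq_toS (t : Sec M (LocCoh.puncturedOpen R a)) :
    ∃ n : ℕ, ∀ r ∈ a ^ n, ∃ u : M, toS M (LocCoh.puncturedOpen R a) u = r • t := by
  obtain ⟨n, hn⟩ := exists_pow_smul_mem_range M (le_top : LocCoh.puncturedOpen R a ≤ ⊤) t
  refine ⟨n, fun r hr => ?_⟩
  obtain ⟨s, hs⟩ := hn r hr
  obtain ⟨u, rfl⟩ := toS_top_bijective.surjective s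
  exact ⟨u, (rho_toS M _ u).symm.trans hs⟩

theorem eq_zero_of_pow_smul (t : Sec M (LocCoh.puncturedOpen R a)) (n : ℕ) (h : ∀ r ∈ a ^ n, r • t = 0) : t = 0 := by
  have hmem : t ∈ LinearMap.ker (rho M (le_refl (LocCoh.puncturedOpen R a))) := by
    rw [ker_rho M le_rfl, mem_iSup_torsionBy]
    exact ⟨n, h⟩
  rw [LinearMap.mem_ker] at hmem
  rw [← hmem]
  exact ((ConcreteCategory.congr_hom (((modulesSpecToSheaf.obj (tilde (R := CommRingCat.of R) (ModuleCat.of R M))).presheaf).map_id
    (op (LocCoh.puncturedOpen R a))) t)).symm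

/-- Sections of the sheaf of an injective module over a punctured open extend. -/
theorem toS_surjective_of_injective {E : Type u} [AddCommGroup E] [Module R E] [hE : Module.Injective R E] :
    Function.Surjective (toS E (LocCoh.puncturedOpen R a)) := fun t => by
  let U := LocCoh.puncturedOpen R a
  let T := powTors a E
  have hker : LinearMap.ker (toS E U) = T := Submodule.ext fun u => toS_eq_zero_iff a u
  have hT : Module.Injective R T := injective_powTors hE a
  obtain ⟨ret, hret⟩ := hT.out T.subtype T.injective_subtype LinearMap.id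
  let σ : E →ₗ[R] E := LinearMap.id - T.subtype ∘ₗ ret
  have hσT : LinearMap.ker (toS E U) ≤ LinearMap.ker σ := fun u hu => by
    rw [hker] at hu
    have := hret ⟨u, hu⟩
    simp only [Submodule.subtype_apply, LinearMap.id_apply] at this
    simp [σ, this]
  have hσ : ∀ u, toS E U (σ u) = toS E U u := fun u => by
    have h : toS E U (ret u : E) = 0 := (toS_eq_zero_iff a _).2 (ret u).2
    simp [σ, h]
  let σ' : LinearMap.range (toS E U) →ₗ[R] E :=
    (LinearMap.ker (toS E U)).liftQ σ hσT ∘ₗ (toS E U).quotKerEquivRange.symm.toLinearMap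
  have hσ' : ∀ w, toS E U (σ' w) = w := fun w => by
    obtain ⟨q, rfl⟩ := (toS E U).quotKerEquivRange.surjective w
    obtain ⟨u, rfl⟩ := Submodule.Quotient.mk_surjective _ q
    simp only [σ', LinearMap.comp_apply, LinearEquiv.coe_coe, LinearEquiv.symm_apply_apply, Submodule.liftQ_apply, hσ]
    rfl
  obtain ⟨n, hn⟩ := exists_pow_smul_eq_toS a t
  let g : ↥(a ^ n) →ₗ[R] E := σ' ∘ₗ LinearMap.codRestrict _ ((LinearMap.toSpanSingleton R _ t) ∘ₗ (a ^ n).subtype)
    fun r => hn r r.2
  obtain ⟨e, he⟩ := hE.out (a ^ n).subtype (Submodule.injective_subtype _) g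
  refine ⟨e 1, sub_eq_zero.1 (eq_zero_of_pow_smul a _ n fun r hr => ?_)⟩
  rw [smul_sub, ← map_smul, ← map_smul, smul_eq_mul, mul_one, sub_eq_zero]
  refine (congrArg (toS E U) (he ⟨r, hr⟩)).trans ?_
  simp only [g, LinearMap.comp_apply, hσ']
  rfl

/-- The cokernel of `C → Γ(U, C~)` is `H^1_a(C)`. -/
theorem nonempty_coker_toS_equiv (C : Type u) [AddCommGroup C] [Module R C] :
    Nonempty ((Sec C (LocCoh.puncturedOpen R a) ⧸ LinearMap.range (toS C (LocCoh.puncturedOpen R a))) ≃ₗ[R]
      LocCoh.H a 1 C) := by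
  set U := LocCoh.puncturedOpen R a
  obtain ⟨E, _, _, f, hE, hf, hac⟩ := exists_injective_extension (R := R) C
  let g := (LinearMap.range f).mkQ
  have hg : Function.Surjective g := Submodule.mkQ_surjective _
  obtain ⟨e1⟩ := nonempty_h1Equiv a hf hg f.exact_map_mkQ_range (hac a 0)
  let P : Submodule R E := (powTors a (E ⧸ LinearMap.range f)).comap g
  have hP : ∀ z : P, ∃ s : Sec C U, secMap f U s = toS E U z := fun z =>
    exists_secMap_eq hf hg f.exact_map_mkQ_range U _ ((secMap_toS g U z.1).trans ((toS_eq_zero_iff a _).2 z.2))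
  choose ρ hρ using hP
  let ρl : P →ₗ[R] Sec C U :=
    { toFun := ρ
      map_add' := fun x y => secMap_injective hf U (by rw [map_add, hρ, hρ, hρ, Submodule.coe_add, map_add])
      map_smul' := fun r x => secMap_injective hf U (by rw [RingHom.id_apply, map_smul, hρ, hρ, Submodule.coe_smul, map_smul]) }
  let θ₁ := (LinearMap.range (toS C U)).mkQ ∘ₗ ρl
  let θ₂ : P →ₗ[R] LocCoh.H a 1 C :=
    e1.toLinearMap ∘ₗ (torsImage a g).mkQ ∘ₗ LinearMap.codRestrict _ (g ∘ₗ P.subtype) fun z => z.2
  have h2 : Function.Surjective θ₂ := fun x => by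
    obtain ⟨c, rfl⟩ := (e1.surjective.comp (Submodule.mkQ_surjective _)) x
    obtain ⟨z, hz⟩ := hg c.1
    refine ⟨⟨z, by rw [Submodule.mem_comap, hz]; exact c.2⟩, ?_⟩
    exact congrArg (fun w => e1 ((torsImage a g).mkQ w)) (Subtype.ext hz)
  have h1 : Function.Surjective θ₁ := fun x => by
    obtain ⟨s, rfl⟩ := Submodule.Quotient.mk_surjective _ x
    obtain ⟨z, hz⟩ := toS_surjective_of_injective a (secMap f U s)
    have hzP : z ∈ P := by
      rw [Submodule.mem_comap, ← toS_eq_zero_iff, ← secMap_toS, hz, ← secMap_comp]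
      rw [show g ∘ₗ f = (0 : C →ₗ[R] E ⧸ LinearMap.range f) from LinearMap.ext fun c =>
        (Submodule.Quotient.mk_eq_zero _).2 ⟨c, rfl⟩]
      exact app_zero (A := CommRingCat.of R) (X := ModuleCat.of R C) (Y := ModuleCat.of R (E ⧸ LinearMap.range f)) U s
    exact ⟨⟨z, hzP⟩, congrArg _ (secMap_injective hf U ((hρ ⟨z, hzP⟩).trans hz))⟩
  have hk : LinearMap.ker θ₁ = LinearMap.ker θ₂ := by
    ext z
    simp only [θ₁, θ₂, LinearMap.mem_ker, LinearMap.comp_apply, Submodule.mkQ_apply, LinearEquiv.coe_coe,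
      map_eq_zero_iff e1 e1.injective, Submodule.Quotient.mk_eq_zero, mem_torsImage, LinearMap.codRestrict_apply,
      Submodule.subtype_apply, LinearMap.mem_range]
    constructor
    · rintro ⟨c, hc⟩
      refine ⟨(z : E) - f c, (toS_eq_zero_iff a _).1 ?_, ?_⟩
      · rw [map_sub, ← hρ z, ← secMap_toS]
        exact sub_eq_zero.2 (congrArg (secMap f U) hc).symm
      · rw [map_sub, show g (f c) = 0 from (Submodule.Quotient.mk_eq_zero _).2 ⟨c, rfl⟩, sub_zero]
    · rintro ⟨b, hb, hbz⟩
      obtain ⟨c, hc⟩ := (Submodule.Quotient.eq _).1 hbz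
      refine ⟨-c, secMap_injective hf U ?_⟩
      show secMap f U _ = secMap f U (ρ z)
      rw [secMap_toS, hρ, map_neg, hc, neg_sub, map_sub, (toS_eq_zero_iff a b).2 hb, sub_zero]
  exact ⟨(θ₁.quotKerEquivOfSurjective h1).symm ≪≫ₗ Submodule.quotEquivOfEq _ _ hk ≪≫ₗ θ₂.quotKerEquivOfSurjective h2⟩

end Groth.Agent.LocCohSheafLib
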