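import Groth.Agent.Lib.LocCoh.Change
import Groth.Agent.Lib.LocCoh.Dim
import Groth.Agent.Lib.LocCoh.Restrict
import Mathlib.RingTheory.Jacobson.Ideal
import Mathlib.RingTheory.Localization.Away.Basic
import Mathlib.RingTheory.KrullDimension.Basic

/-!
# Removing an element of the Jacobson radical from the ideal, in top degrees
-/

universe u

open CategoryTheory Groth.Agent.InjHullLib

noncomputable section

namespace Groth.Agent.LocCohLib

variable {A : Type u} [CommRing A] [IsNoetherianRing A]

omit [IsNoetherianRing A] in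
theorem ringKrullDim_away_lt {x : A} (hx : x ∈ (⊥ : Ideal A).jacobson) {d : ℕ}
    (hd : ringKrullDim A ≤ d) : ringKrullDim (Localization.Away x) < (d : WithBot ℕ∞) := by
  have key : ∀ l : LTSeries (PrimeSpectrum (Localization.Away x)), l.length < d := by
    intro l
    let φ : PrimeSpectrum (Localization.Away x) → PrimeSpectrum A :=
      PrimeSpectrum.comap (algebraMap A (Localization.Away x))
    have hφ : StrictMono φ := Monotone.strictMono_of_injective
      (fun a b h => Ideal.comap_mono h)
      (PrimeSpectrum.localization_comap_injective (Localization.Away x) (Submonoid.powers x))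
    have hnot : x ∉ (φ l.last).asIdeal := fun h =>
      l.last.isPrime.ne_top (Ideal.eq_top_of_isUnit_mem _ h
        (IsLocalization.Away.algebraMap_isUnit x))
    obtain ⟨m, hm, hle⟩ := Ideal.exists_le_maximal _ (φ l.last).isPrime.ne_top
    have hxm : x ∈ m := (Ideal.mem_sInf.1 hx) ⟨bot_le, hm⟩
    have hlt : (l.map φ hφ).last < (⟨m, hm.isPrime⟩ : PrimeSpectrum A) := by
      rw [LTSeries.last_map]
      exact lt_of_le_of_ne hle fun h => hnot (h ▸ hxm)
    have h2 : (((l.map φ hφ).snoc ⟨m, hm.isPrime⟩ hlt).length : WithBot ℕ∞) ≤ ringKrullDim A :=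
      Order.LTSeries.length_le_krullDim _
    have h3 := h2.trans hd
    rw [RelSeries.snoc_length] at h3
    change ((l.length + 1 : ℕ) : WithBot ℕ∞) ≤ (d : WithBot ℕ∞) at h3
    exact_mod_cast h3
  rw [ringKrullDim, Order.krullDim]
  rcases Nat.eq_zero_or_pos d with rfl | hd0
  · rw [iSup_lt_iff]
    refine ⟨⊥, by simp, fun l => absurd (key l) (Nat.not_lt_zero _)⟩
  · refine lt_of_le_of_lt (iSup_le fun l => ?_) (b := ((d - 1 : ℕ) : WithBot ℕ∞))
      (by exact_mod_cast Nat.sub_lt hd0 Nat.one_pos)
    exact_mod_cast Nat.le_sub_one_of_lt (key l)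

/-- Local cohomology along `I` of a module on which `x` is invertible vanishes in degrees `≥ dim A`. -/
theorem subsingleton_localized_away {x : A} (hx : x ∈ (⊥ : Ideal A).jacobson) {d : ℕ}
    (hd : ringKrullDim A ≤ d) (I : Ideal A) (M : Type u) [AddCommGroup M] [Module A M] {i : ℕ}
    (hi : d ≤ i) : Subsingleton (LocCoh.H I i (LocalizedModule (Submonoid.powers x) M)) := by
  rw [← subsingleton_restrictScalars_iff (Localization.Away x)]
  have : IsNoetherianRing (Localization.Away x) :=
    IsLocalization.isNoetherianRing (Submonoid.powers x) _ inferInstance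
  exact subsingleton_of_supportDim_lt _ _ i (((Module.supportDim_le_ringKrullDim _ _).trans_lt
    (ringKrullDim_away_lt hx hd)).trans_le (by exact_mod_cast hi))

omit [IsNoetherianRing A] in
theorem smul_bijective_localized_away (x : A) (M : Type u) [AddCommGroup M] [Module A M] :
    Function.Bijective fun y : LocalizedModule (Submonoid.powers x) M => x • y :=
  (Module.End.isUnit_iff _).1 (IsLocalizedModule.map_units
    (LocalizedModule.mkLinearMap (Submonoid.powers x) M) ⟨x, Submonoid.mem_powers x⟩)

/-- If `x` is in the Jacobson radical, vanishing along `I + (x)` in degrees `≥ dim` gives it along `I`. -/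
theorem vanishing_of_vanishing_sup {x : A} (hx : x ∈ (⊥ : Ideal A).jacobson) {d : ℕ}
    (hd : ringKrullDim A ≤ d) (hd0 : 0 < d) (I : Ideal A)
    (h : ∀ (M : Type u) [AddCommGroup M] [Module A M] (i : ℕ), d ≤ i →
      Subsingleton (LocCoh.H (I ⊔ Ideal.span {x}) i M))
    (M : Type u) [AddCommGroup M] [Module A M] {i : ℕ} (hi : d ≤ i) :
    Subsingleton (LocCoh.H I i M) := by
  let K := Ideal.span {x}
  let ι := LocalizedModule.mkLinearMap (Submonoid.powers x) M
  let T := LinearMap.ker ι
  let N := LinearMap.range ι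
  have hT : LocCoh.IsPowerTorsion K T := fun t => by
    obtain ⟨⟨_, n, rfl⟩, hs⟩ := (IsLocalizedModule.eq_zero_iff (Submonoid.powers x) ι).1
      (LinearMap.mem_ker.1 t.2)
    refine ⟨n, fun a ha => ?_⟩
    rw [Ideal.span_singleton_pow, Ideal.mem_span_singleton] at ha
    obtain ⟨c, rfl⟩ := ha
    refine Subtype.ext ?_
    change (x ^ n * c) • (t : M) = 0
    rw [mul_comm, mul_smul]
    exact (congrArg (c • ·) hs).trans (smul_zero c)
  have hC : LocCoh.IsPowerTorsion K (LocalizedModule (Submonoid.powers x) M ⧸ N) := fun y => by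
    obtain ⟨y, rfl⟩ := Submodule.Quotient.mk_surjective _ y
    obtain ⟨⟨m, ⟨_, n, rfl⟩⟩, hy⟩ := IsLocalizedModule.surj (Submonoid.powers x) ι y
    refine ⟨n, fun a ha => ?_⟩
    rw [Ideal.span_singleton_pow, Ideal.mem_span_singleton] at ha
    obtain ⟨c, rfl⟩ := ha
    rw [← Submodule.Quotient.mk_smul, Submodule.Quotient.mk_eq_zero, mul_comm, mul_smul]
    exact N.smul_mem c ⟨m, hy.symm⟩
  have hTv : Subsingleton (LocCoh.H I i T) := by
    obtain ⟨e⟩ := nonempty_congr_sup I K i T hT
    have := h T i hi
    exact e.symm.toEquiv.subsingleton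
  have hML : ∀ q, Subsingleton (LocCoh.H (I ⊔ K) q (LocalizedModule (Submonoid.powers x) M)) :=
    fun q => subsingleton_of_smul_bijective (b := x)
      ((le_sup_right : K ≤ I ⊔ K) (Ideal.mem_span_singleton_self x)) _
      (smul_bijective_localized_away x M) q
  obtain ⟨j, rfl⟩ := Nat.exists_eq_add_of_le' (Nat.one_le_of_lt (hd0.trans_le hi))
  have hCv : Subsingleton (LocCoh.H I j (LocalizedModule (Submonoid.powers x) M ⧸ N)) := by
    obtain ⟨e⟩ := nonempty_congr_sup I K j _ hC
    have := h N (j + 1) hi
    have h1 : Subsingleton (LocCoh.H (I ⊔ K) j (LocalizedModule (Submonoid.powers x) M ⧸ N)) :=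
      (δEquiv (I ⊔ K) N.injective_subtype N.mkQ_surjective (LinearMap.exact_subtype_mkQ N) j (hML j)
        (hML (j + 1))).toEquiv.subsingleton
    exact e.symm.toEquiv.subsingleton
  have hNv : Subsingleton (LocCoh.H I (j + 1) N) :=
    subsingleton_left I N.injective_subtype N.mkQ_surjective (LinearMap.exact_subtype_mkQ N) j hCv
      (subsingleton_localized_away hx hd I M hi)
  exact subsingleton_mid I (f := T.subtype) (g := ι.rangeRestrict) T.injective_subtype
    ι.surjective_rangeRestrict (by
      rw [LinearMap.exact_iff, LinearMap.ker_rangeRestrict, Submodule.range_subtype]) (j + 1) hTv hNv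

/-- From `I'` down to `I` inside the Jacobson radical. -/
theorem vanishing_of_le_jacobson {d : ℕ} (hd : ringKrullDim A ≤ d) (hd0 : 0 < d) {I I' : Ideal A}
    (hle : I ≤ I') (hJ : I' ≤ (⊥ : Ideal A).jacobson)
    (h : ∀ (M : Type u) [AddCommGroup M] [Module A M] (i : ℕ), d ≤ i → Subsingleton (LocCoh.H I' i M))
    (M : Type u) [AddCommGroup M] [Module A M] (i : ℕ) (hi : d ≤ i) :
    Subsingleton (LocCoh.H I i M) := by
  classical
  obtain ⟨s, hs⟩ : I'.FG := IsNoetherian.noetherian _
  suffices key : ∀ t : Finset A, t ⊆ s → ∀ (J : Ideal A), J ≤ I' →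
      (∀ (M : Type u) [AddCommGroup M] [Module A M] (i : ℕ), d ≤ i →
        Subsingleton (LocCoh.H (J ⊔ Ideal.span (t : Set A)) i M)) →
      ∀ (M : Type u) [AddCommGroup M] [Module A M] (i : ℕ), d ≤ i → Subsingleton (LocCoh.H J i M) by
    refine key s subset_rfl I hle ?_ M i hi
    have hsup : I ⊔ Ideal.span (s : Set A) = I' := by
      rw [show Ideal.span (s : Set A) = I' from hs, sup_eq_right.2 hle]
    rw [hsup]
    exact h
  intro t
  induction t using Finset.induction_on with
  | empty =>
    intro _ J _ hh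
    simpa using hh
  | @insert a t _ ih =>
    intro ht J hJ' hh M _ _ i hi
    have ha : a ∈ I' := hs ▸ Ideal.subset_span (ht (Finset.mem_insert_self a t))
    refine vanishing_of_vanishing_sup (hJ ha) hd hd0 J ?_ M hi
    refine ih (fun z hz => ht (Finset.mem_insert_of_mem hz)) (J ⊔ Ideal.span {a})
      (sup_le hJ' ((Ideal.span_singleton_le_iff_mem _).2 ha)) ?_
    rw [sup_assoc, ← Ideal.span_union, Set.singleton_union, ← Finset.coe_insert]
    exact hh

end Groth.Agent.LocCohLib
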