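import Groth.Agent.Lib.ModM1.Affine
import Groth.Prelude.Def_Wider

/-!
# Sections of `tilde` on a punctured open
-/

set_option autoImplicit false

universe u

open CategoryTheory AlgebraicGeometry TopologicalSpace Opposite

namespace Groth.Agent.LocCohSheafLib

open Groth.Agent.M1

theorem isLocalizedModule_toOpen {A : CommRingCat.{u}} (N : ModuleCat.{u} A) (g : A) :
    IsLocalizedModule (Submonoid.powers g) (tilde.toOpen N (bo g)).hom :=
  inferInstanceAs (IsLocalizedModule.Away g (tilde.toOpen N (PrimeSpectrum.basicOpen g)).hom)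

variable {R : Type u} [CommRing R] (M : Type u) [AddCommGroup M] [Module R M]

/-- Sections of the sheaf associated with `M`. -/
abbrev Sec (W : (Spec (CommRingCat.of R)).Opens) : Type u := ((modulesSpecToSheaf.obj (tilde (R := CommRingCat.of R) (ModuleCat.of R M))).presheaf).obj (op W)

/-- Restriction of sections. -/
noncomputable abbrev rho {V W : (Spec (CommRingCat.of R)).Opens} (h : V ≤ W) : Sec M W →ₗ[R] Sec M V :=
  (((modulesSpecToSheaf.obj (tilde (R := CommRingCat.of R) (ModuleCat.of R M))).presheaf).map (homOfLE h).op).hom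

/-- An element of `M` as a section. -/
noncomputable def toS (W : (Spec (CommRingCat.of R)).Opens) : M →ₗ[R] Sec M W :=
  (tilde.toOpen (R := CommRingCat.of R) (ModuleCat.of R M) W).hom

instance (g : R) : IsLocalizedModule (Submonoid.powers g) (toS M (bo (R := CommRingCat.of R) g)) :=
  isLocalizedModule_toOpen (A := CommRingCat.of R) (ModuleCat.of R M) g

theorem rho_toS {V W : (Spec (CommRingCat.of R)).Opens} (h : V ≤ W) (u : M) :
    rho M h (toS M W u) = toS M V u :=
  ConcreteCategory.congr_hom (tilde.toOpen_res (R := CommRingCat.of R) (ModuleCat.of R M) W V (homOfLE h)) u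

theorem rho_rho {U V W : (Spec (CommRingCat.of R)).Opens} (h : V ≤ W) (h' : U ≤ V) (s : Sec M W) :
    rho M h' (rho M h s) = rho M (h'.trans h) s :=
  (ConcreteCategory.congr_hom (((modulesSpecToSheaf.obj (tilde (R := CommRingCat.of R) (ModuleCat.of R M))).presheaf).map_comp (homOfLE h).op (homOfLE h').op) s).symm

theorem rho_eq_zero_mono {U V W : (Spec (CommRingCat.of R)).Opens} (h : V ≤ W) (h' : U ≤ V) {s : Sec M W}
    (hs : rho M h s = 0) : rho M (h'.trans h) s = 0 := by
  rw [← rho_rho M h h' s, hs, map_zero]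

theorem rho_bijOn_bo (g : R) (n : ℕ) :
    Function.Bijective fun s : Sec M (bo (R := CommRingCat.of R) g) => g ^ n • s :=
  (Module.End.isUnit_iff _).1 (IsLocalizedModule.map_units
    (toS M (bo (R := CommRingCat.of R) g))
    (⟨g ^ n, n, rfl⟩ : Submonoid.powers g))

variable [IsNoetherianRing R]

/-- A section vanishing on `D(f)` is killed by a power of `f`. -/
theorem exists_pow_smul_eq_zero {W : (Spec (CommRingCat.of R)).Opens} (f : R) (s : Sec M W)
    (hs : rho M (inf_le_left : W ⊓ bo (R := CommRingCat.of R) f ≤ W) s = 0) :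
    ∃ n : ℕ, f ^ n • s = 0 := by
  classical
  have hloc : ∀ x : W, ∃ g : R, x.1 ∈ bo (R := CommRingCat.of R) g ∧
      ∃ (h : bo (R := CommRingCat.of R) g ≤ W) (n : ℕ), f ^ n • rho M h s = 0 := by
    intro x
    obtain ⟨V, ⟨g, rfl⟩, hxg, hgW⟩ := Opens.isBasis_iff_nbhd.mp (isBasis_bo (R := CommRingCat.of R)) x.2
    refine ⟨g, hxg, hgW, ?_⟩
    let L := toS M (bo (R := CommRingCat.of R) g)
    obtain ⟨⟨u, ⟨_, k, rfl⟩⟩, hu⟩ := IsLocalizedModule.surj (.powers g) L (rho M hgW s)
    change g ^ k • rho M hgW s = L u at hu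
    have hle : bo (R := CommRingCat.of R) (g * f) ≤ bo (R := CommRingCat.of R) g :=
      PrimeSpectrum.basicOpen_mul_le_left g f
    have hle' : bo (R := CommRingCat.of R) (g * f) ≤ W ⊓ bo (R := CommRingCat.of R) f :=
      le_inf (hle.trans hgW) (PrimeSpectrum.basicOpen_mul_le_right g f)
    have h1 : toS M (bo (R := CommRingCat.of R) (g * f)) u = 0 := by
      have h2 := congrArg (rho M hle) hu
      rw [map_smul, rho_rho, show rho M (hle.trans hgW) s = 0 from rho_eq_zero_mono M inf_le_left hle' hs,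
        smul_zero] at h2
      exact (rho_toS M hle u).symm.trans h2.symm
    obtain ⟨⟨_, j, rfl⟩, hj⟩ := (IsLocalizedModule.eq_zero_iff (.powers (g * f)) _).1 h1
    refine ⟨j, (rho_bijOn_bo M g (j + k)).1 ?_⟩
    show g ^ (j + k) • f ^ j • rho M hgW s = g ^ (j + k) • (0 : Sec M _)
    rw [smul_zero, pow_add, mul_smul, smul_comm (g ^ k) (f ^ j), hu, ← mul_smul, ← mul_pow, ← map_smul]
    exact (congrArg L hj).trans (map_zero L)
  choose g hxg hgW n hn using hloc
  obtain ⟨t, ht⟩ := (IsCompact.elim_finite_subcover (NoetherianSpace.isCompact (W : Set (Spec (CommRingCat.of R))))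
    (fun x : W => (bo (R := CommRingCat.of R) (g x) : Set (Spec (CommRingCat.of R)))) (fun x => (bo _).2)
    fun x hx => Set.mem_iUnion.2 ⟨⟨x, hx⟩, hxg ⟨x, hx⟩⟩)
  refine ⟨t.sup n, ?_⟩
  refine TopCat.Sheaf.eq_of_locally_eq'
    (modulesSpecToSheaf.obj (tilde (R := CommRingCat.of R) (ModuleCat.of R M)))
    (fun x : t => bo (R := CommRingCat.of R) (g x.1)) W (fun x => homOfLE (hgW x.1)) (fun x hx => ?_) _ _ fun x => ?_
  · obtain ⟨y, hy, hxy⟩ := Set.mem_iUnion₂.1 (ht hx)
    exact Opens.mem_iSup.2 ⟨⟨y, hy⟩, hxy⟩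
  · show rho M (hgW x.1) _ = rho M (hgW x.1) 0
    rw [map_smul, map_zero, ← Nat.sub_add_cancel (Finset.le_sup (f := n) x.2), pow_add, mul_smul, hn, smul_zero]

omit [IsNoetherianRing R] in
theorem bo_le_punctured {a : Ideal R} {f : R} (hf : f ∈ a) :
    bo (R := CommRingCat.of R) f ≤ LocCoh.puncturedOpen R a :=
  fun _ hp hz => hp (hz hf)

omit [IsNoetherianRing R] in
theorem directed_torsionBy (a : Ideal R) (N : Type u) [AddCommGroup N] [Module R N] :
    Directed (· ≤ ·) fun n : ℕ => LocCoh.torsionBy (a ^ n) N :=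
  Monotone.directed_le fun _ _ h => Submodule.torsionBySet_le_torsionBySet_of_subset (Ideal.pow_le_pow_right h)

omit [IsNoetherianRing R] in
theorem mem_iSup_torsionBy {a : Ideal R} {N : Type u} [AddCommGroup N] [Module R N] {x : N} :
    x ∈ (⨆ n : ℕ, LocCoh.torsionBy (a ^ n) N) ↔ ∃ n, ∀ r ∈ a ^ n, r • x = 0 := by
  rw [Submodule.mem_iSup_of_directed _ (directed_torsionBy a N)]
  exact ⟨fun ⟨n, hn⟩ => ⟨n, fun r hr => (Submodule.mem_torsionBySet_iff _ _).1 hn ⟨r, hr⟩⟩,
    fun ⟨n, hn⟩ => ⟨n, (Submodule.mem_torsionBySet_iff _ _).2 fun r => hn r r.2⟩⟩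

theorem exists_pow_le_of_forall {a : Ideal R} (J : Ideal R) (h : ∀ f ∈ a, ∃ n : ℕ, f ^ n ∈ J) :
    ∃ n, a ^ n ≤ J :=
  Ideal.exists_pow_le_of_le_radical_of_fg h (IsNoetherian.noetherian a)

/-- The kernel of restriction to the punctured open. -/
theorem ker_rho {a : Ideal R} {W : (Spec (CommRingCat.of R)).Opens} (hUW : LocCoh.puncturedOpen R a ≤ W) :
    LinearMap.ker (rho M hUW) = ⨆ n : ℕ, LocCoh.torsionBy (a ^ n) (Sec M W) := by
  ext s
  rw [LinearMap.mem_ker, mem_iSup_torsionBy]
  constructor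
  · intro hs
    obtain ⟨n, hn⟩ := exists_pow_le_of_forall (a := a) (Submodule.span R {s}).annihilator fun f hf => by
      obtain ⟨n, hn⟩ := exists_pow_smul_eq_zero M f s
        (rho_eq_zero_mono M hUW (inf_le_right.trans (bo_le_punctured hf) : W ⊓ bo (R := CommRingCat.of R) f ≤ _) hs)
      exact ⟨n, (Submodule.mem_annihilator_span_singleton _ _).2 hn⟩
    exact ⟨n, fun r hr => (Submodule.mem_annihilator_span_singleton _ _).1 (hn hr)⟩
  · rintro ⟨n, hn⟩
    have hloc : ∀ x : LocCoh.puncturedOpen R a, ∃ g : R, g ∈ a ∧ x.1 ∈ bo (R := CommRingCat.of R) g := fun x =>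
      Set.not_subset.1 x.2
    choose g hga hxg using hloc
    refine TopCat.Sheaf.eq_of_locally_eq'
      (modulesSpecToSheaf.obj (tilde (R := CommRingCat.of R) (ModuleCat.of R M)))
      (fun x => bo (R := CommRingCat.of R) (g x)) (LocCoh.puncturedOpen R a)
      (fun x => homOfLE (bo_le_punctured (hga x))) (fun x hx => Opens.mem_iSup.2 ⟨⟨x, hx⟩, hxg ⟨x, hx⟩⟩) _ _ fun x => ?_
    show rho M (bo_le_punctured (hga x)) (rho M hUW s) = rho M (bo_le_punctured (hga x)) 0
    refine (rho_bijOn_bo M (g x) n).1 ?_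
    show g x ^ n • _ = g x ^ n • _
    rw [map_zero, rho_rho, ← map_smul, hn _ (Ideal.pow_mem_pow (hga x) n), map_zero, smul_zero]

/-- Modulo extendable sections, sections on the punctured open are power torsion. -/
theorem exists_pow_smul_mem_range {a : Ideal R} {W : (Spec (CommRingCat.of R)).Opens}
    (hUW : LocCoh.puncturedOpen R a ≤ W) (t : Sec M (LocCoh.puncturedOpen R a)) :
    ∃ n : ℕ, ∀ r ∈ a ^ n, r • t ∈ LinearMap.range (rho M hUW) := by
  obtain ⟨n, hn⟩ := exists_pow_le_of_forall (a := a)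
    ((LinearMap.range (rho M hUW)).colon {t}) fun f hf => by
      let L := toS M (bo (R := CommRingCat.of R) f)
      obtain ⟨⟨u, ⟨_, k, rfl⟩⟩, hu⟩ := IsLocalizedModule.surj (.powers f) L (rho M (bo_le_punctured hf) t)
      change f ^ k • rho M (bo_le_punctured hf) t = L u at hu
      let w : Sec M W := toS M W u
      let d := f ^ k • t - rho M hUW w
      have hd : rho M (bo_le_punctured hf) d = 0 := by
        rw [map_sub, map_smul, hu, rho_rho, rho_toS, sub_self]
      obtain ⟨j, hj⟩ := exists_pow_smul_eq_zero M f d (rho_eq_zero_mono M (bo_le_punctured hf) inf_le_right hd)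
      refine ⟨j + k, Submodule.mem_colon_singleton.2 ⟨f ^ j • w, ?_⟩⟩
      rw [smul_sub, ← mul_smul, ← pow_add, sub_eq_zero] at hj
      rw [map_smul, hj]
  exact ⟨n, fun r hr => Submodule.mem_colon_singleton.1 (hn hr)⟩

theorem isPowerTorsion_coker {a : Ideal R} {W : (Spec (CommRingCat.of R)).Opens}
    (hUW : LocCoh.puncturedOpen R a ≤ W) :
    LocCoh.IsPowerTorsion a (Sec M (LocCoh.puncturedOpen R a) ⧸ LinearMap.range (rho M hUW)) := by
  intro q
  obtain ⟨t, rfl⟩ := Submodule.Quotient.mk_surjective _ q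
  obtain ⟨n, hn⟩ := exists_pow_smul_mem_range M hUW t
  exact ⟨n, fun r hr => by
    rw [← Submodule.Quotient.mk_smul, Submodule.Quotient.mk_eq_zero]; exact hn r hr⟩

end Groth.Agent.LocCohSheafLib
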