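import Groth.Prelude.Def_Wider
import Mathlib.Algebra.Homology.Single
import Mathlib.Algebra.Homology.ShortComplex.Abelian
import Mathlib.Algebra.DirectSum.Module
import Mathlib.Algebra.Category.ModuleCat.Abelian
import Mathlib.CategoryTheory.Abelian.Exact
import Mathlib.Algebra.Homology.QuasiIso
import Mathlib.Algebra.Homology.ShortComplex.ModuleCat

/-!
Resolutions of power torsion modules by sums of quotients by powers of the ideal.
-/

set_option autoImplicit false

universe u

open CategoryTheory DirectSum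

noncomputable section

namespace Groth.Agent.LocCohLib.TorsRes

variable {R : Type u} [CommRing R] (I : Ideal R)

/-- Power torsion modules. -/
abbrev Tors : Type (u + 1) := { Z : ModuleCat.{u} R // LocCoh.IsPowerTorsion I Z }

variable {I}

/-- The exponent of an element. -/
def expo (Z : Tors I) (m : Z.1) : ℕ := (Z.2 m).choose

theorem expo_spec (Z : Tors I) (m : Z.1) : ∀ a ∈ I ^ expo Z m, a • m = 0 := (Z.2 m).choose_spec

/-- The cover of a power torsion module. -/
abbrev cov (Z : Tors I) : ModuleCat.{u} R := ModuleCat.of R (⨁ m : Z.1, R ⧸ I ^ expo Z m)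

/-- The cover map. -/
def covπ (Z : Tors I) : cov Z ⟶ Z.1 :=
  haveI := Classical.decEq Z.1
  ModuleCat.ofHom (DirectSum.toModule R Z.1 Z.1 fun m =>
    Submodule.liftQ (I ^ expo Z m) (LinearMap.toSpanSingleton R Z.1 m) fun a ha => expo_spec Z m a ha)

theorem covπ_surjective (Z : Tors I) : Function.Surjective (covπ Z).hom := fun m => by
  classical
  refine ⟨DirectSum.lof R Z.1 _ m (Submodule.Quotient.mk 1), ?_⟩
  rw [covπ, ModuleCat.hom_ofHom, DirectSum.toModule_lof, Submodule.liftQ_apply]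
  exact one_smul _ _

theorem cov_tors (Z : Tors I) : LocCoh.IsPowerTorsion I (cov Z) := fun x => by
  classical
  induction x using DirectSum.induction_on with
  | zero => exact ⟨0, fun a _ => smul_zero a⟩
  | of m y =>
    refine ⟨expo Z m, fun a ha => ?_⟩
    obtain ⟨y, rfl⟩ := Submodule.Quotient.mk_surjective _ y
    rw [← DirectSum.of_smul, ← Submodule.Quotient.mk_smul,
      (Submodule.Quotient.mk_eq_zero _).2 (show a • y ∈ I ^ expo Z m from Ideal.mul_mem_right _ _ ha), map_zero]
  | add x y hx hy =>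
    obtain ⟨n, hn⟩ := hx
    obtain ⟨k, hk⟩ := hy
    exact ⟨max n k, fun a ha => by
      rw [smul_add, hn a (Ideal.pow_le_pow_right (le_max_left _ _) ha),
        hk a (Ideal.pow_le_pow_right (le_max_right _ _) ha), add_zero]⟩

/-- The kernel of the cover. -/
def next (Z : Tors I) : Tors I :=
  ⟨ModuleCat.of R (LinearMap.ker (covπ Z).hom), fun x => by
    obtain ⟨n, hn⟩ := cov_tors Z x.1
    exact ⟨n, fun a ha => Subtype.ext (hn a ha)⟩⟩

/-- The kernels. -/
def syz (Z : Tors I) : ℕ → Tors I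
  | 0 => Z
  | n + 1 => next (syz Z n)

/-- The differential. -/
def dd (Z : Tors I) (n : ℕ) : cov (syz Z (n + 1)) ⟶ cov (syz Z n) :=
  covπ (syz Z (n + 1)) ≫ ModuleCat.ofHom (LinearMap.ker (covπ (syz Z n)).hom).subtype

theorem exact_dd (Z : Tors I) (n : ℕ) : Function.Exact (dd Z n).hom (covπ (syz Z n)).hom := fun x =>
  ⟨fun hx => (covπ_surjective (syz Z (n + 1)) ⟨x, hx⟩).elim fun y hy => ⟨y, congrArg Subtype.val hy⟩,
    fun ⟨y, hy⟩ => hy ▸ ((covπ (syz Z (n + 1))).hom y).2⟩

theorem dd_comp_π (Z : Tors I) (n : ℕ) : dd Z n ≫ covπ (syz Z n) = 0 :=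
  ModuleCat.hom_ext (exact_dd Z n).linearMap_comp_eq_zero

theorem dd_dd (Z : Tors I) (n : ℕ) : dd Z (n + 1) ≫ dd Z n = 0 :=
  (Category.assoc _ _ _).symm.trans (by rw [dd_comp_π]; exact Limits.zero_comp)

theorem exact_dd_dd (Z : Tors I) (n : ℕ) : Function.Exact (dd Z (n + 1)).hom (dd Z n).hom := fun x =>
  Iff.trans ⟨fun h => (Subtype.ext h : (covπ (syz Z (n + 1))).hom x = 0), fun h => congrArg Subtype.val h⟩
    (exact_dd Z (n + 1) x)

/-- The resolution. -/
def res (Z : Tors I) : ChainComplex (ModuleCat.{u} R) ℕ :=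
  ChainComplex.of (fun n => cov (syz Z n)) (dd Z) (dd_dd Z)

theorem res_d (Z : Tors I) (n : ℕ) : (res Z).d (n + 1) n = dd Z n := by
  unfold res
  exact ChainComplex.of_d (fun n => cov (syz Z n)) (dd Z) n

/-- The augmentation. -/
def resπ (Z : Tors I) : res Z ⟶ (ChainComplex.single₀ (ModuleCat.{u} R)).obj Z.1 :=
  (ChainComplex.toSingle₀Equiv _ _).symm ⟨covπ Z, (congrArg (· ≫ covπ Z) (res_d Z 0)).trans (dd_comp_π Z 0)⟩

theorem resπ_f_zero (Z : Tors I) : (resπ Z).f 0 = covπ Z := by
  unfold resπ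
  exact ChainComplex.toSingle₀Equiv_symm_apply_f_zero (C := res Z) (X := Z.1) (covπ Z) _

theorem quasiIso_resπ (Z : Tors I) : QuasiIso (resπ Z) := ⟨fun n => by
  cases n
  · rw [ChainComplex.quasiIsoAt₀_iff, ShortComplex.quasiIso_iff_of_zeros']
    · refine (ShortComplex.exact_and_epi_g_iff_of_iso
        (S₂ := ShortComplex.mk (dd Z 0) (covπ Z) (dd_comp_π Z 0)) ?_).2
        ⟨(ShortComplex.ShortExact.moduleCat_exact_iff_function_exact _).2 (exact_dd Z 0),
          (ModuleCat.epi_iff_surjective _).2 (covπ_surjective Z)⟩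
      exact ShortComplex.isoMk (Iso.refl _) (Iso.refl _) (Iso.refl _)
        ((Category.id_comp _).trans ((res_d Z 0).symm.trans (Category.comp_id _).symm))
        ((Category.id_comp _).trans ((resπ_f_zero Z).symm.trans (Category.comp_id _).symm))
    all_goals rfl
  · rename_i n
    rw [quasiIsoAt_iff_exactAt']
    · rw [HomologicalComplex.exactAt_iff' _ (n + 1 + 1) (n + 1) n (by simp) (by simp),
        ShortComplex.ShortExact.moduleCat_exact_iff_function_exact]
      show Function.Exact ((res Z).d (n + 1 + 1) (n + 1)).hom ((res Z).d (n + 1) n).hom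
      rw [res_d, res_d]
      exact exact_dd_dd Z n
    · apply ChainComplex.exactAt_succ_single_obj⟩

theorem exists_resolution (M : Type u) [AddCommGroup M] [Module R M] (hM : LocCoh.IsPowerTorsion I M) :
    ∃ (K : ChainComplex (ModuleCat.{u} R) ℕ) (π : K ⟶ (ChainComplex.single₀ (ModuleCat.{u} R)).obj (ModuleCat.of R M)),
      QuasiIso π ∧ ∀ i : ℕ, ∃ (ι : Type u) (n : ι → ℕ),
        Nonempty (K.X i ≅ ModuleCat.of R (DirectSum ι fun j => R ⧸ I ^ n j)) :=
  let Z : Tors I := ⟨ModuleCat.of R M, hM⟩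
  ⟨res Z, resπ Z, quasiIso_resπ Z, fun i => ⟨(syz Z i).1, expo (syz Z i), ⟨Iso.refl _⟩⟩⟩

end Groth.Agent.LocCohLib.TorsRes
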